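import Cfsg.Agent.Lib.A8Type36.Lin

/-!
# The automiser of the base has the four group as a Sylow 2-subgroup
-/

set_option autoImplicit false
set_option linter.style.haveILetI false

open Subgroup

namespace Cfsg.Agent.Lib.A8Type36

universe u

theorem sh_mul : ∀ x < 64, ∀ a < 16, cjS x a = app (vL (x / 16)) a := by decide +kernel

namespace Mdl

variable {G : Type u} [Group G] [Finite G] (M : Mdl G)

theorem S_le_nA : (M.S : Subgroup G) ≤ M.nA := fun g hg => by
  obtain ⟨x, hx, rfl⟩ := (M.mem g).1 hg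
  exact M.mem_nA_of_acts (g := vL (x / 16)) fun a ha => by
    rw [← M.map_cj hx (by omega), sh_mul x hx a ha]

theorem acts_code {x : ℕ} (hx : x < 64) : M.Acts (M.ι x) (vL (x / 16)) := fun a ha => by
  rw [← M.map_cj hx (by omega), sh_mul x hx a ha]

/-- The action on the base. -/
def autHom : ↥M.nA →* MulAut ↥M.wSub := Subgroup.normalizerMonoidHom M.wSub

omit [Finite G] in
theorem autHom_apply {n : G} (hn : n ∈ M.nA) (x : ↥M.wSub) :
    ((M.autHom ⟨n, hn⟩ x : ↥M.wSub) : G) = n * x * n⁻¹ := rfl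

omit [Finite G] in
theorem autHom_eq {n m : G} (hn : n ∈ M.nA) (hm : m ∈ M.nA) {g h : ℕ} (hg : M.Acts n g)
    (hh : M.Acts m h) (e : ∀ a < 16, app g a = app h a) : M.autHom ⟨n, hn⟩ = M.autHom ⟨m, hm⟩ := by
  refine MulEquiv.ext fun x => Subtype.ext ?_
  obtain ⟨a, ha, hx⟩ := x.2
  rw [M.autHom_apply, M.autHom_apply, ← hx, hg a ha, hh a ha, e a ha]

omit [Finite G] in
theorem autHom_ne {n m : G} (hn : n ∈ M.nA) (hm : m ∈ M.nA) {g h : ℕ} (hg : M.Acts n g)
    (hh : M.Acts m h) (cg : canon g) (ch : canon h) (e : g ≠ h) :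
    M.autHom ⟨n, hn⟩ ≠ M.autHom ⟨m, hm⟩ := fun he => e (eq_of_app cg ch fun a ha => by
  have h1 := congrArg (fun f : MulAut ↥M.wSub => ((f ⟨M.ι a, M.w_mem ha⟩ : ↥M.wSub) : G)) he
  simp only [M.autHom_apply] at h1
  rw [hg a ha, hh a ha] at h1
  exact M.inj _ (by have := app_lt g a; omega) _ (by have := app_lt h a; omega) h1)

omit [Finite G] in
theorem Acts.pow105 {n : G} {g : ℕ} (h : M.Acts n g) : M.Acts (n ^ 105) (twoPart g) := by
  have h2 : M.Acts (n ^ 2) (mulL g g) := by rw [sq]; exact Acts.mul M h h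
  have h4 := Acts.mul M h2 h2
  have h8 := Acts.mul M h4 h4
  have h32 := Acts.mul M (Acts.mul M h8 h8) (Acts.mul M h8 h8)
  have h105 := Acts.mul M (Acts.mul M h h8) (Acts.mul M h32 (Acts.mul M h32 h32))
  simp only [← pow_add, ← pow_succ', Nat.reduceAdd] at h105
  exact h105

/-- No element of the normaliser acts as a forbidden map. -/
theorem not_badL {n : G} (hn : n ∈ M.nA) {g : ℕ} (hg : M.Acts n g) : badL g = false := by
  haveI : Fact (Nat.Prime 2) := ⟨Nat.prime_two⟩
  rw [Bool.eq_false_iff]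
  intro hb
  simp only [badL, Bool.and_eq_true, Bool.or_eq_true, Bool.not_eq_true'] at hb
  set i := twoPart g
  have hm : n ^ 105 ∈ M.nA := pow_mem hn _
  have hi : M.Acts (n ^ 105) i := Acts.pow105 M hg
  have hci : canon i := canon_mulL _ _
  set K := M.autHom.range
  let π : ↥M.nA →* ↥K := M.autHom.rangeRestrict
  obtain ⟨T, hT⟩ : ∃ T : Sylow 2 ↥M.nA, (T : Subgroup ↥M.nA) = (M.S : Subgroup G).subgroupOf M.nA :=
    ⟨M.S.subtype M.S_le_nA, rfl⟩
  let P : Sylow 2 ↥K := T.mapSurjective M.autHom.rangeRestrict_surjective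
  have hP : ∀ x ∈ (P : Subgroup ↥K), ∃ v < 4, ∃ h : M.ι (16 * v) ∈ M.nA, π ⟨_, h⟩ = x := by
    intro x hx
    obtain ⟨y, hy, rfl⟩ := hx
    rw [SetLike.mem_coe, hT, Subgroup.mem_subgroupOf] at hy
    obtain ⟨c, hc, e⟩ := (M.mem _).1 hy
    refine ⟨c / 16, by omega, M.mem_nA_of_acts (M.acts_vL (v := c / 16) (by omega)), ?_⟩
    refine Subtype.ext ?_
    show M.autHom _ = M.autHom ⟨(y : G), y.2⟩
    exact (M.autHom_eq _ _ (M.acts_vL (by omega)) (e ▸ M.acts_code hc) fun _ _ => rfl)
  have hv : ∀ v < 4, ∀ w < 4, Nat.xor v w < 4 ∧ ∀ a < 16, sh v (sh v a) = a ∧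
      sh v (sh w a) = sh w (sh v a) := by decide
  set k := π ⟨_, hm⟩
  have hexp : ∀ x ∈ (P : Subgroup ↥K), x * x = 1 := by
    intro x hx
    obtain ⟨v, hv4, h, rfl⟩ := hP x hx
    refine Subtype.ext ?_
    show M.autHom ⟨_, h⟩ * M.autHom ⟨_, h⟩ = 1
    rw [← _root_.map_mul, ← _root_.map_one M.autHom]
    exact M.autHom_eq (mul_mem h h) (one_mem _) (Acts.mul M (M.acts_vL hv4) (M.acts_vL hv4)) (Acts.one M)
      fun a ha => by rw [app_mulL _ _ ha, app_vL v hv4 a ha, app_vL v hv4 _ (by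
        have := (fact_sh v hv4 a ha).2.1; omega), app_oneL a ha, ((hv v hv4 v hv4).2 a ha).1]
  have hi2 : mulL (mulL i i) (mulL i i) = oneL := Nat.eq_of_beq_eq_true hb.1
  have hk4 : k * k * (k * k) = 1 := Subtype.ext (by
    show M.autHom _ * M.autHom _ * (M.autHom _ * M.autHom _) = 1
    rw [← _root_.map_mul, ← _root_.map_mul, ← _root_.map_one M.autHom]
    refine M.autHom_eq (mul_mem (mul_mem hm hm) (mul_mem hm hm)) (one_mem _)
      (Acts.mul M (Acts.mul M hi hi) (Acts.mul M hi hi)) (Acts.one M) fun a _ => by rw [hi2])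
  have hkP : IsPGroup 2 (Subgroup.zpowers k) := by
    rintro ⟨x, hx⟩
    obtain ⟨j, rfl⟩ := Subgroup.mem_zpowers_iff.1 hx
    refine ⟨2, Subtype.ext ?_⟩
    show (k ^ j) ^ (2 ^ 2) = 1
    rw [← zpow_natCast, ← zpow_mul, mul_comm, zpow_mul, zpow_natCast,
      show k ^ (2 ^ 2) = k * k * (k * k) by simp [pow_succ, mul_assoc], hk4, one_zpow]
  by_cases hkk : k * k = 1
  · have hne : mulL i i = oneL := by
      by_contra hne
      exact M.autHom_ne (mul_mem hm hm) (one_mem _) (Acts.mul M hi hi) (Acts.one M) (canon_mulL _ _)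
        canon_oneL hne ((_root_.map_mul M.autHom _ _).trans ((congrArg Subtype.val hkk).trans (_root_.map_one M.autHom).symm))
    rcases hb.2 with h2 | h2
    · rw [hne] at h2; simp at h2
    obtain ⟨⟨⟨⟨⟨h0, hc1⟩, hc2⟩, hd1⟩, hd2⟩, hd3⟩ := h2
    have hd : ∀ v < 4, i ≠ vL v := by
      intro v hv4 e
      interval_cases v
      · rw [e, show vL 0 = oneL from by decide] at h0; simp at h0
      · rw [e] at hd1; simp at hd1
      · rw [e] at hd2; simp at hd2
      · rw [e] at hd3; simp at hd3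
    have hcom : (P : Subgroup ↥K) ≤ Subgroup.centralizer (Subgroup.zpowers k : Set ↥K) := by
      intro x hx
      obtain ⟨v, hv4, h, rfl⟩ := hP x hx
      refine Subgroup.mem_centralizer_iff.2 fun y hy => ?_
      obtain ⟨j, rfl⟩ := Subgroup.mem_zpowers_iff.1 hy
      refine (Commute.zpow_left ?_ j).eq
      have e : mulL i (vL v) = mulL (vL v) i := by
        interval_cases v
        · refine eq_of_app (canon_mulL _ _) (canon_mulL _ _) fun a ha => ?_
          rw [app_mulL _ _ ha, app_mulL _ _ ha, show vL 0 = oneL from by decide, app_oneL a ha,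
            app_oneL _ (app_lt _ _)]
        · exact Nat.eq_of_beq_eq_true hc1
        · exact Nat.eq_of_beq_eq_true hc2
        · refine eq_of_app (canon_mulL _ _) (canon_mulL _ _) fun a ha => ?_
          have h3 : ∀ a < 16, app (vL 3) a = app (vL 1) (app (vL 2) a) := by decide
          have hc1' := Nat.eq_of_beq_eq_true hc1
          have hc2' := Nat.eq_of_beq_eq_true hc2
          rw [app_mulL _ _ ha, app_mulL _ _ ha, h3 a ha, h3 _ (app_lt _ _),
            ← app_mulL i (vL 1) (app_lt _ _), hc1', app_mulL _ _ (app_lt _ _),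
            ← app_mulL i (vL 2) ha, hc2', app_mulL _ _ ha]
      refine Subtype.ext ?_
      show M.autHom _ * M.autHom _ = M.autHom _ * M.autHom _
      rw [← _root_.map_mul, ← _root_.map_mul]
      exact M.autHom_eq (mul_mem hm h) (mul_mem h hm) (Acts.mul M hi (M.acts_vL hv4))
        (Acts.mul M (M.acts_vL hv4) hi) fun a _ => by rw [e]
    have hPk : IsPGroup 2 ↥((P : Subgroup ↥K) ⊔ Subgroup.zpowers k) :=
      P.isPGroup'.to_sup_of_normal_right' hkP (fun x hx => Subgroup.mem_normalizer_iff.2 fun y => by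
        have hc := Subgroup.mem_centralizer_iff.1 (hcom hx)
        constructor
        · intro hy
          rwa [← hc y hy, mul_inv_cancel_right]
        · intro hy
          have := hc _ hy
          rw [show y = x * y * x⁻¹ from by
            have h' : x * y = x * (x * y * x⁻¹) := by
              rw [← this]; group
            exact mul_left_cancel h'] 
          exact hy)
    have hle : Subgroup.zpowers k ≤ P := le_sup_right.trans (P.3 hPk le_sup_left).le
    obtain ⟨v, hv4, h, e⟩ := hP k (hle (Subgroup.mem_zpowers k))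
    exact M.autHom_ne h hm (M.acts_vL hv4) hi (canon_vL v hv4) hci (hd v hv4).symm
      (congrArg Subtype.val e)
  · obtain ⟨R, hR⟩ := hkP.exists_le_sylow
    obtain ⟨c, hc⟩ := MulAction.exists_smul_eq ↥K R P
    have hmem : c * k * c⁻¹ ∈ (P : Subgroup ↥K) := by
      rw [← hc]
      exact ⟨k, hR (Subgroup.mem_zpowers k), rfl⟩
    have h1 := hexp _ hmem
    rw [conj_mul, conj_eq_one_iff] at h1
    exact hkk h1

end Mdl

end Cfsg.Agent.Lib.A8Type36
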