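import Cfsg.Agent.Lib.A8Type36.Fusion
import Cfsg.Agent.Lib.Goldschmidt53.Main
import Cfsg.Agent.Lib.Goldschmidt53.RankTwoMin.StructureMain
import Cfsg.Agent.Lib.Goldschmidt53.RankTwoMin.Main
import Cfsg.Agent.Lib.Goldschmidt53.RankTwoMin.Case1
import Cfsg.Agent.Lib.GoldStructure10.Main

/-!
# The base is not strongly closed
-/

set_option autoImplicit false
set_option linter.style.haveILetI false

open Subgroup Cfsg

namespace Cfsg.Agent.Lib.A8Type36

universe u

open Goldschmidt53 GoldStructure10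

/-- Goldschmidt's theorem for simple groups. -/
theorem propSimple : PropSimple.{u} :=
  simple_of_sections (sections_of (RankTwoMin.rankTwoMin RankTwoMin.structure_ RankTwoMin.propCase1))

/-- With trivial odd core, the setting on the normal closure. -/
theorem setting {G : Type u} [Group G] [Finite G] (S : Sylow 2 G) (A : Subgroup G)
    (hA : IsMulCommutative ↥A) (hsc : Cfsg.IsStronglyClosed A (S : Subgroup G))
    (hcore : oddCore G = ⊥) (K : Subgroup G) [K.Normal] (hK : K = Subgroup.normalClosure (A : Set G))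
    (S₀ : Sylow 2 ↥K) (hS₀ : (S₀ : Subgroup ↥K) = (S : Subgroup G).subgroupOf K) :
    Setting S₀ (A.subgroupOf K) := by
  haveI : Fact (Nat.Prime 2) := ⟨Nat.prime_two⟩
  have hAK : A ≤ K := hK ▸ Subgroup.subset_normalClosure
  set A₀ := A.subgroupOf K with hA₀
  have hcl₀ : Cfsg.IsStronglyClosed A₀ (S₀ : Subgroup ↥K) := by
    rw [hS₀]
    exact ⟨fun x hx => hsc.1 hx, fun x hx g hg => hsc.2 (x : G) hx (g : G) hg⟩
  have hgen : Subgroup.normalClosure (A₀ : Set ↥K) = ⊤ := by
    set M := Subgroup.normalClosure (A₀ : Set ↥K) with hM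
    have hAM : ∀ a ∈ A, a ∈ M.map K.subtype := fun a ha =>
      ⟨⟨a, hAK ha⟩, Subgroup.subset_normalClosure (show (⟨a, hAK ha⟩ : ↥K) ∈ A₀ from ha), rfl⟩
    have hconj : ∀ g : G, ∀ a ∈ A, g * a * g⁻¹ ∈ M.map K.subtype := by
      intro g a ha
      have hfr := Sylow.normalizer_sup_eq_top S₀
      have hg : g ∈ normalizer (((S₀ : Subgroup ↥K).map K.subtype : Subgroup G) : Set G) ⊔ K :=
        hfr ▸ mem_top g
      rw [sup_comm, ← SetLike.mem_coe, Subgroup.normal_mul] at hg
      obtain ⟨k, hk, n, hn, rfl⟩ := hg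
      have hna : n * a * n⁻¹ ∈ A := by
        refine hsc.2 a ha n ?_
        have h1 : n * a * n⁻¹ ∈ (S₀ : Subgroup ↥K).map K.subtype :=
          (mem_normalizer_iff.1 hn a).1 ⟨⟨a, hAK ha⟩, by
            show (⟨a, hAK ha⟩ : ↥K) ∈ (S₀ : Subgroup ↥K)
            rw [hS₀]; exact hsc.1 ha, rfl⟩
        obtain ⟨y, hy, hye⟩ := h1
        rw [← hye]
        have hy' : y ∈ (S : Subgroup G).subgroupOf K := hS₀ ▸ hy
        exact hy'
      obtain ⟨y, hy, hye⟩ := hAM _ hna
      refine ⟨(⟨k, hk⟩ : ↥K) * y * (⟨k, hk⟩ : ↥K)⁻¹,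
        Subgroup.Normal.conj_mem inferInstance y hy _, ?_⟩
      have e : (y : G) = n * a * n⁻¹ := hye
      simp [e, mul_assoc]
    have hle : K ≤ M.map K.subtype := by
      conv_lhs => rw [hK]
      refine (Subgroup.closure_le _).2 fun x hx => ?_
      obtain ⟨a, ha, hconjx⟩ := Group.mem_conjugatesOfSet_iff.1 hx
      obtain ⟨g, rfl⟩ := isConj_iff.1 hconjx
      exact hconj g a ha
    refine eq_top_iff.2 fun x _ => ?_
    obtain ⟨y, hy, hyx⟩ := hle x.2
    rwa [← Subtype.ext hyx]
  refine ⟨?_, ?_, hcl₀, hgen, propSimple⟩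
  · have h1 : (Cfsg.pPrimeCore 2 ↥K).map K.subtype ≤ Cfsg.pPrimeCore 2 G :=
      haveI := Cores.normal_map_subtype K (Cfsg.pPrimeCore 2 ↥K)
      Cores.le_pPrimeCore (p := 2) (by
        rw [Subgroup.card_map_of_injective K.subtype_injective]
        exact Cores.pPrimeCore_coprime 2)
    refine (Subgroup.map_eq_bot_iff_of_injective _ K.subtype_injective).1 (le_bot_iff.1 ?_)
    exact h1.trans (le_of_eq hcore)
  · refine ⟨⟨fun x y => Subtype.ext (Subtype.ext ?_)⟩⟩
    exact setLike_mul_comm (s := A) x.2 y.2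

namespace Mdl

variable {G : Type u} [Group G] [Finite G] (M : Mdl G)

theorem card_wSub : Nat.card ↥M.wSub = 16 := by
  let f : Fin 16 → ↥M.wSub := fun a => ⟨M.ι a, M.w_mem a.2⟩
  have hf : Function.Bijective f := by
    refine ⟨fun a b e => Fin.ext (M.inj _ (by omega) _ (by omega) (congrArg Subtype.val e)), ?_⟩
    rintro ⟨g, a, ha, rfl⟩
    exact ⟨⟨a, ha⟩, rfl⟩
  rw [← Nat.card_congr (Equiv.ofBijective f hf)]
  simp

/-- Some involution outside the base is fused into it. -/
theorem exists_out_conj (hres : pResidual 2 G = ⊤) (hcore : oddCore G = ⊥) (hcore2 : pCore 2 G = ⊥)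
    (h6 : ¬ M.Fu 6) :
    ∃ u < 64, outInv u = true ∧ ∃ a < 16, IsConj (M.ι u) (M.ι a) := by
  classical
  haveI : Fact (Nat.Prime 2) := ⟨Nat.prime_two⟩
  by_contra hno
  have hA : IsMulCommutative ↥M.wSub := ⟨⟨fun x y => Subtype.ext (by
    obtain ⟨a, ha, ea⟩ := x.2
    obtain ⟨b, hb, eb⟩ := y.2
    simp only [Subgroup.coe_mul]
    rw [← ea, ← eb, M.w_comm ha hb])⟩⟩
  have hsc : Cfsg.IsStronglyClosed M.wSub (M.S : Subgroup G) := by
    refine ⟨M.wSub_le, ?_⟩
    rintro _ ⟨a, ha, rfl⟩ g hg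
    obtain ⟨x, hx, e⟩ := (M.mem _).1 hg
    have hxx : mulS x x = 0 := M.inj _ (mulS_lt hx hx) 0 (by norm_num) (by
      rw [M.map_mul x hx x hx, e, conj_mul, M.w_sq ha, M.map_zero, mul_one, mul_inv_cancel])
    rcases fact_invol x hx hxx with hlt | ho
    · exact ⟨x, hlt, e⟩
    · exact absurd ⟨x, hx, ho, a, ha, isConj_iff.2 ⟨g⁻¹, by rw [e]; group⟩⟩ hno
  set K := Subgroup.normalClosure (M.wSub : Set G) with hK
  have hAK : M.wSub ≤ K := Subgroup.subset_normalClosure
  obtain ⟨S₀, hS₀⟩ := Balance.exists_sylow_inf_normal M.S K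
  have h := setting M.S M.wSub hA hsc hcore K hK S₀ hS₀
  set A₀ := M.wSub.subgroupOf K with hA₀
  have hcardA : Nat.card ↥A₀ = 16 :=
    (Nat.card_congr (Subgroup.subgroupOfEquivOfLe hAK).toEquiv).trans M.card_wSub
  haveI : (Cfsg.pCore 2 ↥K).Normal := Goldschmidt53.pCore_normal _
  have hP : Cfsg.pCore 2 ↥K = ⊥ := by
    refine (Subgroup.map_eq_bot_iff_of_injective _ K.subtype_injective).1 (le_bot_iff.1 ?_)
    refine le_trans ?_ (le_of_eq hcore2)
    haveI := Cores.normal_map_subtype K (Cfsg.pCore 2 ↥K)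
    exact Cores.le_pCore ((Cores.pCore_isPGroup 2).map _)
  have hlayer : Cfsg.layer ↥K = ⊤ := by
    rw [← h.commutator_eq]
    have := h.sup_commutator
    rwa [hP, bot_sup_eq] at this
  have hcen : ∀ x : ↥K, (∀ y : ↥K, y * x = x * y) → x = 1 := by
    intro x hx
    have h1 : centralizer (Cfsg.layer ↥K : Set ↥K) ≤ Cfsg.pCore 2 ↥K := h.centralizer_layer_le
    rw [hP] at h1
    exact Subgroup.mem_bot.1 (h1 (mem_centralizer_iff.2 fun y _ => hx y))
  obtain ⟨c⟩ := exists_enum ↥K
  -- elements of a component commuting with it are trivial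
  have htriv : ∀ i, ∀ x ∈ c.K i, (∀ y ∈ c.K i, y * x = x * y) → x = 1 := by
    intro i x hx hxc
    refine hcen x fun y => ?_
    obtain ⟨f, rfl⟩ := c.exists_prod (hlayer ▸ Subgroup.mem_top y : y ∈ Cfsg.layer ↥K)
    have : c.prod f ∈ Subgroup.centralizer ({x} : Set ↥K) :=
      c.prod_mem_of f fun j => mem_centralizer_singleton_iff.2 (by
        by_cases hji : j = i
        · subst hji; exact hxc _ (f j).2
        · exact (c.commute hji (f j).2 hx).eq)
    exact mem_centralizer_singleton_iff.1 this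
  have hnorm : ∀ i, (c.K i).Normal := by
    intro i
    refine ⟨fun n hn g => ?_⟩
    obtain ⟨f, rfl⟩ := c.exists_prod (hlayer ▸ Subgroup.mem_top g : g ∈ Cfsg.layer ↥K)
    rw [c.prod_conj f i hn]
    exact mul_mem (mul_mem (f i).2 hn) (inv_mem (f i).2)
  have hfacts : ∀ i, Goldschmidt53.Facts (↥(c.K i) ⧸ Subgroup.center ↥(c.K i)) := fun i =>
    Goldschmidt53.facts _ (h.comp_data (c.comp i)).1
  have hinj : ∀ i, Function.Bijective (QuotientGroup.mk' (Subgroup.center ↥(c.K i))) := fun i => by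
    refine ⟨(MonoidHom.ker_eq_bot_iff _).1 ?_, QuotientGroup.mk'_surjective _⟩
    rw [QuotientGroup.ker_mk', eq_bot_iff]
    intro x hx
    exact Subtype.ext (htriv i x x.2 fun y hy =>
      congrArg Subtype.val (Subgroup.mem_center_iff.1 hx ⟨y, hy⟩))
  have hconj : ∀ i, ∀ u v : ↥K, u ∈ c.K i → v ∈ c.K i → orderOf u = 2 → orderOf v = 2 → IsConj u v := by
    intro i u v hu hv ou ov
    let q := MulEquiv.ofBijective _ (hinj i)
    have h1 := (hfacts i).conj (q ⟨u, hu⟩) (q ⟨v, hv⟩)
      (by rw [q.orderOf_eq, Subgroup.orderOf_mk, ou]) (by rw [q.orderOf_eq, Subgroup.orderOf_mk, ov])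
    obtain ⟨w, hw⟩ := isConj_iff.1 h1
    obtain ⟨w, rfl⟩ := q.surjective w
    rw [← _root_.map_inv, ← _root_.map_mul, ← _root_.map_mul] at hw
    exact isConj_iff.2 ⟨(w : ↥K), congrArg Subtype.val (q.injective hw)⟩
  have hfour : ∀ i, 4 ≤ Nat.card ↥(A₀ ⊓ c.K i : Subgroup ↥K) := by
    intro i
    haveI := hnorm i
    obtain ⟨T, hT⟩ := Balance.exists_sylow_inf_normal S₀ (c.K i)
    let q := MulEquiv.ofBijective _ (hinj i)
    let P := T.mapSurjective (f := q.toMonoidHom) q.surjective
    refine ((hfacts i).four_le P).trans ?_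
    refine Nat.card_le_card_of_injective (fun y => ⟨((q.symm y.1 : ↥(c.K i)) : ↥K), ?_, (q.symm y.1).2⟩) ?_
    · obtain ⟨t, ht, hte⟩ := PGroups.omegaOne_le 2 _ y.2
      have e : q.symm y.1 = t := by rw [← hte]; exact q.symm_apply_apply t
      refine h.invol_mem ?_ ?_
      · rw [e]
        exact (hT.le ht :)
      · have h2 : (y.1) ^ 2 = 1 := PGroups.elemAb_pow ((hfacts i).omega_elementary P) y.2
        rw [← Subgroup.coe_mul, ← _root_.map_mul, ← sq, h2, _root_.map_one, Subgroup.coe_one]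
    · intro y y' e
      have e2 : ((q.symm y.1 : ↥(c.K i)) : ↥K) = ((q.symm y'.1 : ↥(c.K i)) : ↥K) :=
        congrArg (fun t : ↥(A₀ ⊓ c.K i : Subgroup ↥K) => (t : ↥K)) e
      exact Subtype.ext (q.symm.injective (Subtype.ext e2))
  rcases Nat.lt_or_ge c.r 3 with hr | hr
  · rcases Nat.lt_or_ge c.r 2 with hr1 | hr2
    · -- at most one factor: all involutions of the base are conjugate
      rcases Nat.eq_zero_or_pos c.r with h0 | hpos
      · haveI : IsEmpty (Fin c.r) := by rw [h0]; infer_instance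
        obtain ⟨f, hf⟩ := c.exists_prod (hlayer ▸ Subgroup.mem_top (⟨M.ι 15, hAK (M.w_mem (by norm_num))⟩ : ↥K) :
          _ ∈ Cfsg.layer ↥K)
        rw [Subsingleton.elim f 1, _root_.map_one] at hf
        exact M.ι_ne_one (x := 15) (by norm_num) (by norm_num) (congrArg Subtype.val hf).symm
      · have hall : ∀ x : ↥K, x ∈ c.K ⟨0, hpos⟩ := fun x => by
          obtain ⟨f, rfl⟩ := c.exists_prod (hlayer ▸ Subgroup.mem_top x : x ∈ Cfsg.layer ↥K)
          refine c.prod_mem_of f fun j => ?_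
          have : j = ⟨0, hpos⟩ := Fin.ext (by have := j.2; simp only; omega)
          exact this ▸ (f j).2
        have ho : ∀ a < 16, a ≠ 0 → ∀ hm, orderOf (⟨M.ι a, hm⟩ : ↥K) = 2 := fun a ha h0 hm => by
          rw [Subgroup.orderOf_mk]
          exact orderOf_eq_prime (by rw [sq, M.w_sq ha]) (M.ι_ne_one (by omega) h0)
        obtain ⟨w, hw⟩ := isConj_iff.1 (hconj _ _ _ (hall _) (hall _)
          (ho 15 (by norm_num) (by norm_num) (hAK (M.w_mem (by norm_num))))
          (ho 6 (by norm_num) (by norm_num) (hAK (M.w_mem (by norm_num)))))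
        exact h6 (isConj_iff.2 ⟨(w : G), congrArg Subtype.val hw⟩)
    · -- two factors would be interchanged
      have hr' : c.r = 2 := by omega
      let φ : G →* MulAut ↥K := MulAut.conjNormal
      have hperm : ∀ (g : G) i, ∃ j, (c.K i).map (φ g).toMonoidHom = c.K j := fun g i => by
        obtain ⟨j, hj⟩ := c.all _ (Components.Component.map_equiv (φ g) (c.comp i))
        exact ⟨j, hj.symm⟩
      choose σ hσ using hperm
      have hσinj : ∀ g, Function.Injective (σ g) := fun g i j e => c.inj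
        (Subgroup.map_injective (φ g).injective ((hσ g i).trans ((congrArg c.K e).trans (hσ g j).symm)))
      have hσmul : ∀ g g' i, σ (g * g') i = σ g (σ g' i) := fun g g' i => c.inj (by
        rw [← hσ, ← hσ g, ← hσ g', Subgroup.map_map, _root_.map_mul]; rfl)
      let π : G →* Equiv.Perm (Fin c.r) := MonoidHom.mk'
        (fun g => Equiv.ofBijective (σ g) (Finite.injective_iff_bijective.1 (hσinj g)))
        (fun g g' => Equiv.ext fun i => hσmul g g' i)
      have hπ : ∀ g, π g = 1 := by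
        have : pResidual 2 G ≤ π.ker := by
          refine (Subgroup.closure_le _).2 fun g hg => ?_
          have h1 : orderOf (π g) ∣ 2 := by
            refine (_root_.orderOf_dvd_natCard _).trans ?_
            rw [Nat.card_perm, Nat.card_fin, hr']; decide
          exact orderOf_eq_one_iff.1 (Nat.eq_one_of_dvd_coprimes hg (orderOf_map_dvd π g) h1)
        intro g
        exact this (hres ▸ Subgroup.mem_top g)
      have hzi : ∀ i, (⟨M.ι 15, hAK (M.w_mem (by norm_num))⟩ : ↥K) ∈ c.K i := by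
        intro i
        have h4 := hfour i
        obtain ⟨y, hy, hy1⟩ : ∃ y ∈ (A₀ ⊓ c.K i : Subgroup ↥K), y ≠ 1 := by
          by_contra hb
          push Not at hb
          rw [(Subgroup.eq_bot_iff_forall _).2 hb, Subgroup.card_bot] at h4
          omega
        have hinv : ∀ s ∈ (M.S : Subgroup G), ∀ x : ↥K, x ∈ A₀ ⊓ c.K i → φ s x ∈ A₀ ⊓ c.K i := by
          intro s hs x hx
          refine ⟨?_, ?_⟩
          · show s * (x : G) * s⁻¹ ∈ M.wSub
            exact hsc.2 _ hx.1 s (mul_mem (mul_mem hs (M.wSub_le hx.1)) (inv_mem hs))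
          · have e := hσ s i
            have e1 : σ s i = i := congrArg (fun p : Equiv.Perm (Fin c.r) => p i) (hπ s)
            rw [e1] at e
            rw [← e]
            exact ⟨x, hx.2, rfl⟩
        -- commutators with the Sylow subgroup reach the centre
        obtain ⟨x, hx, hx1, hxc⟩ : ∃ x : ↥K, x ∈ A₀ ⊓ c.K i ∧ x ≠ 1 ∧
            ∀ s ∈ (M.S : Subgroup G), φ s x = x := by
          let B : Subgroup ↥(M.S : Subgroup G) :=
            ((A₀ ⊓ c.K i : Subgroup ↥K).map K.subtype).subgroupOf (M.S : Subgroup G)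
          haveI : B.Normal := ⟨fun x hx s => by
            obtain ⟨w, hw, e⟩ := hx
            refine ⟨φ s w, hinv s s.2 w hw, ?_⟩
            show (s : G) * (w : G) * (s : G)⁻¹ = _
            rw [show (w : G) = (x : G) from e]; rfl⟩
          have hBne : B ≠ ⊥ := fun hB => by
            have hyS : (y : G) ∈ (M.S : Subgroup G) := M.wSub_le hy.1
            have : (⟨(y : G), hyS⟩ : ↥(M.S : Subgroup G)) ∈ B := ⟨y, hy, rfl⟩
            rw [hB, Subgroup.mem_bot] at this
            exact hy1 (Subtype.ext (congrArg Subtype.val this :))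
          obtain ⟨⟨b, hb⟩, hb1⟩ := (Subgroup.ne_bot_iff_exists_ne_one).1
            (PGroups.normal_inf_center_ne_bot M.S.2 B hBne)
          obtain ⟨w, hw, e⟩ := hb.1
          refine ⟨w, hw, fun h1 => hb1 (Subtype.ext (Subtype.ext (e.symm.trans (congrArg K.subtype h1) :))),
            fun s hs => Subtype.ext ?_⟩
          have hc := congrArg Subtype.val (Subgroup.mem_center_iff.1 hb.2 ⟨s, hs⟩)
          show s * (w : G) * s⁻¹ = w
          rw [show (w : G) = (b : G) from e]
          exact mul_inv_eq_iff_eq_mul.2 hc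
        obtain ⟨c', hc', ec'⟩ := hx.1
        have h15 : c' = 15 := by
          rcases fact_centre c' (by omega) (fun s hs => M.inj _ (mulS_lt (by omega) hs) _
            (mulS_lt hs (by omega)) (by
              rw [M.map_mul c' (by omega) s hs, M.map_mul s hs c' (by omega), ec']
              have := congrArg Subtype.val (hxc _ (M.ι_mem hs))
              exact (mul_inv_eq_iff_eq_mul.1 this).symm)) with h | h
          · exact absurd (Subtype.ext (by rw [Subgroup.coe_one, ← M.map_zero, ← h]; exact ec'.symm)) hx1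
          · exact h
        subst h15
        exact (show (⟨M.ι 15, _⟩ : ↥K) = x from Subtype.ext ec') ▸ hx.2
      have h01 : (⟨0, by omega⟩ : Fin c.r) ≠ ⟨1, by omega⟩ := fun e => by simpa using congrArg Fin.val e
      have := htriv _ _ (hzi ⟨0, by omega⟩) fun w hw => (c.commute h01 hw (hzi ⟨1, by omega⟩)).eq
      exact M.ι_ne_one (x := 15) (by norm_num) (by norm_num) (congrArg Subtype.val this)
  · -- three factors fill more than the base
    have hij : ∀ i j : Fin c.r, i.val ≠ j.val → i ≠ j := fun i j hne e => hne (congrArg Fin.val e)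
    set i₀ : Fin c.r := ⟨0, by omega⟩
    set i₁ : Fin c.r := ⟨1, by omega⟩
    set i₂ : Fin c.r := ⟨2, by omega⟩
    set B₀ := A₀ ⊓ c.K i₀
    set B₁ := A₀ ⊓ c.K i₁
    set B₂ := A₀ ⊓ c.K i₂
    let p : ↥B₀ × ↥B₁ → ↥A₀ := fun q => ⟨(q.1 : ↥K) * q.2, mul_mem q.1.2.1 q.2.2.1⟩
    have hp : Function.Injective p := by
      rintro ⟨a, b⟩ ⟨a', b'⟩ e
      have e' : ((a : ↥K))⁻¹ * a' = b * (b' : ↥K)⁻¹ := by
        have := congrArg Subtype.val e
        simp only [p] at this
        rw [eq_mul_inv_iff_mul_eq, mul_assoc, ← this]; group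
      have h1 : ((a : ↥K))⁻¹ * a' = 1 := by
        refine htriv i₀ _ (mul_mem (inv_mem a.2.2) a'.2.2) fun w hw => ?_
        rw [e']
        exact (c.commute (hij i₀ i₁ (by simp [i₀, i₁])) hw (mul_mem b.2.2 (inv_mem b'.2.2))).eq
      have h2 := e'.symm.trans h1
      exact Prod.ext (Subtype.ext (inv_mul_eq_one.1 h1)) (Subtype.ext (mul_inv_eq_one.1 h2))
    haveI : Fintype ↥K := Fintype.ofFinite _
    have hsurj : Function.Surjective p := by
      refine ((Fintype.bijective_iff_injective_and_card p).2 ⟨hp, ?_⟩).2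
      apply le_antisymm (Fintype.card_le_of_injective p hp)
      rw [Fintype.card_prod, ← Nat.card_eq_fintype_card, ← Nat.card_eq_fintype_card,
        ← Nat.card_eq_fintype_card, hcardA]
      exact Nat.mul_le_mul (hfour i₀) (hfour i₁)
    obtain ⟨x, hx, hx1⟩ : ∃ x ∈ B₂, x ≠ 1 := by
      by_contra hb
      push Not at hb
      have h4 := hfour i₂
      rw [show A₀ ⊓ c.K i₂ = ⊥ from (Subgroup.eq_bot_iff_forall _).2 hb, Subgroup.card_bot] at h4
      omega
    obtain ⟨⟨a, b⟩, e⟩ := hsurj ⟨x, hx.1⟩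
    refine hx1 (htriv i₂ x hx.2 fun w hw => ?_)
    rw [← show (a : ↥K) * b = x from congrArg Subtype.val e]
    exact ((c.commute (hij i₂ i₀ (by simp [i₂, i₀])) hw a.2.2).mul_right
      (c.commute (hij i₂ i₁ (by simp [i₂, i₁])) hw b.2.2)).eq

end Mdl

end Cfsg.Agent.Lib.A8Type36
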