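import Cfsg.Agent.Lib.A8Type36.Fusion

/-!
# An involution fused into the base is moved into it by the centraliser
-/

set_option autoImplicit false
set_option linter.style.haveILetI false

open Subgroup Cfsg

namespace Cfsg.Agent.Lib.A8Type36

universe u

namespace Mdl

variable {G : Type u} [Group G] [Finite G] (M : Mdl G)

/-- An involution outside the base which is fused into it is moved into it by the centraliser of the
central involution. -/
theorem moves_of_conj {u : ℕ} (hu : u < 64) (ho : outInv u = true) {a : ℕ} (ha : a < 16)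
    (hc : IsConj (M.ι u) (M.ι a)) : ∃ h ∈ M.H, ∃ b < 16, h * M.ι u * h⁻¹ = M.ι b := by
  haveI : Fact (Nat.Prime 2) := ⟨Nat.prime_two⟩
  obtain ⟨x, hx, y, hy, exu, eyu, exy⟩ := fact_out_comm u hu ho
  obtain ⟨g₀, hg₀⟩ := isConj_iff.1 hc
  let C : Subgroup G := Subgroup.centralizer {M.ι a}
  let D : Subgroup G :=
    ((M.S : Subgroup G) ⊓ Subgroup.centralizer {M.ι u}).map (MulAut.conj g₀).toMonoidHom
  have hD : D ≤ C := by
    rintro _ ⟨d, hd, rfl⟩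
    refine mem_centralizer_singleton_iff.2 ?_
    show g₀ * d * g₀⁻¹ * M.ι a = M.ι a * (g₀ * d * g₀⁻¹)
    rw [← hg₀, conj_mul, conj_mul, mem_centralizer_singleton_iff.1 hd.2]
  have hWC : M.wSub ≤ C := by
    rintro _ ⟨b, hb, rfl⟩
    exact mem_centralizer_singleton_iff.2 (M.w_comm hb ha)
  have hW2 : IsPGroup 2 M.wSub := M.S.2.to_le M.wSub_le
  have hD2 : IsPGroup 2 D := (M.S.2.to_le inf_le_left).map _
  obtain ⟨T, hT⟩ := (hW2.comap_subtype (K := C)).exists_le_sylow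
  obtain ⟨R, hR⟩ := (hD2.comap_subtype (K := C)).exists_le_sylow
  obtain ⟨c, hcT⟩ := MulAction.exists_smul_eq C R T
  obtain ⟨T', hT'⟩ := (T.isPGroup'.map C.subtype).exists_le_sylow
  obtain ⟨g, hgT⟩ := MulAction.exists_smul_eq G T' M.S
  have hTS : ∀ t ∈ (T : Subgroup C), g * (t : G) * g⁻¹ ∈ (M.S : Subgroup G) := fun t ht =>
    ZStar.Elements.smul_mem hgT (hT' ⟨t, ht, rfl⟩)
  have hgN : g ∈ M.nA := M.mem_nA_of_le fun b hb =>
    hTS ⟨M.ι b, hWC (M.w_mem hb)⟩ (hT (M.w_mem hb))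
  set k : G := g * c * g₀ with hk
  have key : ∀ t < 64, mulS t u = mulS u t → k * M.ι t * k⁻¹ ∈ (M.S : Subgroup G) := by
    intro t ht e
    have hm : g₀ * M.ι t * g₀⁻¹ ∈ D := ⟨M.ι t, ⟨M.ι_mem ht, mem_centralizer_singleton_iff.2 (by
      rw [← M.map_mul t ht u hu, ← M.map_mul u hu t ht, e])⟩, rfl⟩
    have := hTS _ (ZStar.Elements.smul_mem hcT (hR (show (⟨_, hD hm⟩ : C) ∈ _ from hm)))
    rw [hk, show g * (c : G) * g₀ * M.ι t * (g * (c : G) * g₀)⁻¹ =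
      g * ((c : G) * (g₀ * M.ι t * g₀⁻¹) * (c : G)⁻¹) * g⁻¹ by group]
    exact this
  have hku : k * M.ι u * k⁻¹ ∈ M.wSub := by
    have e : k * M.ι u * k⁻¹ = g * M.ι a * g⁻¹ := by
      rw [hk, show g * (c : G) * g₀ * M.ι u * (g * (c : G) * g₀)⁻¹ =
        g * ((c : G) * (g₀ * M.ι u * g₀⁻¹) * (c : G)⁻¹) * g⁻¹ by group, hg₀,
        mul_inv_eq_iff_eq_mul.2 (mem_centralizer_singleton_iff.1 c.2)]
    rw [e]
    exact (Subgroup.mem_normalizer_iff.1 hgN _).1 (M.w_mem ha)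
  obtain ⟨x', hx', ex⟩ := (M.mem _).1 (key x hx exu)
  obtain ⟨y', hy', ey⟩ := (M.mem _).1 (key y hy eyu)
  obtain ⟨hc16, -⟩ := fact_derived x' hx' y' hy'
  have ec : k * M.ι 15 * k⁻¹ = M.ι (cmS x' y') := by
    rw [M.map_cm hx' hy', ex, ey, ← exy, M.map_cm hx hy]; group
  obtain ⟨n, hn, -, en⟩ := M.fusion ⊤ le_top (i := cmS x' y') (j := 15) hc16 (by norm_num)
    (g := k⁻¹) (Subgroup.mem_top _) (by rw [← ec]; group)
  refine ⟨n * k, mem_centralizer_singleton_iff.2 (mul_inv_eq_iff_eq_mul.1 ?_), ?_⟩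
  · show n * k * M.ι 15 * (n * k)⁻¹ = M.ι 15
    rw [show n * k * M.ι 15 * (n * k)⁻¹ = n * (k * M.ι 15 * k⁻¹) * n⁻¹ by group, ec, en]
  · obtain ⟨b, hb, e⟩ := (Subgroup.mem_normalizer_iff.1 hn _).1 hku
    exact ⟨b, hb, by rw [show n * k * M.ι u * (n * k)⁻¹ = n * (k * M.ι u * k⁻¹) * n⁻¹ by group, e]⟩

end Mdl

end Cfsg.Agent.Lib.A8Type36
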