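import Cfsg.Agent.Lib.A8Type36.Quot
import Cfsg.Agent.Lib.A8Type36.Gold
import Cfsg.Agent.Lib.A8Type36.Moves

/-!
# From the patterns to the configurations
-/

set_option autoImplicit false
set_option maxRecDepth 100000
set_option linter.style.haveILetI false

open Subgroup Cfsg

namespace Cfsg.Agent.Lib.A8Type36

universe u

theorem fact_pair_mem : ∀ u < 64, outInv u = true → u / 16 < 4 ∧ u % 16 ∈ fixV (u / 16) ∧
    ∀ p ∈ fixV (u / 16), p < 16 ∧ mulS p p = 0 := by decide +kernel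

theorem fact_pair_one : ∀ v < 4, (fixV v).getD 1 0 ∈ fixV v ∧ (fixV v).getD 1 0 ≠ 0 ∧
    (fixV v).getD 1 0 ≠ 15 := by decide +kernel

namespace Mdl

variable {G : Type u} [Group G] [Finite G] (M : Mdl G)

omit [Finite G] in
theorem sq_of_fu {x : ℕ} (hx : x < 64) (h : M.Fu x) : mulS x x = 0 := by
  obtain ⟨c, hc⟩ := isConj_iff.1 h
  refine M.inj _ (mulS_lt hx hx) 0 (by norm_num) ?_
  show M.ι (mulS x x) = _
  rw [M.map_mul x hx x hx, ← hc, conj_mul, show M.z = M.ι 15 from rfl, M.w_sq (by norm_num), M.map_zero,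
    mul_one, mul_inv_cancel]

omit [Finite G] in
theorem fu_congr {x y : ℕ} {h : G} (e : h * M.ι x * h⁻¹ = M.ι y) : M.Fu x ↔ M.Fu y := by
  have hc : IsConj (M.ι x) (M.ι y) := isConj_iff.2 ⟨h, e⟩
  exact ⟨fun f => f.trans hc, fun f => f.trans hc.symm⟩

theorem exists_moved (hres : pResidual 2 G = ⊤) (hcore : oddCore G = ⊥) (hcore2 : pCore 2 G = ⊥)
    (h6 : ¬ M.Fu 6) : ∃ h ∈ M.H, ∃ u < 64, outInv u = true ∧ ∃ a < 16, h * M.ι u * h⁻¹ = M.ι a := by
  obtain ⟨u, hu, ho, a, ha, hc⟩ := M.exists_out_conj hres hcore hcore2 h6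
  obtain ⟨h, hh, b, hb, e⟩ := M.moves_of_conj hu ho ha hc
  exact ⟨h, hh, u, hu, ho, b, hb, e⟩

theorem small_pair {P : List Nat} (S : Loc.Small M.bar P) {u p : ℕ} (hu : u < 64)
    (ho : outInv u = true) (hp : p ∈ fixV (u / 16)) (h0 : p ≠ 0) (h15 : p ≠ 15) :
    ∃ h ∈ M.H, h * M.ι u * h⁻¹ = M.ι p := by
  obtain ⟨x, hx⟩ := S.pair hu ho hp h0 h15
  obtain ⟨hp16, hpp⟩ := (fact_pair_mem u hu ho).2.2 p hp
  exact M.lift_conj hu (by omega) (fact_outInv u hu ho).2 hpp hx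

theorem small_fused {P : List Nat} (hP : M.Pat P) (S : Loc.Small M.bar P) (L : List Nat)
    (h16 : ∀ a < 16, (a ∈ L ↔ a ∈ P))
    (hsq : ∀ x ∈ L, x < 64 ∧ mulS x x = 0)
    (hout : ∀ u < 64, outInv u = true → (u ∈ L ↔ (fixV (u / 16)).getD 1 0 ∈ P)) :
    ∀ x < 64, (M.Fu x ↔ x ∈ L) := by
  intro x hx
  by_cases hlt : x < 16
  · rw [hP x hlt, h16 x hlt]
  · by_cases hxx : mulS x x = 0
    · rcases fact_invol x hx hxx with h | ho
      · exact absurd h hlt
      · obtain ⟨hp, h0, h15⟩ := fact_pair_one _ (fact_pair_mem x hx ho).1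
        set p := (fixV (x / 16)).getD 1 0
        have hiff := hout x hx ho
        obtain ⟨h, -, e⟩ := M.small_pair S hx ho hp h0 h15
        rw [M.fu_congr e, hP p ((fact_pair_mem x hx ho).2.2 p hp).1, hiff]
    · exact ⟨fun f => absurd (M.sq_of_fu hx f) hxx, fun f => absurd (hsq x f).2 hxx⟩

theorem small_moves {P : List Nat} (S : Loc.Small M.bar P) :
    ∀ u < 64, outInv u = true → ∃ h ∈ M.H, ∃ a < 16, h * M.ι u * h⁻¹ = M.ι a := by
  intro u hu ho
  obtain ⟨p, hp, h0, h15⟩ : ∃ p ∈ fixV (u / 16), p ≠ 0 ∧ p ≠ 15 :=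
    (show ∀ v < 4, ∃ p ∈ fixV v, p ≠ 0 ∧ p ≠ 15 by decide) _ (fact_pair_mem u hu ho).1
  obtain ⟨h, hh, e⟩ := M.small_pair S hu ho hp h0 h15
  exact ⟨h, hh, p, ((fact_pair_mem u hu ho).2.2 p hp).1, e⟩

theorem small_of_pat (hres : pResidual 2 G = ⊤) (hcore : oddCore G = ⊥) (hcore2 : pCore 2 G = ⊥)
    (hsolv : Group.IsSolvable ↥M.H) {P : List Nat} (hP : M.Pat P) (hP' : P = threeA ∨ P = nineA) :
    Loc.Small M.bar P := by
  have h6 : ¬ M.Fu 6 := fun h => by
    have := (hP 6 (by norm_num)).1 h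
    rcases hP' with rfl | rfl <;> simp [threeA, nineA] at this
  exact ⟨M.ctx hsolv (M.exists_moved hres hcore hcore2 h6), hP', M.bar_inv hP⟩

/-- The seven fused elements in the case of three. -/
def threeL : List Nat := [15, 3, 12, 16, 19, 28, 31]

theorem three_data (hres : pResidual 2 G = ⊤) (hcore : oddCore G = ⊥) (hcore2 : pCore 2 G = ⊥)
    (hsolv : Group.IsSolvable ↥M.H) (hP : M.Pat threeA) :
    (∀ x < 64, (M.Fu x ↔ x ∈ [15, 3, 12, 16, 19, 28, 31])) ∧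
      (∀ h ∈ M.H, ∃ o ∈ M.OH, ∃ n ∈ M.H, (∀ g, n * g * n⁻¹ ∈ M.Q ↔ g ∈ M.Q) ∧ h = o * n) ∧
      ∃ h ∈ M.H, h * M.ι 16 * h⁻¹ = M.ι 3 := by
  have S := M.small_of_pat hres hcore hcore2 hsolv hP (Or.inl rfl)
  exact ⟨M.small_fused hP S _ (by decide +kernel) (by decide +kernel) (by decide +kernel),
    M.frat_of_ctx S.toCtx,
    M.small_pair S (by norm_num) (by decide +kernel) (by decide +kernel) (by norm_num) (by norm_num)⟩

/-- The configuration of nine. -/
theorem nine_case (hres : pResidual 2 G = ⊤) (hcore : oddCore G = ⊥) (hcore2 : pCore 2 G = ⊥)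
    (hsolv : Group.IsSolvable ↥M.H) (hP : M.Pat nineA) : NineCase M := by
  have S := M.small_of_pat hres hcore hcore2 hsolv hP (Or.inr rfl)
  refine ⟨⟨hres, hcore2, hcore, hsolv, M.small_moves S, M.frat_of_ctx S.toCtx⟩,
    M.small_fused hP S _ (by decide +kernel) (by decide +kernel) (by decide +kernel), ?_, ?_⟩
  · exact fun a ha h0 hn => M.other_nine hP a ha h0 fun h => hn
      ((show ∀ a < 16, a ∈ nineA → a ∈ nineL by decide) a ha h)
  · intro h hh e
    have e' : M.toBar ⟨h, hh⟩ * M.bar.ι 9 = M.bar.ι 9 * M.toBar ⟨h, hh⟩ := by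
      rw [bar_ι, ← _root_.map_mul, ← _root_.map_mul]
      refine congrArg M.toBar (Subtype.ext ?_)
      rw [Subgroup.coe_mul, Subgroup.coe_mul, M.inH_val (by norm_num)]
      exact e
    obtain ⟨x, hx, ex⟩ := S.cent_nine e'
    rw [bar_ι, QuotientGroup.mk'_apply, QuotientGroup.mk'_apply, QuotientGroup.eq] at ex
    refine ⟨_, ⟨_, Subgroup.Normal.conj_mem inferInstance _ (inv_mem ex) (⟨h, hh⟩ : ↥M.H), rfl⟩, x, hx, ?_⟩
    show h = (((⟨h, hh⟩ : ↥M.H) * ((⟨h, hh⟩ : ↥M.H)⁻¹ * M.inH x)⁻¹ * (⟨h, hh⟩ : ↥M.H)⁻¹ : ↥M.H) : G) * M.ι x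
    simp only [Subgroup.coe_mul, Subgroup.coe_inv, M.inH_val hx]
    group

/-- The hypotheses of the local analysis in the case of five. -/
theorem five_local (hres : pResidual 2 G = ⊤) (hcore : oddCore G = ⊥) (hcore2 : pCore 2 G = ⊥)
    (hsolv : Group.IsSolvable ↥M.H) (hP : M.Pat fiveL) : Loc.Five M.bar := by
  have h6 : ¬ M.Fu 6 := fun h => by
    have := (hP 6 (by norm_num)).1 h
    simp [fiveL] at this
  refine ⟨M.ctx hsolv (M.exists_moved hres hcore hcore2 h6), M.bar_inv hP, ?_⟩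
  obtain ⟨n, hn, e, ce, he, he1, he3, -⟩ := M.sigma_five hP
  set x := M.toBar ⟨n, hn⟩ with hx
  have hxa : M.bar.Acts x e := fun a ha =>
    M.bar_conj hn (by omega) (by have := app_lt e a; omega) (he a ha)
  have hpow : ∀ j, M.bar.Acts ((x ^ 3) ^ j) oneL := by
    intro j
    induction j with
    | zero => rw [pow_zero]; exact Acts.one _
    | succ j ih =>
      have h3 : M.bar.Acts (x ^ 3) oneL := by
        rw [pow_succ', sq, ← he3]; exact Acts.mul _ hxa (Acts.mul _ hxa hxa)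
      have := Acts.mul _ ih h3
      rw [← pow_succ] at this
      rwa [show mulL oneL oneL = oneL from by decide +kernel] at this
  have h3 : 3 ∣ orderOf x := by
    by_contra hnd
    obtain ⟨j, hj⟩ := exists_pow_eq_self_of_coprime (x := x) (n := 3)
      ((Nat.Prime.coprime_iff_not_dvd Nat.prime_three).2 hnd)
    exact he1 (Acts.eq _ (hj ▸ hpow j) hxa canon_oneL ce).symm
  obtain ⟨d, hd⟩ := h3
  have hord : orderOf x ≠ 0 := (orderOf_pos x).ne'
  have ho : orderOf (x ^ d) = 3 := by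
    have hd0 : d ≠ 0 := fun h => hord (by rw [hd, h, mul_zero])
    rw [orderOf_pow' x hd0, hd, Nat.gcd_mul_left_left, Nat.mul_div_cancel _ (Nat.pos_of_ne_zero hd0)]
  refine ⟨x ^ d, ho ▸ pow_orderOf_eq_one _, fun h => by rw [h, orderOf_one] at ho; omega, fun a ha => ?_⟩
  have hmem : x ^ d ∈ M.bar.nA := pow_mem (M.bar.mem_nA_of_acts hxa) d
  obtain ⟨b, hb, eb⟩ := (Subgroup.mem_normalizer_iff.1 hmem _).1 (M.bar.w_mem ha)
  exact ⟨b, hb, eb.symm⟩

/-- The configuration of five. -/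
theorem five_case (hres : pResidual 2 G = ⊤) (hcore : oddCore G = ⊥) (hcore2 : pCore 2 G = ⊥)
    (hsolv : Group.IsSolvable ↥M.H) (hP : M.Pat fiveL) : FiveCase M := by
  have F := M.five_local hres hcore hcore2 hsolv hP
  have hinto : ∀ u < 64, outInv u = true →
      ∃ h ∈ M.H, ∃ a < 16, h * M.ι u * h⁻¹ = M.ι a ∧ a ∉ fiveL := by
    intro u hu ho
    obtain ⟨x, a, ha, e⟩ := F.into hu ho
    obtain ⟨b, hb, hbr, e'⟩ := Loc.conj_mem_Q F.toCtx x hu
      ((show ∀ u < 64, outInv u = true → rad (u % 16) = true by decide +kernel) u hu ho)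
    have hab : a = b := M.bar.inj a (by omega) b hb (e.symm.trans e')
    subst hab
    rw [Nat.mod_eq_of_lt ha] at hbr
    obtain ⟨h, hh, he⟩ := M.lift_conj hu (by omega) (fact_outInv u hu ho).2
      (by rw [(fact_base a ha a ha).1]; exact Nat.xor_self a) e
    refine ⟨h, hh, a, ha, he, fun hm => ?_⟩
    have h15 : a = 15 :=
      (show ∀ a < 16, rad a = true → a ∈ fiveL → a = 15 by decide) a ha hbr hm
    subst h15
    have e1 : M.ι u = h⁻¹ * M.ι 15 * h := by rw [← he]; group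
    have e2 : h⁻¹ * M.ι 15 = M.ι 15 * h⁻¹ :=
      (mem_centralizer_singleton_iff.1 (inv_mem hh : h⁻¹ ∈ M.H))
    rw [e2, inv_mul_cancel_right] at e1
    have := M.inj u hu 15 (by norm_num) e1
    have := (fact_outInv u hu ho).1
    omega
  refine ⟨⟨hres, hcore2, hcore, hsolv, fun u hu ho => ?_, M.frat_of_ctx F.toCtx⟩, fun x hx => ?_,
    M.other_five hP⟩
  · obtain ⟨h, hh, a, ha, e, -⟩ := hinto u hu ho
    exact ⟨h, hh, a, ha, e⟩
  by_cases hlt : x < 16
  · exact hP x hlt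
  · refine ⟨fun f => ?_, fun f => absurd ((show ∀ a ∈ fiveL, a < 16 by decide) x f) hlt⟩
    exfalso
    rcases fact_invol x hx (M.sq_of_fu hx f) with h | ho
    · exact hlt h
    · obtain ⟨h, -, a, ha, e, hn⟩ := hinto x hx ho
      exact hn ((hP a ha).1 ((M.fu_congr e).1 f))

end Mdl

end Cfsg.Agent.Lib.A8Type36
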