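import Mathlib

/-!
# Codes for the Sylow 2-subgroup of `A₈` and for linear maps on its elementary subgroup of order 16

helper36 (S2918).  An element of `C₂ ≀ V₄` is `a + 16 v` with `a < 16` a subset of `V₄` and `v < 4`.
A linear map of the base is the list of the images of the four singletons, four bits each.
-/

set_option autoImplicit false

namespace Cfsg.Agent.Lib.A8Type36

/-- A value if a bit of `a` is set. -/
def pick (a i r : Nat) : Nat := if Nat.testBit a i then r else 0

/-- Translation of a subset. -/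
def sh (v a : Nat) : Nat :=
  Nat.lor (Nat.lor (pick a 0 (2 ^ (Nat.xor 0 v))) (pick a 1 (2 ^ (Nat.xor 1 v))))
    (Nat.lor (pick a 2 (2 ^ (Nat.xor 2 v))) (pick a 3 (2 ^ (Nat.xor 3 v))))

/-- Multiplication. -/
def mulS (x y : Nat) : Nat := Nat.xor (x % 16) (sh (x / 16) (y % 16)) + 16 * Nat.xor (x / 16) (y / 16)

/-- Inverse. -/
def invS (x : Nat) : Nat := sh (x / 16) (x % 16) + 16 * (x / 16)

/-- Conjugate `g x g⁻¹`. -/
def cjS (g x : Nat) : Nat := mulS (mulS g x) (invS g)

/-- Commutator. -/
def cmS (x y : Nat) : Nat := mulS (mulS (mulS x y) (invS x)) (invS y)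

/-- Two elements commute. -/
def comS (x y : Nat) : Bool := Nat.beq (mulS x y) (mulS y x)

/-- The even subsets. -/
def rad (a : Nat) : Bool := [0, 3, 5, 6, 9, 10, 12, 15].contains a

/-- The three fours of fixed points. -/
def fixV (v : Nat) : List Nat := if v = 1 then [0, 3, 12, 15] else if v = 2 then [0, 5, 10, 15] else [0, 6, 9, 15]

/-- An involution outside the base. -/
def outInv (x : Nat) : Bool := Nat.ble 16 x && (fixV (x / 16)).contains (x % 16)

/-- The image of a singleton. -/
def col (g i : Nat) : Nat := Nat.land (Nat.shiftRight g (4 * i)) 15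

/-- Value of a linear map. -/
def app (g a : Nat) : Nat :=
  Nat.xor (Nat.xor (pick a 0 (col g 0)) (pick a 1 (col g 1)))
    (Nat.xor (pick a 2 (col g 2)) (pick a 3 (col g 3)))

/-- The code with given images of the singletons. -/
def mkL (c0 c1 c2 c3 : Nat) : Nat := c0 + 16 * c1 + 256 * c2 + 4096 * c3

/-- Composition. -/
def mulL (g h : Nat) : Nat :=
  mkL (app g (col h 0)) (app g (col h 1)) (app g (col h 2)) (app g (col h 3))

/-- The identity. -/
def oneL : Nat := mkL 1 2 4 8

/-- The translations. -/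
def vL (v : Nat) : Nat := mkL (sh v 1) (sh v 2) (sh v 4) (sh v 8)

/-- The two part: `w ^ 105`. -/
def twoPart (w : Nat) : Nat :=
  (fun w2 => (fun w4 => (fun w8 => (fun w32 =>
    mulL (mulL w w8) (mulL w32 (mulL w32 w32))) (mulL (mulL w8 w8) (mulL w8 w8))) (mulL w4 w4)) (mulL w2 w2))
    (mulL w w)

/-- An element which a group with Sylow subgroup `V₄` on the base cannot contain. -/
def badL (w : Nat) : Bool :=
  (fun i => (fun i2 => Nat.beq (mulL i2 i2) oneL &&
    (!Nat.beq i2 oneL ||
      (!Nat.beq i oneL && Nat.beq (mulL i (vL 1)) (mulL (vL 1) i) && Nat.beq (mulL i (vL 2)) (mulL (vL 2) i) &&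
        !Nat.beq i (vL 1) && !Nat.beq i (vL 2) && !Nat.beq i (vL 3)))) (mulL i i)) (twoPart w)

end Cfsg.Agent.Lib.A8Type36
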