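import Cfsg.Agent.Lib.A8Type36.Code

/-!
# The code inside the alternating group of degree 8
-/

set_option autoImplicit false
set_option maxRecDepth 100000

namespace Cfsg.Agent.Lib.A8Type36

/-- The images of the points, four bits each. -/
def permTab : List Nat :=
  [1985229328, 1985220658, 1985216803, 1985225473, 1417032208, 1417023538, 1417019683, 1417028353,
    1164390928, 1164382258, 1164378403, 1164387073, 1732588048, 1732579378, 1732575523, 1732584193,
    1984246273, 1984237603, 1984233778, 1984242448, 1416049153, 1416040483, 1416036658, 1416045328,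
    1165373953, 1165365283, 1165361458, 1165370128, 1733571073, 1733562403, 1733558578, 1733567248,
    839939668, 271742548, 19101268, 587298388, 839930998, 271733878, 19092598, 587289718,
    839927143, 271730023, 19088743, 587285863, 839935813, 271738693, 19097413, 587294533,
    838956613, 270759493, 20084293, 588281413, 838947943, 270750823, 20075623, 588272743,
    838944118, 270746998, 20071798, 588268918, 838952788, 270755668, 20080468, 588277588]

/-- The image of a point. -/
def pt (x : Nat) (i : Fin 8) : Fin 8 := Fin.ofNat 8 (col (permTab.getD x 0) i.val)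

theorem pt_inv : ∀ x < 64, ∀ i : Fin 8, pt (invS x) (pt x i) = i ∧ pt x (pt (invS x) i) = i ∧ invS x < 64 := by
  decide +kernel

/-- The permutation of a code. -/
def permOf (x : Fin 64) : Equiv.Perm (Fin 8) where
  toFun := pt x
  invFun := pt (invS x)
  left_inv i := (pt_inv x x.2 i).1
  right_inv i := (pt_inv x x.2 i).2.1

theorem pt_mul : ∀ x < 64, ∀ y < 64, mulS x y < 64 ∧ ∀ i : Fin 8, pt (mulS x y) i = pt x (pt y i) := by
  decide +kernel

theorem pt_inj : ∀ x < 64, ∀ y < 64, (∀ i : Fin 8, pt x i = pt y i) → x = y := by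
  decide +kernel

theorem pt_zero : ∀ i : Fin 8, pt 0 i = i := by decide +kernel

theorem sign_permOf : ∀ x : Fin 64, Equiv.Perm.sign (permOf x) = 1 := by decide +kernel

/-- The map into the alternating group. -/
def altOf (x : Fin 64) : alternatingGroup (Fin 8) :=
  ⟨permOf x, Equiv.Perm.mem_alternatingGroup.2 (sign_permOf x)⟩

theorem altOf_mul (x y : Fin 64) : altOf x * altOf y = altOf ⟨mulS x y, (pt_mul x x.2 y y.2).1⟩ :=
  Subtype.ext (Equiv.ext fun i => ((pt_mul x x.2 y y.2).2 i).symm)

theorem altOf_inj : Function.Injective altOf := fun x y h => by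
  refine Fin.ext (pt_inj x x.2 y y.2 fun i => ?_)
  exact congrArg (fun g : alternatingGroup (Fin 8) => (g : Equiv.Perm (Fin 8)) i) h

theorem altOf_zero : altOf 0 = 1 := Subtype.ext (Equiv.ext fun i => pt_zero i)

/-- The image of the code. -/
def altImage : Subgroup (alternatingGroup (Fin 8)) where
  carrier := Set.range altOf
  one_mem' := ⟨0, altOf_zero⟩
  mul_mem' := by
    rintro _ _ ⟨x, rfl⟩ ⟨y, rfl⟩
    exact ⟨_, (altOf_mul x y).symm⟩
  inv_mem' := by
    rintro _ ⟨x, rfl⟩
    refine ⟨⟨invS x, (pt_inv x x.2 0).2.2⟩, eq_inv_of_mul_eq_one_left (Subtype.ext (Equiv.ext fun i => ?_))⟩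
    exact (pt_inv x x.2 i).1

/-- The code is a Sylow 2-subgroup of `A₈`. -/
theorem exists_sylow_eq : ∃ P : Sylow 2 (alternatingGroup (Fin 8)),
    (P : Subgroup (alternatingGroup (Fin 8))) = altImage := by
  haveI : Fact (Nat.Prime 2) := ⟨Nat.prime_two⟩
  have hc : Nat.card altImage = 2 ^ 6 := by
    show Nat.card (Set.range altOf) = _
    rw [Nat.card_range_of_injective altOf_inj, Nat.card_eq_fintype_card, Fintype.card_fin]
    norm_num
  obtain ⟨P, hP⟩ := (IsPGroup.of_card hc).exists_le_sylow
  refine ⟨P, (Subgroup.eq_of_le_of_card_ge hP ?_).symm⟩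
  obtain ⟨n, hn⟩ := IsPGroup.iff_card.1 P.2
  rw [hc, hn]
  refine Nat.pow_le_pow_right two_pos ?_
  have h := Subgroup.card_subgroup_dvd_card (P : Subgroup (alternatingGroup (Fin 8)))
  rw [hn, nat_card_alternatingGroup, Nat.card_eq_fintype_card, Fintype.card_fin] at h
  by_contra hlt
  exact absurd ((pow_dvd_pow 2 (Nat.lt_of_not_le hlt)).trans h) (by decide +kernel)

end Cfsg.Agent.Lib.A8Type36
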