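import Cfsg.Agent.Lib.A8Type36.SigFive
import Cfsg.Agent.S3221

/-!
# Recognition of `PSp₄(3)` in the configuration of five

helper56 (S2918).  Once `H` carries the codes of the centraliser in `PSp₄(3)`, the amalgam recognition
behind S3221 applies; the code of `z` is forced, being the only central involution of the model.
-/

set_option autoImplicit false
set_option linter.style.haveILetI false

open Subgroup Cfsg

namespace Cfsg.Agent.Lib.A8Type36

universe u v

variable {G : Type u} [Group G] [Finite G]

/-- A group with no 2-quotient has no subgroup of index two. -/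
theorem index_ne_two_of_pResidual (h : pResidual 2 G = ⊤) (K : Subgroup G) : K.index ≠ 2 := by
  intro hK
  have hle : pResidual 2 G ≤ K := by
    refine (closure_le K).2 fun g hg => ?_
    obtain ⟨j, hj⟩ : Odd (orderOf g) := Nat.coprime_two_right.1 hg
    have e : (g * g) ^ (j + 1) = g := by
      rw [← pow_two, ← pow_mul, show 2 * (j + 1) = orderOf g + 1 by omega, pow_succ,
        pow_orderOf_eq_one, one_mul]
    rw [SetLike.mem_coe, ← e]
    exact pow_mem (mul_self_mem_of_index_two hK g) _
  rw [h, top_le_iff] at hle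
  rw [hle, index_top] at hK
  omega

/-- A group whose centraliser of the central involution carries the codes of `PSp₄(3)` is
`PSp₄(3)`. -/
theorem Base.iso_psp_of_codes {M : Mdl G} (h : Base M) {X : Type v} [Group X] (e : X ≃* ↥M.H)
    (c : ℕ → X) (hmul : ∀ a < 576, ∀ b < 576, c (PSp43Recog.mulC a b) = c a * c b)
    (hinj : ∀ a < 576, ∀ b < 576, c a = c b → a = b) (hsurj : ∀ x : X, ∃ a < 576, c a = x) :
    ∃ (F : Type) (_ : Field F) (_ : Fintype F), Fintype.card F = 3 ∧ Nonempty (G ≃* Cfsg.PSp 2 F) := by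
  classical
  haveI : Fact (Nat.Prime 3) := ⟨Nat.prime_three⟩
  let ι : ℕ → G := fun a => (e (c a) : G)
  have hmul' : ∀ a < 576, ∀ b < 576, ι (PSp43Recog.mulC a b) = ι a * ι b := fun a ha b hb => by
    show (e (c (PSp43Recog.mulC a b)) : G) = _
    rw [hmul a ha b hb, _root_.map_mul, Subgroup.coe_mul]
  have hinj' : ∀ a < 576, ∀ b < 576, ι a = ι b → a = b := fun a ha b hb he =>
    hinj a ha b hb (e.injective (Subtype.ext he))
  have h0 : ι 0 = 1 := by
    have := hmul' 0 (by norm_num) 0 (by norm_num)
    rw [show PSp43Recog.mulC 0 0 = 0 from by decide +kernel] at this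
    exact mul_eq_left.1 this.symm
  -- the code of the central involution
  obtain ⟨w, hw, hwz⟩ := hsurj (e.symm ⟨M.z, mem_centralizer_singleton_iff.2 rfl⟩)
  have hwz' : ι w = M.z := by
    show (e (c w) : G) = M.z
    rw [hwz, e.apply_symm_apply]
  have hwC : w = PSp43Recog.zC := by
    have hcom : ∀ s ∈ PSp43Recog.sylList, PSp43Recog.comC w s = true := fun s hs => by
      have hs' := PSp43Recog.Emb.syl_lt hs
      rw [PSp43Recog.comC]
      have : PSp43Recog.mulC w s = PSp43Recog.mulC s w := by
        refine hinj' _ (PSp43Recog.mulC_lt hw hs') _ (PSp43Recog.mulC_lt hs' hw) ?_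
        rw [hmul' w hw s hs', hmul' s hs' w hw, hwz']
        exact (mem_centralizer_singleton_iff.1 (e (c s)).2).symm
      rw [this]; exact Nat.beq_refl _
    have h1 := PSp43Recog.all_range PSp43Recog.chk_syl_cen hw
    simp only [Bool.or_eq_true] at h1
    rcases h1 with (h1 | h1) | h1
    · exfalso
      rw [Nat.eq_of_beq_eq_true h1, h0] at hwz'
      exact absurd ((M.code_eq_one (a := 15) (by norm_num)).1 hwz'.symm) (by norm_num)
    · exact Nat.eq_of_beq_eq_true h1
    · exfalso
      obtain ⟨s, hs, hsx⟩ := List.any_eq_true.1 h1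
      rw [hcom s hs] at hsx
      simp at hsx
  let E : PSp43Recog.Emb G :=
    { ι := ι
      map_mul := hmul'
      inj := hinj'
      range := fun g hg => by
        rw [← hwC, hwz'] at hg
        obtain ⟨a, ha, hae⟩ := hsurj (e.symm ⟨g, mem_centralizer_singleton_iff.2 hg⟩)
        exact ⟨a, ha, by show (e (c a) : G) = g; rw [hae, e.apply_symm_apply]⟩ }
  have hF : Fintype.card (ZMod 3) = 3 := ZMod.card 3
  let EP := PSp43Recog.embPSp hF
  haveI : IsSimpleGroup (Cfsg.PSp 2 (ZMod 3)) := Lib.Symplectic.isSimpleGroup_psp (by norm_num)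
    (Or.inr (Or.inl ⟨rfl, Finset.univ, by rw [Finset.card_univ, hF]⟩))
  have hP : ∀ H : Subgroup (Cfsg.PSp 2 (ZMod 3)), H.index ≠ 2 := by
    intro H hH
    rcases (normal_of_index_eq_two hH).eq_bot_or_eq_top with h1 | h1
    · rw [h1, index_bot] at hH
      have h576 := card_le_card_group EP.cT
      rw [EP.card_cT, hH] at h576
      omega
    · rw [h1, index_top] at hH
      omega
  exact ⟨ZMod 3, inferInstance, inferInstance, hF,
    PSp43Recog.iso_of_emb PSp43Recog.gen_ok E (index_ne_two_of_pResidual h.residual) EP hP⟩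

/-- In the configuration of five the codes may be given on the reduced centraliser. -/
theorem FiveCase.iso_psp {M : Mdl G} (h : FiveCase M) (c : ℕ → ↥M.H ⧸ oddCore ↥M.H)
    (hmul : ∀ a < 576, ∀ b < 576, c (PSp43Recog.mulC a b) = c a * c b)
    (hinj : ∀ a < 576, ∀ b < 576, c a = c b → a = b)
    (hsurj : ∀ x : ↥M.H ⧸ oddCore ↥M.H, ∃ a < 576, c a = x) :
    ∃ (F : Type) (_ : Field F) (_ : Fintype F), Fintype.card F = 3 ∧ Nonempty (G ≃* Cfsg.PSp 2 F) := by
  have hbot : oddCore ↥M.H = ⊥ :=
    (Subgroup.map_eq_bot_iff_of_injective _ M.H.subtype_injective).1 h.OH_eq_bot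
  exact h.toBase.iso_psp_of_codes ((QuotientGroup.quotientMulEquivOfEq hbot).trans QuotientGroup.quotientBot)
    c hmul hinj hsurj

end Cfsg.Agent.Lib.A8Type36
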