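import Cfsg.Agent.Lib.A8Type36.Strong
import Cfsg.Agent.Lib.A8Type36.NineAut

/-!
# The model of `A₈` with its fusion in the configuration of nine

helper56 (S2918).  From codes of `H` by the model of the centraliser in `A₈`: the elementary abelian
subgroup of the model is conjugate in `H` to `A`, so nine of its involutions are fused and four of
them remain fused when multiplied by `z`; an automorphism of the model moves this pattern to the
fusion of `A₈`.
-/

set_option autoImplicit false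
set_option linter.style.haveILetI false

open Subgroup Cfsg
open scoped Pointwise

namespace Cfsg.Agent.Lib.A8Type36

universe u v

variable {G : Type u} [Group G] [Finite G]

omit [Finite G] in
/-- The Sylow subgroup lies in the centraliser of `z`. -/
theorem sylow_le_cent_z (M : Mdl G) : (M.S : Subgroup G) ≤ M.H := by
  intro g hg
  obtain ⟨y, hy, rfl⟩ := (M.mem g).1 hg
  refine mem_centralizer_singleton_iff.2 ?_
  rw [Mdl.z, ← M.map_mul y hy 15 (by norm_num), ← M.map_mul 15 (by norm_num) y hy, fact_z.2 y hy]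

omit [Finite G] in
/-- The codes of `A₈` on `H` give the embedded model. -/
theorem exists_emb_of_codes (M : Mdl G) {X : Type v} [Group X] (e : X ≃* ↥M.H) (c : ℕ → X)
    (hmul : ∀ a < 192, ∀ b < 192, c (A8Recog.mulC a b) = c a * c b)
    (hinj : ∀ a < 192, ∀ b < 192, c a = c b → a = b) (hsurj : ∀ x : X, ∃ a < 192, c a = x) :
    ∃ E : A8Recog.Emb G, E.t = M.z := by
  classical
  let ι : ℕ → G := fun a => (e (c a) : G)
  have hmul' : ∀ a < 192, ∀ b < 192, ι (A8Recog.mulC a b) = ι a * ι b := fun a ha b hb => by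
    show (e (c (A8Recog.mulC a b)) : G) = _
    rw [hmul a ha b hb, _root_.map_mul, Subgroup.coe_mul]
  have hinj' : ∀ a < 192, ∀ b < 192, ι a = ι b → a = b := fun a ha b hb he =>
    hinj a ha b hb (e.injective (Subtype.ext he))
  have h0 : ι 0 = 1 := by
    have := hmul' 0 (by norm_num) 0 (by norm_num)
    rw [show A8Recog.mulC 0 0 = 0 from by decide +kernel] at this
    exact mul_eq_left.1 this.symm
  obtain ⟨w, hw, hwz⟩ := hsurj (e.symm ⟨M.z, mem_centralizer_singleton_iff.2 rfl⟩)
  have hwz' : ι w = M.z := by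
    show (e (c w) : G) = M.z
    rw [hwz, e.apply_symm_apply]
  have hwC : w = A8Recog.sC := by
    have h1 := A8Recog.all_range A8Recog.chk_syl_cen hw
    simp only [Bool.or_eq_true] at h1
    rcases h1 with (h1 | h1) | h1
    · exfalso
      rw [Nat.eq_of_beq_eq_true h1, h0] at hwz'
      exact absurd ((M.code_eq_one (a := 15) (by norm_num)).1 hwz'.symm) (by norm_num)
    · exact Nat.eq_of_beq_eq_true h1
    · exfalso
      obtain ⟨s, hs, hsx⟩ := List.any_eq_true.1 h1
      have hs' := A8Recog.Emb.syl_lt hs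
      have : A8Recog.mulC w s = A8Recog.mulC s w := by
        refine hinj' _ (A8Recog.mulC_lt hw hs') _ (A8Recog.mulC_lt hs' hw) ?_
        rw [hmul' w hw s hs', hmul' s hs' w hw, hwz']
        exact (mem_centralizer_singleton_iff.1 (e (c s)).2).symm
      rw [A8Recog.comC, this, Nat.beq_refl] at hsx
      simp at hsx
  refine ⟨⟨ι, hmul', hinj', fun g hg => ?_⟩, ?_⟩
  · rw [← hwC, hwz'] at hg
    obtain ⟨a, ha, hae⟩ := hsurj (e.symm ⟨g, mem_centralizer_singleton_iff.2 hg⟩)
    exact ⟨a, ha, by show (e (c a) : G) = g; rw [hae, e.apply_symm_apply]⟩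
  · show ι A8Recog.sC = M.z
    rw [← hwC, hwz']

/-- The model composed with an automorphism of the tables. -/
theorem exists_twisted_emb (E : A8Recog.Emb G) {k : ℕ} (hk : k < 6) :
    ∃ E' : A8Recog.Emb G, E'.t = E.t ∧ ∀ x, E'.ι x = E.ι (autV k x) := by
  have hz := A8Recog.all_range aut_zero_inj hk
  rw [Bool.and_eq_true] at hz
  have hbound : ∀ x < 192, autV k x < 192 := fun x hx => by
    have h := A8Recog.all_range hz.2 hx
    rw [Bool.and_eq_true] at h
    exact Nat.le_of_ble_eq_true h.1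
  have hinjV : ∀ x < 192, ∀ y < 192, autV k x = autV k y → x = y := fun x hx y hy e => by
    have h := A8Recog.all_range hz.2 hx
    rw [Bool.and_eq_true] at h
    have h' := A8Recog.all_range h.2 hy
    rw [Bool.or_eq_true] at h'
    rcases h' with h' | h'
    · exact Nat.eq_of_beq_eq_true h'
    · rw [e] at h'; simp at h'
  refine ⟨⟨fun x => E.ι (autV k x), fun x hx y hy => ?_, fun x hx y hy e =>
    hinjV x hx y hy (E.inj _ (hbound x hx) _ (hbound y hy) e), fun g hg => ?_⟩, ?_, fun x => rfl⟩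
  · rw [Nat.eq_of_beq_eq_true (A8Recog.all_range (A8Recog.all_range (A8Recog.all_range aut_mul hk) hx) hy)]
    exact E.map_mul _ (hbound x hx) _ (hbound y hy)
  · rw [Nat.eq_of_beq_eq_true hz.1] at hg
    obtain ⟨y, hy, rfl⟩ := E.range g hg
    let F : Fin 192 → Fin 192 := fun x => ⟨autV k x, hbound x x.2⟩
    obtain ⟨x, hx⟩ := Finite.injective_iff_surjective.1
      (show Function.Injective F from fun a b e => Fin.ext (hinjV a a.2 b b.2 (congrArg Fin.val e))) ⟨y, hy⟩
    exact ⟨x, x.2, congrArg E.ι (congrArg Fin.val hx)⟩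
  · show E.ι (autV k A8Recog.sC) = E.t
    rw [Nat.eq_of_beq_eq_true hz.1]; rfl

omit [Finite G] in
/-- Conjugate codes of the model give conjugate elements. -/
theorem isConj_of_any (E : A8Recog.Emb G) {a b : ℕ} (ha : a < 192)
    (h : ((List.range 192).any fun g => Nat.beq (A8Recog.cjC g a) b) = true) : IsConj (E.ι a) (E.ι b) := by
  obtain ⟨g, hg, hgb⟩ := List.any_eq_true.1 h
  exact isConj_iff.2 ⟨E.ι g, by rw [← E.map_cj (List.mem_range.1 hg) ha, Nat.eq_of_beq_eq_true hgb]⟩

/-- In the configuration of nine the model can be chosen with the fusion of `A₈`. -/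
theorem NineCase.exists_fused_of_emb {M : Mdl G} (h : NineCase M) (E₀ : A8Recog.Emb G)
    (ht : E₀.t = M.z) : ∃ E : A8Recog.Emb G, E.Fused := by
  classical
  haveI : Fact (Nat.Prime 2) := ⟨Nat.prime_two⟩
  -- move the elementary abelian subgroup of the model onto `A`
  have hEH : E₀.sylSub ≤ M.H := by
    rintro _ ⟨x, hx, rfl⟩
    refine mem_centralizer_singleton_iff.2 ?_
    rw [← ht]
    exact E₀.comm_t (A8Recog.Emb.syl_lt hx)
  have hp : IsPGroup 2 ↥E₀.sylSub := IsPGroup.of_card (n := 6) (by rw [E₀.card_sylSub]; norm_num)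
  obtain ⟨P, hP⟩ := (hp.comap_subtype (K := M.H)).exists_le_sylow
  obtain ⟨d, hd⟩ := MulAction.exists_smul_eq ↥M.H P (M.S.subtype (sylow_le_cent_z M))
  set X := E₀.wSub.map (MulAut.conj (d : G)).toMonoidHom with hX
  have hWcard : Nat.card ↥E₀.wSub = 16 := by
    have : Function.Bijective (fun i : Fin 16 => (⟨E₀.w i, E₀.w_mem i.2⟩ : ↥E₀.wSub)) := by
      refine ⟨fun i j e => Fin.ext (E₀.w_inj i.2 j.2 (congrArg Subtype.val e)), ?_⟩
      rintro ⟨g, i, hi, rfl⟩
      exact ⟨⟨i, hi⟩, rfl⟩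
    rw [← Nat.card_congr (Equiv.ofBijective _ this), Nat.card_fin]
  have hWel : IsElementaryAbelian 2 E₀.wSub := by
    refine ⟨⟨⟨fun a b => ?_⟩⟩, ?_⟩
    · obtain ⟨i, hi, e⟩ := a.2
      obtain ⟨j, hj, e'⟩ := b.2
      apply Subtype.ext
      rw [Subgroup.coe_mul, Subgroup.coe_mul, ← e, ← e', E₀.w_mul hi hj, E₀.w_mul hj hi, Nat.xor_comm]
    · rintro _ ⟨i, hi, rfl⟩
      rw [pow_two, E₀.w_sq hi]
  have hXA : X = M.A := by
    refine M.eq_base (Mdl.map_elementary _ hWel) (by rw [hX, card_map_of_injective (MulAut.conj _).injective, hWcard]) ?_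
    rintro _ ⟨x, hx, rfl⟩
    have hxH := hEH (E₀.wSub_le_syl hx)
    have hmem : (d * ⟨x, hxH⟩ * d⁻¹ : ↥M.H) ∈ ((M.S.subtype (sylow_le_cent_z M) : Sylow 2 ↥M.H) : Subgroup ↥M.H) := by
      rw [← hd, Sylow.coe_subgroup_smul]
      exact smul_mem_pointwise_smul _ (MulAut.conj d) _
        (hP (show (⟨x, hxH⟩ : ↥M.H) ∈ E₀.sylSub.subgroupOf M.H from E₀.wSub_le_syl hx))
    exact hmem
  have hcode : ∀ i : Fin 16, ∃ a : Fin 16, M.ι a = (d : G) * E₀.w i * (d : G)⁻¹ := fun i => by
    have hx : (MulAut.conj (d : G)).toMonoidHom (E₀.w i) ∈ M.A := by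
      rw [← hXA]; exact ⟨E₀.w i, E₀.w_mem i.2, rfl⟩
    obtain ⟨a, ha, e⟩ := M.mem_base_iff.1 hx
    exact ⟨⟨a, ha⟩, e⟩
  choose f hf using hcode
  have hfinj : Function.Injective f := fun i j e => by
    have := (hf i).symm.trans ((congrArg (fun a : Fin 16 => M.ι a) e).trans (hf j))
    exact Fin.ext (E₀.w_inj i.2 j.2 (mul_left_cancel (mul_right_cancel this)))
  have hdz : (d : G) * M.z * (d : G)⁻¹ = M.z :=
    mul_inv_eq_iff_eq_mul.2 (mem_centralizer_singleton_iff.1 d.2)
  have hfx : ∀ i : Fin 16, ∀ hi : Nat.xor i 1 < 16, (f ⟨_, hi⟩ : ℕ) = Nat.xor (f i) 15 := by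
    intro i hi
    have hlt := (fact_base (f i) (f i).2 15 (by norm_num)).2
    refine M.inj _ (lt_trans (f _).2 (by norm_num)) _ (lt_trans hlt (by norm_num)) ?_
    rw [hf, ← M.code_base_mul (f i).2 (by norm_num), hf i]
    show (d : G) * E₀.w (Nat.xor i 1) * (d : G)⁻¹ = (d : G) * E₀.w i * (d : G)⁻¹ * M.z
    have : E₀.w (Nat.xor i 1) = E₀.w i * M.z := by
      rw [← ht, E₀.t_eq_w, E₀.w_mul i.2 (by norm_num)]; rfl
    rw [this]
    nth_rewrite 2 [← hdz]
    group
  -- fusion as truth values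
  let P' : ℕ → Bool := fun i => decide (IsConj M.z (E₀.w i))
  have hPf : ∀ i : Fin 16, P' i = decide ((f i : ℕ) ∈ nineL) := fun i => by
    refine Bool.decide_congr ?_
    rw [← h.fused (f i) (lt_trans (f i).2 (by norm_num)), Mdl.Fu, hf i]
    exact ⟨fun hc => hc.trans (isConj_iff.2 ⟨(d : G), rfl⟩),
      fun hc => hc.trans (isConj_iff.2 ⟨(d : G), rfl⟩).symm⟩
  have hcls : ∀ i < 16, P' i = P' (clsRep.getD i 0) := by
    intro i hi
    have hr : clsRep.getD i 0 < 16 := (show ∀ i < 16, clsRep.getD i 0 < 16 by decide) i hi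
    have hc : IsConj (E₀.w (clsRep.getD i 0)) (E₀.w i) :=
      isConj_of_any E₀ (A8Recog.wC_lt hr) (A8Recog.all_range cls_rep hi)
    exact Bool.decide_congr ⟨fun hh => hh.trans hc.symm, fun hh => hh.trans hc⟩
  have hpat : ∀ i < 16, P' i = patV (P' 2) (P' 4) (P' 5) (P' 12) (P' 14) i := by
    intro i hi
    rw [hcls i hi]
    have h0 : P' 0 = false := by
      refine decide_eq_false fun hc => ?_
      rw [E₀.w_zero, isConj_comm, isConj_one_right] at hc
      exact absurd ((M.code_eq_one (a := 15) (by norm_num)).1 hc) (by norm_num)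
    have h1 : P' 1 = true := decide_eq_true (by rw [← E₀.t_eq_w, ht])
    interval_cases i <;> simp [clsRep, patV, h0, h1]
  have hbij : Function.Bijective f := ⟨hfinj, Finite.injective_iff_surjective.1 hfinj⟩
  have hcount : ∀ (Q : ℕ → Bool) (R : ℕ → Bool), (∀ i : Fin 16, Q i = R (f i)) →
      ((List.range 16).filter Q).length = ((List.range 16).filter R).length := by
    intro Q R hQR
    have key : ∀ S : ℕ → Bool, ((List.range 16).filter S).length =
        (Finset.univ.filter fun i : Fin 16 => S i = true).card := fun S => by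
      rw [← List.toFinset_card_of_nodup (List.nodup_range.filter _)]
      refine (Finset.card_bij (fun (i : Fin 16) _ => (i : ℕ)) ?_ (fun a _ b _ e => Fin.ext e) ?_).symm
      · intro i hi
        simp only [Finset.mem_filter, Finset.mem_univ, true_and] at hi
        simp [hi]
      · intro x hx
        simp only [List.mem_toFinset, List.mem_filter, List.mem_range] at hx
        exact ⟨⟨x, hx.1⟩, by simp [hx.2], rfl⟩
    rw [key, key]
    refine Finset.card_bij (fun i _ => f i) ?_ (fun a _ b _ e => hfinj e) ?_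
    · intro i hi
      simp only [Finset.mem_filter, Finset.mem_univ, true_and] at hi ⊢
      rw [← hQR]; exact hi
    · intro b hb
      obtain ⟨i, rfl⟩ := hbij.2 b
      simp only [Finset.mem_filter, Finset.mem_univ, true_and] at hb ⊢
      exact ⟨i, by rw [hQR]; exact hb, rfl⟩
  have hn9 : ((List.range 16).filter (patV (P' 2) (P' 4) (P' 5) (P' 12) (P' 14))).length = 9 := by
    rw [hcount _ (fun a => decide (a ∈ nineL)) fun i => by rw [← hpat i i.2, hPf i]]
    decide
  have hn4 : ((List.range 16).filter fun i => patV (P' 2) (P' 4) (P' 5) (P' 12) (P' 14) i &&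
      patV (P' 2) (P' 4) (P' 5) (P' 12) (P' 14) (Nat.xor i 1)).length = 4 := by
    rw [hcount _ (fun a => decide (a ∈ nineL) && decide (Nat.xor a 15 ∈ nineL)) fun i => by
      have hi1 : Nat.xor i 1 < 16 := (fact_base i i.2 1 (by norm_num)).2
      rw [← hpat i i.2, ← hpat _ hi1, hPf i, hPf ⟨_, hi1⟩, hfx i hi1]]
    decide
  obtain ⟨k, hk, hsel⟩ := pat_select _ _ _ _ _ hn9 hn4
  obtain ⟨E, hEt, hEι⟩ := exists_twisted_emb E₀ hk
  have key : ∀ j < 3, IsConj E.t (E.w ([5, 12, 14].getD j 0)) := by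
    intro j hj
    set a := (autImg.getD k []).getD j 0 with ha
    have ha16 : a < 16 := (show ∀ k < 6, ∀ j < 3, (autImg.getD k []).getD j 0 < 16 by decide) k hk j hj
    have h1 : IsConj M.z (E₀.w a) := of_decide_eq_true ((hpat a ha16).trans (hsel j hj))
    have h2 : IsConj (E₀.w a) (E.w ([5, 12, 14].getD j 0)) := by
      rw [A8Recog.Emb.w, A8Recog.Emb.w, hEι]
      exact isConj_of_any E₀ (A8Recog.wC_lt ha16) (A8Recog.all_range (A8Recog.all_range aut_img hk) hj)
    rw [hEt, ht]
    exact h1.trans h2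
  exact ⟨E, key 1 (by norm_num), key 2 (by norm_num), key 0 (by norm_num)⟩

/-- In the configuration of nine with trivial odd core, codes on `H/O(H)` give the fused model. -/
theorem NineCase.exists_fused {M : Mdl G} (h : NineCase M) (hO : M.OH = ⊥)
    (c : ℕ → ↥M.H ⧸ oddCore ↥M.H)
    (hmul : ∀ a < 192, ∀ b < 192, c (A8Recog.mulC a b) = c a * c b)
    (hinj : ∀ a < 192, ∀ b < 192, c a = c b → a = b)
    (hsurj : ∀ x : ↥M.H ⧸ oddCore ↥M.H, ∃ a < 192, c a = x) :
    ∃ E : A8Recog.Emb G, E.Fused := by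
  have hbot : oddCore ↥M.H = ⊥ := (Subgroup.map_eq_bot_iff_of_injective _ M.H.subtype_injective).1 hO
  obtain ⟨E₀, hE₀⟩ := exists_emb_of_codes M
    ((QuotientGroup.quotientMulEquivOfEq hbot).trans QuotientGroup.quotientBot) c hmul hinj hsurj
  exact h.exists_fused_of_emb E₀ hE₀

end Cfsg.Agent.Lib.A8Type36
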