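import Cfsg.Agent.Lib.A8Type36.SigNineCent
import Cfsg.Agent.S1221

/-!
# The case of nine: `C(z)` has trivial odd core

helper34 (S2918).  In `Y = C(⟨9, 7⟩)` modulo `⟨9, 7⟩` the image of `loc` is strongly embedded or
everything; the theorem on strongly embedded subgroups gives that `C_Th(x) = O(C(x))` for the three
unfused involutions, so `Y` normalises `Th`.  Hence all centralisers of involutions of `A` are in
`loc`, which is then the whole group.
-/

set_option autoImplicit false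
set_option maxRecDepth 100000
set_option synthInstance.maxSize 4096
set_option synthInstance.maxHeartbeats 400000
set_option linter.style.haveILetI false

open Subgroup Cfsg

namespace Cfsg.Agent.Lib.A8Type36.Sig

open Cfsg.Agent.Lib.Involutions

universe u

theorem fact_two_le_A : ∀ a < 16, ∀ b < 16, a ∉ nineL → b ∉ nineL → Nat.xor a b ∉ nineL →
    a ≠ 0 → b ≠ 0 → a ≠ b → ((List.range 64).all fun x => !comS x a || !comS x b || Nat.blt x 16) := by
  decide +kernel

theorem fact_lift : ∀ a < 16, a ∉ fourL → ∃ l ∈ fourL, Nat.xor a l ∈ nineL ∧ Nat.xor a l < 16 := by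
  decide +kernel

theorem fact_swap : cjS 48 14 = 7 ∧ cjS 48 9 = 9 ∧ 15 ∉ fourL := by decide +kernel

theorem fact_fourL_base : ∀ x ∈ fourL, x < 16 ∧ (x ≠ 0 → x ∉ nineL) := by decide +kernel

variable {G : Type u} [Group G] {M : Mdl G}

/-- The centraliser of the four group. -/
abbrev centY (M : Mdl G) : Subgroup G := centT M ⊓ centralizer ({M.ι 7} : Set G)

theorem centY_le_centralizer {g : G} (hg : g ∈ centY M) :
    ∀ v ∈ fourSub M, g * v = v * g := by
  rintro _ ⟨x, hx, rfl⟩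
  have h9 := mem_centralizer_singleton_iff.1 hg.1
  have h7 := mem_centralizer_singleton_iff.1 hg.2
  simp only [fourL, List.mem_cons, List.not_mem_nil, or_false] at hx
  rcases hx with rfl | rfl | rfl | rfl
  · simp [M.map_zero]
  · exact h9
  · rw [← nine_mul_seven]
    exact ((show Commute g (M.ι 7) from h7).mul_right h9).eq
  · exact h7

theorem A_le_centY : M.A ≤ centY M := by
  intro a ha
  obtain ⟨c, hc, rfl⟩ := M.mem_base_iff.1 ha
  exact ⟨mem_centralizer_singleton_iff.2 (M.w_comm hc (by norm_num)),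
    mem_centralizer_singleton_iff.2 (M.w_comm hc (by norm_num))⟩

theorem fourSub_le_A : fourSub M ≤ M.A := by
  rintro _ ⟨x, hx, rfl⟩
  exact M.code_mem_base (fact_fourL_base x hx).1

variable [Finite G]

theorem not_fused_four (h : NineCase M) {x : ℕ} (hx : x ∈ fourL) (h0 : x ≠ 0) :
    ¬ IsConj M.z (M.ι x) := fun hc =>
  (fact_fourL_base x hx).2 h0 (nine_of h (fact_fourL x hx).1 hc)

/-- `A` is a Sylow 2-subgroup of the centraliser of the four group. -/
theorem le_A_of_isPGroup (h : NineCase M) {R : Subgroup G} (hR : IsPGroup 2 R) (hAR : M.A ≤ R)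
    (hRY : R ≤ centY M) : R ≤ M.A := by
  obtain ⟨P, hP⟩ := hR.exists_le_sylow
  obtain ⟨k, hk⟩ := MulAction.exists_smul_eq G P M.S
  have hinto : ∀ r ∈ R, k * r * k⁻¹ ∈ (M.S : Subgroup G) := fun r hr => by
    rw [← hk, Sylow.coe_subgroup_smul]
    exact Subgroup.smul_mem_pointwise_smul r (MulAut.conj k) _ (hP hr)
  have hkA : k ∈ normalizer (M.A : Set G) := by
    rw [mem_normalizer_iff_map_conj_eq]
    refine M.eq_base (Mdl.map_elementary k M.base_elementary) ?_ ?_
    · rw [card_map_of_injective (MulAut.conj k).injective, M.base_card]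
    · rintro _ ⟨a, ha, rfl⟩
      exact hinto a (hAR ha)
  have hcode : ∀ x ∈ fourL, x ≠ 0 → ∃ a < 16, a ≠ 0 ∧ a ∉ nineL ∧ M.ι a = k * M.ι x * k⁻¹ := by
    intro x hx h0
    obtain ⟨a, ha, he⟩ := M.mem_base_iff.1 ((mem_normalizer_iff.1 hkA _).1
      (M.code_mem_base (fact_fourL_base x hx).1))
    refine ⟨a, ha, fun e => ?_, fun hm => ?_, he⟩
    · rw [e, M.map_zero, eq_comm, mul_inv_eq_one, mul_eq_left] at he
      exact M.ι_ne_one (fact_fourL x hx).1 h0 he
    · refine not_fused_four h hx h0 ((fu_of h hm).trans (isConj_iff.2 ⟨k⁻¹, ?_⟩))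
      rw [he]; group
  obtain ⟨a, ha, ha0, hna, hea⟩ := hcode 9 (by decide) (by norm_num)
  obtain ⟨b, hb, hb0, hnb, heb⟩ := hcode 7 (by decide) (by norm_num)
  obtain ⟨c, hc, -, hnc, hec⟩ := hcode 14 (by decide) (by norm_num)
  have hab : Nat.xor a b = c := by
    refine M.inj _ (by have := (fact_base a ha b hb).2; omega) c (by omega) ?_
    rw [← M.code_base_mul ha hb, hea, heb, hec, ← nine_mul_seven,
      M.w_comm (a := 7) (b := 9) (by norm_num) (by norm_num)]
    group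
  have hne : a ≠ b := by
    intro e
    rw [e, heb, mul_left_inj, mul_right_inj] at hea
    exact absurd (M.inj 7 (by norm_num) 9 (by norm_num) hea) (by norm_num)
  intro r hr
  obtain ⟨x, hx, hxe⟩ := (M.mem _).1 (hinto r hr)
  have hcv : ∀ y ∈ fourL, ∀ d < 16, M.ι d = k * M.ι y * k⁻¹ → comS x d = true := by
    intro y hy d hd hde
    refine (M.commute_iff hx (by omega)).2 ?_
    rw [hxe, hde]
    calc k * r * k⁻¹ * (k * M.ι y * k⁻¹) = k * (r * M.ι y) * k⁻¹ := by group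
      _ = k * (M.ι y * r) * k⁻¹ := by rw [centY_le_centralizer (hRY hr) _ ⟨y, hy, rfl⟩]
      _ = k * M.ι y * k⁻¹ * (k * r * k⁻¹) := by group
  have hx16 : x < 16 := by
    have := all64 (fact_two_le_A a ha b hb hna hnb (hab ▸ hnc) ha0 hb0 hne) hx
    simpa [hcv 9 (by decide) a ha hea, hcv 7 (by decide) b hb heb] using this
  exact (mem_normalizer_iff.1 hkA r).2 (hxe ▸ M.code_mem_base hx16)

/-- A 2-element of `Y ∩ loc` goes into `A` inside it. -/
theorem exists_conj_A (h : NineCase M) {y : G} (hy : y ∈ centY M ⊓ loc M)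
    (hy4 : y ^ 4 = 1) : ∃ m ∈ centY M ⊓ loc M, m * y * m⁻¹ ∈ M.A := by
  haveI : Fact (Nat.Prime 2) := ⟨Nat.prime_two⟩
  set T := centY M ⊓ loc M
  have hAT : M.A ≤ T := le_inf A_le_centY (Subgroup.le_normalizer.trans (normalizer_le_loc h))
  obtain ⟨P, hP⟩ := (show IsPGroup 2 (M.A.subgroupOf T) from
    (PGroups.elemAb_isPGroup M.base_elementary).comap_subtype (K := T)).exists_le_sylow
  have hy2 : IsPGroup 2 (zpowers (⟨y, hy⟩ : T)) := by
    obtain ⟨i, -, hi⟩ := (Nat.dvd_prime_pow Nat.prime_two).1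
      (show orderOf (⟨y, hy⟩ : T) ∣ 2 ^ 2 from orderOf_dvd_of_pow_eq_one (Subtype.ext hy4))
    exact IsPGroup.of_card (n := i) (by rw [Nat.card_zpowers, hi])
  obtain ⟨P₂, hP₂⟩ := hy2.exists_le_sylow
  obtain ⟨m, hm⟩ := MulAction.exists_smul_eq T P₂ P
  have hmem : m * ⟨y, hy⟩ * m⁻¹ ∈ (P : Subgroup T) := by
    rw [← hm, Sylow.coe_subgroup_smul]
    exact Subgroup.smul_mem_pointwise_smul _ (MulAut.conj m) _ (hP₂ (mem_zpowers _))
  refine ⟨m, m.2, le_A_of_isPGroup h (P.2.map T.subtype)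
    (fun a ha => ⟨⟨a, hAT ha⟩, hP (mem_subgroupOf.2 ha), rfl⟩)
    (fun r hr => (map_subtype_le _ hr).1) ⟨_, hmem, rfl⟩⟩

/-- An element of `Y` moving a fused involution of `A` inside `loc` lies in `loc`. -/
theorem mem_loc_of_fused (h : NineCase M) {g : G} (hg : g ∈ centY M) {a : ℕ} (ha : a < 16)
    (ha9 : a ∈ nineL) (hga : g * M.ι a * g⁻¹ ∈ loc M) : g ∈ loc M := by
  have hgY : g * M.ι a * g⁻¹ ∈ centY M :=
    mul_mem (mul_mem hg (A_le_centY (M.code_mem_base ha))) (inv_mem hg)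
  have h4 : (g * M.ι a * g⁻¹) ^ 4 = 1 := by
    rw [conj_pow, show (4 : ℕ) = 2 * 2 from rfl, pow_mul,
      PGroups.elemAb_pow M.base_elementary (M.code_mem_base ha), one_pow, mul_one, mul_inv_cancel]
  obtain ⟨m, hm', hmA⟩ := exists_conj_A h (mem_inf.2 ⟨hgY, hga⟩) h4
  have hm := (mem_inf.1 hm').2
  obtain ⟨n, hn, hne⟩ := M.fusion_base (M.code_mem_base ha) hmA (isConj_iff.2 ⟨m * g, by group⟩)
  have hc : n⁻¹ * m * g ∈ centralizer ({M.ι a} : Set G) := by
    refine mem_centralizer_singleton_iff.2 ?_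
    calc n⁻¹ * m * g * M.ι a = n⁻¹ * (m * (g * M.ι a * g⁻¹) * m⁻¹) * m * g := by group
      _ = n⁻¹ * (n * M.ι a * n⁻¹) * m * g := by rw [hne]
      _ = M.ι a * (n⁻¹ * m * g) := by group
  have := mul_mem (mul_mem (inv_mem hm) (normalizer_le_loc h hn)) (centralizer_fused_le h ha ha9 hc)
  simpa [mul_assoc] using this

/-- An odd core: of `Y` inside that of `C(9)`. -/
theorem coreY_le (h : NineCase M) : Balance.coreIn 2 (centY M) ≤ cc (M.ι 9) := by
  classical
  haveI : Fact (Nat.Prime 2) := ⟨Nat.prime_two⟩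
  set C := centT M with hC
  set U := Balance.coreIn 2 (centY M) with hU
  have hUC : U ≤ C := (Balance.coreIn_le _).trans inf_le_left
  have hnorm : ∀ n ∈ C, (n * M.ι 7 * n⁻¹ = M.ι 7 ∨ n * M.ι 7 * n⁻¹ = M.ι 14) →
      ∀ u ∈ U, n * u * n⁻¹ ∈ U := by
    intro n hn hn7 u hu
    have hY : (centY M).map (MulAut.conj n).toMonoidHom = centY M := by
      refine eq_of_le_of_card_ge ?_
        (le_of_eq (card_map_of_injective (MulAut.conj n).injective).symm)
      rintro _ ⟨y, hy, rfl⟩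
      have hyC : n * y * n⁻¹ ∈ C := mul_mem (mul_mem hn hy.1) (inv_mem hn)
      refine ⟨hyC, mem_centralizer_singleton_iff.2 ?_⟩
      have hcomm : ∀ x ∈ fourL, n * y * n⁻¹ * (n * M.ι x * n⁻¹) =
          n * M.ι x * n⁻¹ * (n * y * n⁻¹) := by
        intro x hx
        calc n * y * n⁻¹ * (n * M.ι x * n⁻¹) = n * (y * M.ι x) * n⁻¹ := by group
          _ = n * (M.ι x * y) * n⁻¹ := by rw [centY_le_centralizer hy _ ⟨x, hx, rfl⟩]
          _ = _ := by group
      rcases hn7 with e | e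
      · have := hcomm 7 (by decide)
        rwa [e] at this
      · have := hcomm 14 (by decide)
        have e14 : n * M.ι 14 * n⁻¹ = M.ι 7 := by
          have e9 : n * M.ι 9 * n⁻¹ = M.ι 9 := by
            rw [mem_centralizer_singleton_iff.1 hn, mul_inv_cancel_right]
          calc n * M.ι 14 * n⁻¹ = (n * M.ι 7 * n⁻¹) * (n * M.ι 9 * n⁻¹) := by
                rw [← nine_mul_seven]; group
            _ = M.ι 7 := by rw [e, e9, ← nine_mul_seven, mul_assoc, M.w_sq (by norm_num), mul_one]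
        rwa [e14] at this
    have := Balance.map_coreIn (p := 2) (MulAut.conj n) (centY M)
    rw [hY] at this
    rw [hU, ← this]
    exact ⟨u, hu, rfl⟩
  set O := oddCore C with hO
  haveI : O.Normal := inferInstanceAs (pPrimeCore 2 C).Normal
  set Ub := (U.subgroupOf C).map (QuotientGroup.mk' O) with hUb
  haveI hn : Ub.Normal := ⟨by
    rintro _ ⟨u, hu, rfl⟩ q
    obtain ⟨x, rfl⟩ := QuotientGroup.mk'_surjective O q
    obtain ⟨o, ho, n, hnC, hn7, he⟩ := exists_mul h x.2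
    obtain ⟨o', ho', rfl⟩ := ho
    refine ⟨⟨n, hnC⟩ * u * ⟨n, hnC⟩⁻¹, mem_subgroupOf.2 (hnorm n hnC hn7 _ hu), ?_⟩
    have hx : x = o' * ⟨n, hnC⟩ := Subtype.ext he
    have ho1 : QuotientGroup.mk' O o' = 1 := (QuotientGroup.eq_one_iff o').2 ho'
    rw [hx]
    simp only [map_mul, map_inv, ho1, one_mul]⟩
  have hodd : Odd (Nat.card Ub) := by
    refine (Nat.odd_iff).2 (Nat.two_dvd_ne_zero.1 fun hd => ?_)
    exact Balance.not_dvd_card_coreIn (p := 2) (centY M) ((hd.trans (card_map_dvd _ _)).trans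
      (dvd_of_eq (Nat.card_congr (subgroupOfEquivOfLe hUC).toEquiv)))
  have hbot := ZStar.Elements.quotient_oddCore Ub hn hodd
  intro u hu
  refine ⟨⟨u, hUC hu⟩, ?_, rfl⟩
  have : QuotientGroup.mk' O ⟨u, hUC hu⟩ ∈ Ub := ⟨_, mem_subgroupOf.2 hu, rfl⟩
  rw [hbot, mem_bot] at this
  exact (QuotientGroup.eq_one_iff _).1 this

/-- Either `Y ≤ loc` or `Th ∩ Y` lies in the odd core of `Y`. -/
theorem centY_le_or (h : NineCase M) :
    centY M ≤ loc M ∨ Th M ⊓ centY M ≤ Balance.coreIn 2 (centY M) := by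
  classical
  haveI : Fact (Nat.Prime 2) := ⟨Nat.prime_two⟩
  set Y := centY M with hY
  have hVY : fourSub M ≤ Y := fourSub_le_A.trans A_le_centY
  have hVL : fourSub M ≤ loc M := fourSub_le_A.trans (M.base_le_sylow.trans (S_le_loc h))
  set Z := (fourSub M).subgroupOf Y with hZ
  have hcen : Z ≤ center Y := fun v hv => mem_center_iff.2 fun x =>
    Subtype.ext (centY_le_centralizer x.2 _ (mem_subgroupOf.1 hv))
  haveI : Z.Normal := ⟨fun a ha x => by
    rw [mem_center_iff.1 (hcen ha) x, mul_inv_cancel_right]; exact ha⟩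
  have hV2 : ∀ v ∈ fourSub M, v * v = 1 := by
    rintro _ ⟨x, hx, rfl⟩
    exact M.w_sq (fact_fourL_base x hx).1
  set π := QuotientGroup.mk' Z with hπ
  set Mb := ((loc M).subgroupOf Y).map π with hMb
  have hmem : ∀ y : Y, π y ∈ Mb → (y : G) ∈ loc M := by
    rintro y ⟨x, hx, he⟩
    have hz : x⁻¹ * y ∈ Z := QuotientGroup.eq.1 he
    have := mul_mem (mem_subgroupOf.1 hx) (hVL (mem_subgroupOf.1 hz))
    simpa using this
  by_cases htop : Mb = ⊤
  · exact Or.inl fun y hy => hmem ⟨y, hy⟩ (htop ▸ mem_top _)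
  refine Or.inr ?_
  have hSE : IsStronglyEmbedded Mb := by
    have h15 : M.ι 15 ∈ Y := A_le_centY (M.code_mem_base (by norm_num))
    have h15L : π ⟨_, h15⟩ ∈ Mb :=
      ⟨⟨_, h15⟩, mem_subgroupOf.2 (S_le_loc h (M.ι_mem (by norm_num))), rfl⟩
    have ho : orderOf (π ⟨_, h15⟩) = 2 := by
      refine orderOf_eq_prime ?_ fun e => ?_
      · rw [← map_pow, show (⟨_, h15⟩ : Y) ^ 2 = 1 from Subtype.ext (by
          rw [pow_two]; exact M.w_sq (by norm_num)), map_one]
      · obtain ⟨x, hx, hxe⟩ := mem_subgroupOf.1 ((QuotientGroup.eq_one_iff _).1 e)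
        exact fact_swap.2.2 (M.inj x (fact_fourL x hx).1 15 (by norm_num) hxe ▸ hx)
    refine StronglyEmbedded.of_forall_conj htop
      (even_iff_two_dvd.2 (ho ▸ orderOf_dvd_natCard Mb h15L)) ?_
    rintro _ ⟨y, hy, rfl⟩ hy2 q hq
    obtain ⟨g, rfl⟩ := QuotientGroup.mk'_surjective Z q
    rw [← map_inv, ← map_mul, ← map_mul] at hq
    have hyy : y * y ∈ Z := by
      rw [← QuotientGroup.eq_one_iff, ← QuotientGroup.mk'_apply, map_mul]
      exact Basic.invol_mul_self hy2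
    have hy4 : (y : G) ^ 4 = 1 := by
      have := hV2 _ (mem_subgroupOf.1 hyy)
      rw [coe_mul] at this
      calc (y : G) ^ 4 = (y : G) * y * ((y : G) * y) := by simp only [pow_succ, pow_zero, one_mul, mul_assoc]
        _ = 1 := this
    obtain ⟨m, hm2, hmA⟩ := exists_conj_A h (mem_inf.2 ⟨y.2, mem_subgroupOf.1 hy⟩) hy4
    obtain ⟨hmY, hmL⟩ := mem_inf.1 hm2
    obtain ⟨a, ha, hae⟩ := M.mem_base_iff.1 hmA
    have hanot : a ∉ fourL := by
      intro hm'
      have hyZ : y ∈ Z := by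
        rw [show y = (⟨m, hmY⟩ : Y)⁻¹ * ⟨M.ι a, hVY (mem_fourSub.2 ⟨a, hm', rfl⟩)⟩ * ((⟨m, hmY⟩ : Y)⁻¹)⁻¹ from
          Subtype.ext (by simp only [coe_mul, coe_inv]; rw [hae]; group)]
        exact Normal.conj_mem inferInstance _ (mem_subgroupOf.2 (mem_fourSub.2 ⟨a, hm', rfl⟩)) _
      exact Basic.invol_ne_one hy2 ((QuotientGroup.eq_one_iff _).2 hyZ)
    obtain ⟨l, hl, hl9, hlt⟩ := fact_lift a ha hanot
    have hgY : (g : G) * m⁻¹ ∈ Y := mul_mem g.2 (inv_mem hmY)
    have hga : (g : G) * y * (g : G)⁻¹ ∈ loc M := hmem (g * y * g⁻¹) hq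
    have hlmem : M.ι l ∈ fourSub M := ⟨l, hl, rfl⟩
    have e : (g : G) * m⁻¹ * M.ι (Nat.xor a l) * ((g : G) * m⁻¹)⁻¹ =
        (g : G) * y * (g : G)⁻¹ * M.ι l := by
      rw [← M.code_base_mul ha (fact_fourL_base l hl).1, hae]
      calc (g : G) * m⁻¹ * (m * y * m⁻¹ * M.ι l) * ((g : G) * m⁻¹)⁻¹
          = (g : G) * y * (g : G)⁻¹ * ((g : G) * m⁻¹ * M.ι l * ((g : G) * m⁻¹)⁻¹) := by group
        _ = _ := by rw [centY_le_centralizer hgY _ hlmem, mul_inv_cancel_right]
    have h1 := mem_loc_of_fused h hgY hlt hl9 (e ▸ mul_mem hga (hVL hlmem))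
    have h2 : (g : G) ∈ loc M := by simpa using mul_mem h1 hmL
    exact ⟨g, mem_subgroupOf.2 h2, rfl⟩
  -- the odd normal subgroup `Th ∩ Y` of `loc ∩ Y`
  set D := (Th M ⊓ Y).subgroupOf Y with hD
  set Dm := D.map π with hDm
  have hDL : Dm ≤ Mb := map_mono fun d hd => mem_subgroupOf.2 (Th_le_loc (mem_subgroupOf.1 hd).1)
  haveI : (Dm.subgroupOf Mb).Normal := by
    refine ⟨fun d hd q => mem_subgroupOf.2 ?_⟩
    obtain ⟨d', hd', hde⟩ := mem_subgroupOf.1 hd
    obtain ⟨x, hx, hxe⟩ := q.2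
    refine ⟨x * d' * x⁻¹, mem_subgroupOf.2 ⟨?_, (x * d' * x⁻¹).2⟩,
      by simp only [map_mul, map_inv, hde, hxe, coe_mul, coe_inv]⟩
    exact (mem_normalizer_iff.1 (mem_subgroupOf.1 hx) _).1 (mem_subgroupOf.1 hd').1
  have hDodd : ¬ 2 ∣ Nat.card D := fun hd => odd_Th h
    ((hd.trans (dvd_of_eq (Nat.card_congr (subgroupOfEquivOfLe inf_le_right).toEquiv))).trans
      (card_dvd_of_le inf_le_left))
  have hDmle : Dm ≤ oddCore (Y ⧸ Z) := by
    refine le_trans ?_ (Cfsg.Agent.S1221.result Mb hSE)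
    rw [← map_subgroupOf_eq_of_le hDL]
    refine map_mono (Cores.le_pPrimeCore_of_not_dvd fun hd => hDodd ?_)
    exact (hd.trans (dvd_of_eq (Nat.card_congr (subgroupOfEquivOfLe hDL).toEquiv))).trans
      (card_map_dvd _ _)
  have hOodd : Odd (Nat.card (oddCore (Y ⧸ Z))) := ZStar.Elements.oddCore_odd
  haveI : (oddCore (Y ⧸ Z)).Normal := inferInstanceAs (pPrimeCore 2 (Y ⧸ Z)).Normal
  intro d hd
  have hd' : (⟨d, hd.2⟩ : Y) ∈ oddCore Y ⊔ Z :=
    comap_le_sup Z ((PGroups.elemAb_isPGroup (PGroups.elemAb_mono M.base_elementary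
      fourSub_le_A)).comap_subtype (K := Y)) hcen _ hOodd
      (hDmle ⟨⟨d, hd.2⟩, mem_subgroupOf.2 hd, rfl⟩)
  obtain ⟨o, ho, z, hz, he⟩ := mem_sup_of_normal_right.1 hd'
  have hzz : z * z = 1 := Subtype.ext (hV2 _ (mem_subgroupOf.1 hz))
  have hcz : Commute o z := mem_center_iff.1 (hcen hz) o
  set k := Nat.card (oddCore Y) * Nat.card D with hk
  have hk2 : Odd k := (ZStar.Elements.oddCore_odd).mul
    (Nat.odd_iff.2 (Nat.two_dvd_ne_zero.1 hDodd))
  have hok : o ^ k = 1 := orderOf_dvd_iff_pow_eq_one.1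
    ((orderOf_dvd_natCard _ ho).trans (Dvd.intro _ rfl))
  have hdk : (⟨d, hd.2⟩ : Y) ^ k = 1 := orderOf_dvd_iff_pow_eq_one.1
    ((orderOf_dvd_natCard D (mem_subgroupOf.2 hd)).trans (Dvd.intro_left _ rfl))
  have hz1 : z = 1 := by
    obtain ⟨j, hj⟩ := hk2
    rw [← he, hcz.mul_pow, hok, one_mul, hj, pow_succ, pow_mul, pow_two, hzz, one_pow, one_mul] at hdk
    exact hdk
  rw [hz1, mul_one] at he
  exact ⟨⟨d, hd.2⟩, he ▸ ho, rfl⟩

theorem cc_four_le_Th (h : NineCase M) {x : ℕ} (hx : x ∈ fourL) (h0 : x ≠ 0) : cc (M.ι x) ≤ Th M :=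
  cc_le_Th_of h (M.orderOf_code (fact_fourL_base x hx).1 h0)
    (M.w_comm (by norm_num) (fact_fourL_base x hx).1) (M.w_comm (by norm_num) (fact_fourL_base x hx).1)

/-- `C(⟨9, 7⟩) ≤ loc`. -/
theorem centY_le_loc (h : NineCase M) : centY M ≤ loc M := by
  rcases centY_le_or h with hle | hD
  · exact hle
  have h9 : Th M ⊓ centT M ≤ cc (M.ι 9) := by
    intro x hx
    obtain ⟨hxT, hxC⟩ := mem_inf.1 hx
    obtain ⟨o, ho, n, hn, hn7, rfl⟩ := exists_mul h hxC
    have hnT : n ∈ Th M := by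
      simpa using mul_mem (inv_mem (cc_four_le_Th h (by decide) (by norm_num) ho)) hxT
    refine mul_mem ho (coreY_le h (hD ⟨hnT, hn, ?_⟩))
    have hnodd : Odd (orderOf n) := Nat.odd_iff.2 (Nat.two_dvd_ne_zero.1 fun hd =>
      odd_Th h (hd.trans (orderOf_dvd_natCard _ hnT)))
    have hsq : n ^ 2 ∈ centralizer ({M.ι 7} : Set G) := by
      refine mem_centralizer_singleton_iff.2 ?_
      have e9 : n * M.ι 9 * n⁻¹ = M.ι 9 := by
        rw [mem_centralizer_singleton_iff.1 hn, mul_inv_cancel_right]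
      have e : n * (n * M.ι 7 * n⁻¹) * n⁻¹ = M.ι 7 := by
        rcases hn7 with e | e
        · rw [e, e]
        · rw [e, ← nine_mul_seven, show n * (M.ι 7 * M.ι 9) * n⁻¹ =
            n * M.ι 7 * n⁻¹ * (n * M.ι 9 * n⁻¹) by group, e, e9, ← nine_mul_seven, mul_assoc,
            M.w_sq (by norm_num), mul_one]
      calc n ^ 2 * M.ι 7 = n * (n * M.ι 7 * n⁻¹) * n⁻¹ * n ^ 2 := by rw [pow_two]; group
        _ = M.ι 7 * n ^ 2 := by rw [e]
    obtain ⟨j, hj⟩ := hnodd
    have : n = (n ^ 2) ^ (j + 1) := by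
      rw [← pow_mul, show 2 * (j + 1) = 2 * j + 1 + 1 by ring, pow_succ, ← hj, pow_orderOf_eq_one,
        one_mul]
    rw [this]
    exact pow_mem hsq _
  have hall : ∀ x ∈ fourL, x ≠ 0 → Th M ⊓ centralizer ({M.ι x} : Set G) ≤ cc (M.ι x) := by
    intro x hx h0
    obtain ⟨n, hn, e⟩ := M.fusion_base (M.code_mem_base (show 9 < 16 by norm_num))
      (M.code_mem_base (fact_fourL_base x hx).1)
      (h.other x (fact_fourL_base x hx).1 h0 ((fact_fourL_base x hx).2 h0))
    intro g hg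
    obtain ⟨hgT, hgC⟩ := mem_inf.1 hg
    rw [← e, show cc (n * M.ι 9 * n⁻¹) = (cc (M.ι 9)).map (MulAut.conj n).toMonoidHom from
      Balance.centralizerPPrimeCore_conj n _]
    refine ⟨n⁻¹ * g * n, h9 ⟨?_, ?_⟩, by simp [mul_assoc]⟩
    · exact (mem_normalizer_iff''.1 (normalizer_le_loc h hn) g).1 hgT
    · refine mem_centralizer_singleton_iff.2 ?_
      have hgc := mem_centralizer_singleton_iff.1 hgC
      rw [← e] at hgc
      calc n⁻¹ * g * n * M.ι 9 = n⁻¹ * (g * (n * M.ι 9 * n⁻¹)) * n := by group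
        _ = M.ι 9 * (n⁻¹ * g * n) := by rw [hgc]; group
  intro y hy
  have hsub : Th M ≤ (Th M).comap (MulAut.conj y).toMonoidHom := by
    refine le_of_four (M.orderOf_code (a := 9) (by norm_num) (by norm_num))
      (M.orderOf_code (a := 7) (by norm_num) (by norm_num))
      (M.w_comm (by norm_num) (by norm_num))
      (fun e => absurd (M.inj 9 (by norm_num) 7 (by norm_num) e) (by norm_num)) (odd_Th h)
      (S_le_loc h (M.ι_mem (by norm_num))) (S_le_loc h (M.ι_mem (by norm_num))) ?_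
    have key : ∀ x ∈ fourL, x ≠ 0 →
        Th M ⊓ centralizer ({M.ι x} : Set G) ≤ (Th M).comap (MulAut.conj y).toMonoidHom := by
      intro x hx h0 g hg
      exact cc_four_le_Th h hx h0 ((mem_normalizer_iff.1
        (mem_normalizer_cc (centY_le_centralizer hy _ ⟨x, hx, rfl⟩)) g).1 (hall x hx h0 hg))
    rintro f (rfl | rfl | rfl)
    · exact key 9 (by decide) (by norm_num)
    · exact key 7 (by decide) (by norm_num)
    · rw [M.w_comm (a := 9) (by norm_num) (by norm_num), nine_mul_seven]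
      exact key 14 (by decide) (by norm_num)
  rw [loc, mem_normalizer_iff_map_conj_eq]
  exact eq_of_le_of_card_ge (map_le_iff_le_comap.2 hsub)
    (le_of_eq (card_map_of_injective (MulAut.conj y).injective).symm)

theorem centT_le_loc (h : NineCase M) : centT M ≤ loc M := by
  intro g hg
  obtain ⟨o, ho, n, hn, hn7, rfl⟩ := exists_mul h hg
  refine mul_mem (Th_le_loc (cc_four_le_Th h (by decide) (by norm_num) ho)) ?_
  rcases hn7 with e | e
  · exact centY_le_loc h ⟨hn, mem_centralizer_singleton_iff.2 (mul_inv_eq_iff_eq_mul.1 e)⟩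
  have hs := S_le_loc h (M.ι_mem (show 48 < 64 by norm_num))
  have hs9 : M.ι 48 * M.ι 9 * (M.ι 48)⁻¹ = M.ι 9 := by
    rw [← M.map_cj (by norm_num) (by norm_num), fact_swap.2.1]
  have hs14 : M.ι 48 * M.ι 14 * (M.ι 48)⁻¹ = M.ι 7 := by
    rw [← M.map_cj (by norm_num) (by norm_num), fact_swap.1]
  have h1 : M.ι 48 * n ∈ centY M := by
    refine ⟨mul_mem (mem_centralizer_singleton_iff.2 (mul_inv_eq_iff_eq_mul.1 hs9)) hn,
      mem_centralizer_singleton_iff.2 (mul_inv_eq_iff_eq_mul.1 ?_)⟩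
    rw [show M.ι 48 * n * M.ι 7 * (M.ι 48 * n)⁻¹ = M.ι 48 * (n * M.ι 7 * n⁻¹) * (M.ι 48)⁻¹ by group,
      e, hs14]
  simpa using mul_mem (inv_mem hs) (centY_le_loc h h1)

end Cfsg.Agent.Lib.A8Type36.Sig

namespace Cfsg.Agent.Lib.A8Type36

open Sig

universe u

variable {G : Type u} [Group G] [Finite G] {M : Mdl G}

/-- **The case of nine**: the odd core of `C(z)` is trivial. -/
theorem NineCase.OH_eq_bot (h : NineCase M) : M.OH = ⊥ := by
  have hne : ¬ IsConj (M.ι 15) (M.ι 9) := fun hc =>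
    fact_nine.2.2.2.2.1 (nine_of h (by norm_num) hc)
  have hall : ∀ a < 16, a ≠ 0 → centralizer ({M.ι a} : Set G) ≤ loc M := by
    intro a ha ha0
    by_cases ha9 : a ∈ nineL
    · exact centralizer_fused_le h ha ha9
    obtain ⟨n, hn, e⟩ := M.fusion_base (M.code_mem_base (show 9 < 16 by norm_num))
      (M.code_mem_base ha) (h.other a ha ha0 ha9)
    intro g hg
    have hg' : n⁻¹ * g * n ∈ centT M := by
      refine mem_centralizer_singleton_iff.2 ?_
      have hgc := mem_centralizer_singleton_iff.1 hg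
      rw [← e] at hgc
      calc n⁻¹ * g * n * M.ι 9 = n⁻¹ * (g * (n * M.ι 9 * n⁻¹)) * n := by group
        _ = M.ι 9 * (n⁻¹ * g * n) := by rw [hgc]; group
    have hnl := normalizer_le_loc h hn
    simpa [mul_assoc] using mul_mem (mul_mem hnl (centT_le_loc h hg')) (inv_mem hnl)
  have htop := h.toBase.eq_top_of_centralizers (normalizer_le_loc h) hall (a := 15) (b := 9)
    (by norm_num) (by norm_num) (by norm_num) (by norm_num) hne
  have hbot : cc (M.ι 15) ≤ Th M := le_sup_right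
  rw [Th_eq_bot_of_loc h htop] at hbot
  exact le_bot_iff.1 hbot

end Cfsg.Agent.Lib.A8Type36
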