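import Cfsg.Agent.Lib.A8Type36.Cases
import Cfsg.Agent.Lib.A8Type36.SigNine
import Cfsg.Agent.Lib.A8Type36.NineEnd
import Cfsg.Agent.Lib.A8Type36.FiveEnd
import Cfsg.Agent.Lib.A8Recog.Final

/-!
# The two ends
-/

set_option autoImplicit false
set_option linter.style.haveILetI false

open Subgroup Cfsg

namespace Cfsg.Agent.Lib.A8Type36

universe u

variable {G : Type u} [Group G] [Finite G]

theorem iso_of_nine (M : Mdl G) (hres : pResidual 2 G = ⊤) (hcore : oddCore G = ⊥) (hcore2 : pCore 2 G = ⊥)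
    (hsolv : Group.IsSolvable ↥M.H) (hP : M.Pat nineA) :
    Nonempty (G ≃* alternatingGroup (Fin 8)) ∨ Nonempty (G ≃* alternatingGroup (Fin 9)) := by
  have h := M.nine_case hres hcore hcore2 hsolv hP
  obtain ⟨c, hmul, hb⟩ := (M.small_of_pat hres hcore hcore2 hsolv hP (Or.inr rfl)).exists_model
  obtain ⟨E, hE⟩ := h.exists_fused h.OH_eq_bot c hmul (fun a ha b hb' e => hb.injOn ha hb' e) fun x => by
    obtain ⟨a, ha, e⟩ := hb.surjOn (Set.mem_univ x)
    exact ⟨a, ha, e⟩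
  exact A8Recog.iso_of_fused E hE

theorem iso_of_five (M : Mdl G) (hres : pResidual 2 G = ⊤) (hcore : oddCore G = ⊥) (hcore2 : pCore 2 G = ⊥)
    (hsolv : Group.IsSolvable ↥M.H) (hP : M.Pat fiveL) :
    ∃ (F : Type) (_ : Field F) (_ : Fintype F), Fintype.card F = 3 ∧ Nonempty (G ≃* Cfsg.PSp 2 F) := by
  have h := M.five_case hres hcore hcore2 hsolv hP
  obtain ⟨c, hmul, hb⟩ := (M.five_local hres hcore hcore2 hsolv hP).exists_model
  exact h.iso_psp c hmul (fun a ha b hb' e => hb.injOn ha hb' e) fun x => by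
    obtain ⟨a, ha, e⟩ := hb.surjOn (Set.mem_univ x)
    exact ⟨a, ha, e⟩

end Cfsg.Agent.Lib.A8Type36
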