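import Cfsg.Agent.Lib.A8Type36.Model

/-!
# Computed facts about the model
-/

set_option autoImplicit false
set_option maxRecDepth 100000
set_option synthInstance.maxSize 4096
set_option synthInstance.maxHeartbeats 400000

namespace Cfsg.Agent.Lib.A8Type36

theorem fact_base : ∀ a < 16, ∀ b < 16, mulS a b = Nat.xor a b ∧ Nat.xor a b < 16 := by decide +kernel

theorem fact_centre : ∀ x < 64, (∀ y < 64, mulS x y = mulS y x) → x = 0 ∨ x = 15 := by decide +kernel

theorem fact_z : mulS 15 15 = 0 ∧ ∀ y < 64, mulS 15 y = mulS y 15 := by decide +kernel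

theorem fact_invol : ∀ x < 64, mulS x x = 0 → x < 16 ∨ outInv x = true := by decide +kernel

theorem fact_outInv : ∀ x < 64, outInv x = true → 16 ≤ x ∧ mulS x x = 0 := by decide +kernel

theorem fact_few : ∀ x < 64, 16 ≤ x →
    ((List.range 64).filter fun y => Nat.beq (mulS y y) 0 && comS x y).length < 16 := by decide +kernel

theorem fact_derived : ∀ x < 64, ∀ y < 64, cmS x y < 16 ∧ rad (cmS x y) = true := by decide +kernel

theorem fact_out_comm : ∀ u < 64, outInv u = true →
    ∃ x < 64, ∃ y < 64, mulS x u = mulS u x ∧ mulS y u = mulS u y ∧ cmS x y = 15 := by decide +kernel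

theorem fact_odd_self : ∀ a < 16, rad a = false → ∀ x < 64, mulS x a = mulS a x → x < 16 := by
  decide +kernel

theorem fact_pair : ([1, 2, 3].all fun v => (fixV v).all fun a =>
    Nat.beq a 0 || Nat.beq a 15 || (List.range 64).all fun x => !comS x a ||
      ((Nat.beq (x / 16) 0 || Nat.beq (x / 16) v) &&
        (List.range 64).all fun y => !comS y a || (fixV v).contains (cmS x y))) = true := by
  decide +kernel

theorem fact_coset : ∀ u < 64, outInv u = true → ∀ w < 64, outInv w = true → w / 16 = u / 16 →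
    ∃ g < 64, cjS g u = w := by decide +kernel

theorem fact_quad : ∀ a ∈ [1, 2, 4, 8], ∀ b ∈ [1, 2, 4, 8], ∃ v < 4, sh v a = b := by decide +kernel

theorem fact_sh : ∀ v < 4, ∀ a < 16, cjS (16 * v) a = sh v a ∧ sh v a < 16 ∧ app (vL v) a = sh v a := by
  decide +kernel

theorem fact_normal : ∀ g < 64, ∀ a < 16, cjS g a < 16 ∧ cjS g a = sh (g / 16) a := by decide +kernel

theorem fact_vL : ∀ v < 4, ∀ i < 4, col (vL v) i = sh v (2 ^ i) := by decide +kernel

end Cfsg.Agent.Lib.A8Type36
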