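import Cfsg.Agent.Lib.A8Type36.Eight

/-!
# The model embedded as a Sylow 2-subgroup
-/

set_option autoImplicit false
set_option maxRecDepth 100000
set_option linter.style.haveILetI false

open Subgroup

namespace Cfsg.Agent.Lib.A8Type36

universe u

/-- A map of codes respecting the multiplication. -/
def autOK (f : Nat → Nat) : Bool :=
  (List.range 64).all fun x => Nat.blt (f x) 64 &&
    (List.range 64).all fun y => Nat.beq (f (mulS x y)) (mulS (f x) (f y)) && (Nat.beq x y || !Nat.beq (f x) (f y))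

/-- The exchange of the first and the third weight. -/
def flipW (x : Nat) : Nat :=
  (fun a => (fun par => (if par then Nat.xor a 15 else a) + 16 * (x / 16))
    ([1, 2, 4, 7, 8, 11, 13, 14].contains a)) (x % 16)

/-- Transposition of two non-zero points of the four group. -/
def swapV (p q v : Nat) : Nat := if v = p then q else if v = q then p else v

/-- The automorphism from a transposition. -/
def swapS (p q x : Nat) : Nat :=
  Nat.lor (Nat.lor (pick (x % 16) 0 1) (pick (x % 16) 1 (2 ^ swapV p q 1)))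
    (Nat.lor (pick (x % 16) 2 (2 ^ swapV p q 2)) (pick (x % 16) 3 (2 ^ swapV p q 3))) + 16 * swapV p q (x / 16)

theorem flipW_ok : autOK flipW = true := by decide +kernel

theorem swapS_ok12 : autOK (swapS 1 2) = true := by decide +kernel

theorem swapS_ok13 : autOK (swapS 1 3) = true := by decide +kernel

theorem swapS_ok23 : autOK (swapS 2 3) = true := by decide +kernel

/-- The model as a Sylow 2-subgroup. -/
structure Mdl (G : Type u) [Group G] where
  /-- The map on codes. -/
  ι : ℕ → G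
  map_mul : ∀ x < 64, ∀ y < 64, ι (mulS x y) = ι x * ι y
  inj : ∀ x < 64, ∀ y < 64, ι x = ι y → x = y
  /-- The Sylow subgroup. -/
  S : Sylow 2 G
  mem : ∀ g : G, g ∈ (S : Subgroup G) ↔ ∃ x < 64, ι x = g

variable {G : Type u} [Group G]

theorem all64 {f : Nat → Bool} (h : (List.range 64).all f = true) {x : Nat} (hx : x < 64) : f x = true :=
  List.all_eq_true.1 h x (List.mem_range.2 hx)

theorem mulS_lt {x y : Nat} (hx : x < 64) (hy : y < 64) : mulS x y < 64 := (pt_mul x hx y hy).1

theorem invS_lt {x : Nat} (hx : x < 64) : invS x < 64 := (pt_inv x hx 0).2.2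

theorem cjS_lt {g x : Nat} (hg : g < 64) (hx : x < 64) : cjS g x < 64 :=
  mulS_lt (mulS_lt hg hx) (invS_lt hg)

theorem cmS_lt {x y : Nat} (hx : x < 64) (hy : y < 64) : cmS x y < 64 :=
  mulS_lt (mulS_lt (mulS_lt hx hy) (invS_lt hx)) (invS_lt hy)

theorem autOK_spec {f : Nat → Nat} (h : autOK f = true) {x y : Nat} (hx : x < 64) (hy : y < 64) :
    f x < 64 ∧ f (mulS x y) = mulS (f x) (f y) ∧ (f x = f y → x = y) := by
  have h1 := all64 h hx
  rw [Bool.and_eq_true] at h1
  have h2 := all64 h1.2 hy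
  rw [Bool.and_eq_true] at h2
  refine ⟨Nat.le_of_ble_eq_true h1.1, Nat.eq_of_beq_eq_true h2.1, fun e => ?_⟩
  rcases (by simpa only [Bool.or_eq_true] using h2.2 : _ ∨ _) with h3 | h3
  · exact Nat.eq_of_beq_eq_true h3
  · rw [e] at h3; simp at h3

namespace Mdl

/-- The model renamed by an automorphism. -/
noncomputable def twist (M : Mdl G) (f : Nat → Nat) (hf : autOK f = true) : Mdl G where
  ι x := M.ι (f x)
  map_mul x hx y hy := by
    rw [(autOK_spec hf hx hy).2.1, M.map_mul _ (autOK_spec hf hx hy).1 _ (autOK_spec hf hy hx).1]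
  inj x hx y hy h :=
    (autOK_spec hf hx hy).2.2 (M.inj _ (autOK_spec hf hx hy).1 _ (autOK_spec hf hy hx).1 h)
  S := M.S
  mem g := by
    rw [M.mem g]
    constructor
    · rintro ⟨y, hy, rfl⟩
      let F : Fin 64 → Fin 64 := fun x => ⟨f x, (autOK_spec hf x.2 x.2).1⟩
      have hF : Function.Injective F := fun a b e =>
        Fin.ext ((autOK_spec hf a.2 b.2).2.2 (congrArg Fin.val e))
      obtain ⟨x, hx⟩ := Finite.injective_iff_surjective.1 hF ⟨y, hy⟩
      exact ⟨x, x.2, congrArg M.ι (congrArg Fin.val hx)⟩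
    · rintro ⟨x, hx, rfl⟩
      exact ⟨f x, (autOK_spec hf hx hx).1, rfl⟩

end Mdl

/-- A Sylow 2-subgroup of the type of `A₈` carries the model. -/
theorem exists_mdl (S : Sylow 2 G) (hS : ∀ P : Sylow 2 ↥(alternatingGroup (Fin 8)),
    Nonempty (↥(S : Subgroup G) ≃* ↥(P : Subgroup ↥(alternatingGroup (Fin 8))))) :
    ∃ M : Mdl G, M.S = S := by
  classical
  obtain ⟨P, hP⟩ := exists_sylow_eq
  obtain ⟨e⟩ := hS P
  have hmem : ∀ x : Fin 64, altOf x ∈ (P : Subgroup ↥(alternatingGroup (Fin 8))) := fun x => by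
    rw [hP]; exact ⟨x, rfl⟩
  let f : Fin 64 → ↥(S : Subgroup G) := fun x => e.symm ⟨altOf x, hmem x⟩
  refine ⟨⟨fun x => if h : x < 64 then (f ⟨x, h⟩ : G) else 1, ?_, ?_, S, ?_⟩, rfl⟩
  · intro x hx y hy
    rw [dif_pos (mulS_lt hx hy), dif_pos hx, dif_pos hy, ← Subgroup.coe_mul, ← map_mul]
    exact congrArg (fun z => ((e.symm z : ↥(S : Subgroup G)) : G)) (Subtype.ext (altOf_mul ⟨x, hx⟩ ⟨y, hy⟩).symm)
  · intro x hx y hy h
    rw [dif_pos hx, dif_pos hy] at h
    exact congrArg Fin.val (altOf_inj (congrArg Subtype.val (e.symm.injective (Subtype.ext h))))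
  · intro g
    constructor
    · intro hg
      obtain ⟨x, hx⟩ : ((e ⟨g, hg⟩ : ↥(P : Subgroup ↥(alternatingGroup (Fin 8)))) :
          ↥(alternatingGroup (Fin 8))) ∈ Set.range altOf := by
        exact (hP.le (e ⟨g, hg⟩).2 :)
      refine ⟨x, x.2, ?_⟩
      rw [dif_pos x.2]
      have : f x = ⟨g, hg⟩ := by
        show e.symm ⟨altOf x, hmem x⟩ = _
        rw [show (⟨altOf x, hmem x⟩ : ↥(P : Subgroup ↥(alternatingGroup (Fin 8)))) = e ⟨g, hg⟩ from
          Subtype.ext hx, e.symm_apply_apply]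
      exact congrArg Subtype.val this
    · rintro ⟨x, hx, rfl⟩
      rw [dif_pos hx]
      exact (f ⟨x, hx⟩).2

end Cfsg.Agent.Lib.A8Type36
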