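import Cfsg.Prelude.Def_CaseTheorems
import Cfsg.Prelude.Def_Transfer
import Cfsg.Agent.Lib.A8Type36.Model

/-!
# The two configurations with a pure four group in the centre of the base

helper36 (S2918).  Interface between the fusion analysis and the signalizer and recognition steps.
Codes: `a + 16 v`, see `Code`; `15` is the central involution, codes below `16` form the elementary
abelian subgroup of order 16.
-/

set_option autoImplicit false

open Subgroup Cfsg

namespace Cfsg.Agent.Lib.A8Type36

universe u

variable {G : Type u} [Group G]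

/-- The codes of the orbit in the case of five. -/
def fiveL : List Nat := [15, 1, 2, 4, 8]

/-- The codes of the fused involutions in the case of nine. -/
def nineL : List Nat := [15, 1, 2, 4, 8, 3, 12, 5, 10, 16, 19, 28, 31, 32, 37, 42, 47]

namespace Mdl

/-- The central involution. -/
def z (M : Mdl G) : G := M.ι 15

/-- The centraliser of the central involution. -/
def H (M : Mdl G) : Subgroup G := Subgroup.centralizer {M.z}

/-- The odd core of the centraliser. -/
noncomputable def OH (M : Mdl G) : Subgroup G := (oddCore ↥M.H).map M.H.subtype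

/-- The elementary abelian subgroup of order 16. -/
def A (M : Mdl G) : Subgroup G := Subgroup.closure (M.ι '' {a | a < 16})

/-- The extraspecial subgroup of order 32. -/
def Q (M : Mdl G) : Subgroup G := Subgroup.closure (M.ι '' {x | x < 64 ∧ rad (x % 16) = true})

/-- The element with the given code is conjugate to the central involution. -/
def Fu (M : Mdl G) (x : ℕ) : Prop := IsConj M.z (M.ι x)

end Mdl

/-- What both configurations share. -/
structure Base (M : Mdl G) : Prop where
  residual : pResidual 2 G = ⊤
  core2 : pCore 2 G = ⊥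
  core : oddCore G = ⊥
  solv : IsSolvable ↥M.H
  /-- Every involution of the Sylow subgroup is moved into `A` by the centraliser. -/
  moves : ∀ u < 64, outInv u = true → ∃ h ∈ M.H, ∃ a < 16, h * M.ι u * h⁻¹ = M.ι a
  /-- Frattini for `Q O(H)`. -/
  frat : ∀ h ∈ M.H, ∃ o ∈ M.OH, ∃ n ∈ M.H, (∀ g, n * g * n⁻¹ ∈ M.Q ↔ g ∈ M.Q) ∧ h = o * n

/-- The configuration of `PSp₄(3)`. -/
structure FiveCase (M : Mdl G) : Prop extends Base M where
  fused : ∀ x < 64, (M.Fu x ↔ x ∈ fiveL)
  other : ∀ a < 16, a ≠ 0 → a ∉ fiveL → IsConj (M.ι 3) (M.ι a)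

/-- The configuration of `A₈` and `A₉`; the normalisation leaves the pair `6, 9` unfused. -/
structure NineCase (M : Mdl G) : Prop extends Base M where
  fused : ∀ x < 64, (M.Fu x ↔ x ∈ nineL)
  other : ∀ a < 16, a ≠ 0 → a ∉ nineL → IsConj (M.ι 9) (M.ι a)
  /-- The centraliser of `9` in `C(z)`. -/
  cent : ∀ h ∈ M.H, h * M.ι 9 = M.ι 9 * h → ∃ o ∈ M.OH, ∃ x < 64, h = o * M.ι x

end Cfsg.Agent.Lib.A8Type36
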