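import Cfsg.Agent.Lib.A8Type36.Automiser
import Cfsg.Agent.Lib.A8Type36.Interface
import Cfsg.Agent.Lib.ZStar.StronglyClosed

/-!
# Fusion in the base is controlled by its normaliser; the central involution is fused
-/

set_option autoImplicit false
set_option linter.style.haveILetI false

open Subgroup Cfsg

namespace Cfsg.Agent.Lib.A8Type36

universe u

namespace Mdl

variable {G : Type u} [Group G] [Finite G] (M : Mdl G)

/-- The base is weakly closed in the Sylow subgroup. -/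
theorem mem_nA_of_le {g : G} (h : ∀ a < 16, g * M.ι a * g⁻¹ ∈ (M.S : Subgroup G)) : g ∈ M.nA := by
  classical
  choose f hf hfe using fun a : Fin 16 => (M.mem _).1 (h a a.2)
  have finj : Function.Injective f := fun a b e => Fin.ext (M.inj _ (by omega) _ (by omega) (by
    have h2 := hfe b
    rw [← e, hfe a] at h2
    exact mul_left_cancel (mul_right_cancel h2)))
  have hsmall : ∀ a : Fin 16, f a < 16 := by
    intro a
    by_contra hlt
    have hx := hf a
    have hfew := fact_few (f a) hx (by omega)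
    have hsub : Finset.univ.image f ⊆
        ((List.range 64).filter fun y => Nat.beq (mulS y y) 0 && comS (f a) y).toFinset := by
      intro y hy
      obtain ⟨b, -, rfl⟩ := Finset.mem_image.1 hy
      rw [List.mem_toFinset, List.mem_filter, List.mem_range, Bool.and_eq_true]
      refine ⟨hf b, ?_, (M.commute_iff hx (hf b)).2 ?_⟩
      · have e : mulS (f b) (f b) = 0 := M.inj _ (mulS_lt (hf b) (hf b)) 0 (by norm_num) (by
          rw [M.map_mul _ (hf b) _ (hf b), hfe b, conj_mul, M.w_sq b.2, M.map_zero, mul_one,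
            mul_inv_cancel])
        rw [e]; rfl
      · rw [hfe a, hfe b, conj_mul, conj_mul, M.w_comm a.2 b.2]
    have := (Finset.card_le_card hsub).trans (List.toFinset_card_le _)
    rw [Finset.card_image_of_injective _ finj, Finset.card_univ, Fintype.card_fin] at this
    omega
  refine Subgroup.mem_normalizer_iff.2 fun x => ?_
  have hsub : ∀ x ∈ M.wSub, g * x * g⁻¹ ∈ M.wSub := by
    rintro _ ⟨a, ha, rfl⟩
    exact ⟨f ⟨a, ha⟩, hsmall _, hfe ⟨a, ha⟩⟩
  refine ⟨hsub x, fun hx => ?_⟩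
  let F : ↥M.wSub → ↥M.wSub := fun x => ⟨g * x * g⁻¹, hsub x x.2⟩
  have hF : Function.Injective F := fun x y e =>
    Subtype.ext (mul_left_cancel (mul_right_cancel (congrArg Subtype.val e)))
  obtain ⟨y, hy⟩ := Finite.injective_iff_surjective.1 hF ⟨_, hx⟩
  rw [← mul_left_cancel (mul_right_cancel (congrArg Subtype.val hy))]
  exact y.2

/-- Weak closure in every 2-subgroup. -/
theorem mem_nA_of_isPGroup {P : Subgroup G} (hP : IsPGroup 2 P) (hW : M.wSub ≤ P) {g : G}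
    (h : ∀ a < 16, g * M.ι a * g⁻¹ ∈ P) : g ∈ M.nA := by
  haveI : Fact (Nat.Prime 2) := ⟨Nat.prime_two⟩
  obtain ⟨T, hT⟩ := hP.exists_le_sylow
  obtain ⟨k, hk⟩ := MulAction.exists_smul_eq G T M.S
  have hmem : ∀ x ∈ P, k * x * k⁻¹ ∈ (M.S : Subgroup G) := fun x hx =>
    ZStar.Elements.smul_mem hk (hT hx)
  have hk' : k ∈ M.nA := M.mem_nA_of_le fun a ha => hmem _ (hW (M.w_mem ha))
  have hkg : k * g ∈ M.nA := M.mem_nA_of_le fun a ha => by
    have := hmem _ (h a ha)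
    rwa [show k * g * M.ι a * (k * g)⁻¹ = k * (g * M.ι a * g⁻¹) * k⁻¹ by group]
  have h' : k⁻¹ * (k * g) ∈ M.nA := mul_mem (inv_mem hk') hkg
  rwa [inv_mul_cancel_left] at h'

/-- Fusion in the base is controlled by its normaliser, also inside a subgroup containing it. -/
theorem fusion (R : Subgroup G) (hR : M.wSub ≤ R) {i j : ℕ} (hi : i < 16) (hj : j < 16) {g : G}
    (hg : g ∈ R) (e : g * M.ι i * g⁻¹ = M.ι j) :
    ∃ m ∈ M.nA, m ∈ R ∧ m * M.ι i * m⁻¹ = M.ι j := by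
  haveI : Fact (Nat.Prime 2) := ⟨Nat.prime_two⟩
  let C : Subgroup G := Subgroup.centralizer {M.ι j} ⊓ R
  let V : Subgroup G := M.wSub.map (MulAut.conj g).toMonoidHom
  have hW2 : IsPGroup 2 M.wSub := M.S.2.to_le M.wSub_le
  have hWC : M.wSub ≤ C := fun x hx => by
    refine ⟨?_, hR hx⟩
    obtain ⟨k, hk, rfl⟩ := hx
    exact mem_centralizer_singleton_iff.2 (M.w_comm hk hj)
  have hVC : V ≤ C := by
    rintro _ ⟨x, ⟨k, hk, rfl⟩, rfl⟩
    refine ⟨mem_centralizer_singleton_iff.2 ?_, R.mul_mem (R.mul_mem hg (hR (M.w_mem hk))) (R.inv_mem hg)⟩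
    show g * M.ι k * g⁻¹ * M.ι j = M.ι j * (g * M.ι k * g⁻¹)
    rw [← e, conj_mul, conj_mul, M.w_comm hk hi]
  obtain ⟨P, hP⟩ := (hW2.comap_subtype (K := C)).exists_le_sylow
  obtain ⟨Q, hQ⟩ := ((hW2.map (MulAut.conj g).toMonoidHom).comap_subtype (K := C)).exists_le_sylow
  obtain ⟨k, hk⟩ := MulAction.exists_smul_eq C Q P
  have hPG : IsPGroup 2 ((P : Subgroup C).map C.subtype) := P.isPGroup'.map _
  have hWP : M.wSub ≤ (P : Subgroup C).map C.subtype := fun x hx =>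
    ⟨⟨x, hWC hx⟩, hP hx, rfl⟩
  have hmem : (k : G) * g ∈ M.nA := M.mem_nA_of_isPGroup hPG hWP fun q hq => by
    refine ⟨k * ⟨g * M.ι q * g⁻¹, hVC ⟨M.ι q, M.w_mem hq, rfl⟩⟩ * k⁻¹,
      ZStar.Elements.smul_mem hk (hQ ⟨M.ι q, M.w_mem hq, rfl⟩), ?_⟩
    simp only [Subgroup.coe_subtype, Subgroup.coe_mul, Subgroup.coe_inv]
    group
  refine ⟨(k : G) * g, hmem, mul_mem k.2.2 hg, ?_⟩
  rw [show (k : G) * g * M.ι i * ((k : G) * g)⁻¹ = k * (g * M.ι i * g⁻¹) * (k : G)⁻¹ by group, e]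
  exact mul_inv_eq_iff_eq_mul.2 (mem_centralizer_singleton_iff.1 k.2.1)

/-- Conjugate elements of the base are related by a coded map of the automiser. -/
theorem exists_code {a b : ℕ} (ha : a < 16) (hb : b < 16) (h : IsConj (M.ι a) (M.ι b)) :
    ∃ n g, canon g ∧ M.Acts n g ∧ injL g = true ∧ app g a = b := by
  obtain ⟨c, hc⟩ := isConj_iff.1 h
  obtain ⟨m, hm, -, e⟩ := M.fusion ⊤ le_top ha hb (Subgroup.mem_top c) hc
  obtain ⟨g, cg, hg, hi⟩ := M.exists_acts hm
  exact ⟨m, g, cg, hg, hi, M.inj _ (by have := app_lt g a; omega) _ (by omega) ((hg a ha).symm.trans e)⟩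

omit [Finite G] in
/-- The Sylow subgroup centralises the central involution. -/
theorem S_le_H : (M.S : Subgroup G) ≤ M.H := fun g hg => by
  obtain ⟨x, hx, rfl⟩ := (M.mem g).1 hg
  refine mem_centralizer_singleton_iff.2 ?_
  show M.ι x * M.ι 15 = M.ι 15 * M.ι x
  rw [← M.map_mul x hx 15 (by norm_num), ← M.map_mul 15 (by norm_num) x hx, fact_z.2 x hx]

/-- A fused involution outside the base pulls the central involution into `rad`. -/
theorem out_fused {u : ℕ} (hu : u < 64) (ho : outInv u = true) (hf : M.Fu u) :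
    ∃ k : G, k * M.ι u * k⁻¹ = M.ι 15 ∧
      ∃ c < 16, rad c = true ∧ c ≠ 15 ∧ k * M.ι 15 * k⁻¹ = M.ι c := by
  haveI : Fact (Nat.Prime 2) := ⟨Nat.prime_two⟩
  obtain ⟨x, hx, y, hy, exu, eyu, exy⟩ := fact_out_comm u hu ho
  obtain ⟨g, hg⟩ := isConj_iff.1 hf.symm
  set D : Subgroup G := (M.S : Subgroup G) ⊓ Subgroup.centralizer {M.ι u}
  have hD : ∀ t < 64, mulS t u = mulS u t → M.ι t ∈ D := fun t ht e =>
    ⟨M.ι_mem ht, mem_centralizer_singleton_iff.2 (by rw [← M.map_mul t ht u hu, ← M.map_mul u hu t ht, e])⟩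
  let D' : Subgroup G := D.map (MulAut.conj g).toMonoidHom
  have hD' : D' ≤ M.H := by
    rintro _ ⟨d, hd, rfl⟩
    refine mem_centralizer_singleton_iff.2 ?_
    show g * d * g⁻¹ * M.z = M.z * (g * d * g⁻¹)
    rw [← hg, conj_mul, conj_mul, mem_centralizer_singleton_iff.1 hd.2]
  have hp : IsPGroup 2 D' := (M.S.2.to_le inf_le_left).map _
  obtain ⟨T, hT⟩ := (hp.comap_subtype (K := M.H)).exists_le_sylow
  obtain ⟨h, hh⟩ := MulAction.exists_smul_eq M.H T (M.S.subtype M.S_le_H)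
  have key : ∀ t ∈ D, (h : G) * g * t * ((h : G) * g)⁻¹ ∈ (M.S : Subgroup G) := fun t ht => by
    have hm : g * t * g⁻¹ ∈ D' := ⟨t, ht, rfl⟩
    have := ZStar.Elements.smul_mem hh (hT (show (⟨_, hD' hm⟩ : M.H) ∈ _ from hm))
    rwa [show (h : G) * g * t * ((h : G) * g)⁻¹ = h * (g * t * g⁻¹) * (h : G)⁻¹ by group]
  have hku : (h : G) * g * M.ι u * ((h : G) * g)⁻¹ = M.ι 15 := by
    rw [show (h : G) * g * M.ι u * ((h : G) * g)⁻¹ = h * (g * M.ι u * g⁻¹) * (h : G)⁻¹ by group, hg]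
    exact mul_inv_eq_iff_eq_mul.2 (mem_centralizer_singleton_iff.1 h.2)
  refine ⟨h * g, hku, ?_⟩
  obtain ⟨x', hx', ex⟩ := (M.mem _).1 (key _ (hD x hx exu))
  obtain ⟨y', hy', ey⟩ := (M.mem _).1 (key _ (hD y hy eyu))
  obtain ⟨hc16, hrad⟩ := fact_derived x' hx' y' hy'
  have ec : (h : G) * g * M.ι 15 * ((h : G) * g)⁻¹ = M.ι (cmS x' y') := by
    rw [M.map_cm hx' hy', ex, ey, ← exy, M.map_cm hx hy]; group
  refine ⟨_, hc16, hrad, fun e15 => ?_, ec⟩
  have := M.inj _ (by norm_num) _ hu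
    (mul_left_cancel (mul_right_cancel (ec.trans ((congrArg M.ι e15).trans hku.symm))))
  have := (fact_outInv u hu ho).1
  omega

/-- With trivial cores the central involution is fused in the base. -/
theorem exists_fused (hcore : oddCore G = ⊥) (hcore2 : pCore 2 G = ⊥) :
    ∃ a < 16, a ≠ 0 ∧ a ≠ 15 ∧ M.Fu a := by
  haveI : Fact (Nat.Prime 2) := ⟨Nat.prime_two⟩
  by_contra hno
  push Not at hno
  have hz2 : orderOf (M.ι 15) = 2 :=
    orderOf_eq_prime (by rw [sq, M.w_sq (by norm_num)]) (M.ι_ne_one (by norm_num) (by norm_num))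
  have hiso : ∀ g : G, g * M.ι 15 * g⁻¹ ∈ M.S → g * M.ι 15 * g⁻¹ = M.ι 15 := by
    intro g hg
    obtain ⟨x, hx, e⟩ := (M.mem _).1 hg
    have hfx : M.Fu x := isConj_iff.2 ⟨g, e.symm⟩
    have hxx : mulS x x = 0 := M.inj _ (mulS_lt hx hx) 0 (by norm_num) (by
      rw [M.map_mul x hx x hx, e, conj_mul, M.w_sq (by norm_num), M.map_zero, mul_one, mul_inv_cancel])
    have h0 : x ≠ 0 := fun h => by
      rw [h, M.map_zero] at e
      exact M.ι_ne_one (x := 15) (by norm_num) (by norm_num) (conj_eq_one_iff.1 e.symm)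
    rcases fact_invol x hx hxx with hlt | ho
    · by_cases h15 : x = 15
      · rw [← e, h15]
      · exact absurd hfx (hno x hlt h0 h15)
    · exfalso
      obtain ⟨k, -, c, hc, -, hc15, ec⟩ := M.out_fused hx ho hfx
      refine hno c hc (fun h => ?_) hc15 (isConj_iff.2 ⟨k, ec⟩)
      rw [h, M.map_zero] at ec
      exact M.ι_ne_one (x := 15) (by norm_num) (by norm_num) (conj_eq_one_iff.1 ec)
  obtain ⟨N, hN, hodd, hmem⟩ := ZStar.UniqueCase.zstar M.S (M.ι 15) hz2 (M.ι_mem (by norm_num)) hiso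
  have hN' : N = ⊥ := le_bot_iff.1 ((Cores.le_pPrimeCore (p := 2) (Nat.coprime_two_right.2 hodd)).trans
    (le_of_eq hcore))
  have hcen : M.ι 15 ∈ Subgroup.center G := by
    rw [Subgroup.mem_center_iff]
    intro g
    have hm := hmem g
    rw [hN', Subgroup.mem_bot, mul_inv_eq_one] at hm
    exact (mul_inv_eq_iff_eq_mul.1 hm).symm
  haveI hnorm : (Subgroup.zpowers (M.ι 15)).Normal :=
    Subgroup.Normal.mk fun x hx g => by
      obtain ⟨j, rfl⟩ := Subgroup.mem_zpowers_iff.1 hx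
      rw [Subgroup.mem_center_iff.1 (zpow_mem hcen j) g, mul_inv_cancel_right]
      exact zpow_mem (Subgroup.mem_zpowers _) j
  have h2 : IsPGroup 2 (Subgroup.zpowers (M.ι 15)) :=
    M.S.2.to_le (Subgroup.zpowers_le.2 (M.ι_mem (by norm_num)))
  have := (le_sSup (s := {N : Subgroup G | N.Normal ∧ IsPGroup 2 N}) ⟨hnorm, h2⟩).trans
    (le_of_eq hcore2)
  exact M.ι_ne_one (x := 15) (by norm_num) (by norm_num)
    (Subgroup.mem_bot.1 (this (Subgroup.mem_zpowers _)))

end Mdl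

end Cfsg.Agent.Lib.A8Type36
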