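import Cfsg.Agent.Lib.A8Type36.Code

/-!
# The computed classification of the orbit of the central involution on the base
-/

set_option autoImplicit false
set_option maxRecDepth 100000
set_option Elab.async false

namespace Cfsg.Agent.Lib.A8Type36

/-- The product along a word; the letters are given by a list. -/
def evW (L : List Nat) : List Nat → Nat
  | [] => oneL
  | l :: w => mulL (L.getD l oneL) (evW L w)

/-- The letters of one element. -/
def letG (g : Nat) : List Nat := [g, vL 1, vL 2, vL 3]

/-- The letters of two elements. -/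
def letGH (g h : Nat) : List Nat := [g, h, vL 1, vL 2, vL 3]

/-- The candidate with `app g 15 = x` number `k`. -/
def candL (x k : Nat) : Nat :=
  mkL (k % 16) (k / 16 % 16) (k / 256) (Nat.xor (Nat.xor x (k % 16)) (Nat.xor (k / 16 % 16) (k / 256)))

/-- No non-zero element is mapped to zero. -/
def injL (g : Nat) : Bool := (List.range 16).all fun a => Nat.beq a 0 || !Nat.beq (app g a) 0

/-- The set is invariant. -/
def presL (O : List Nat) (g : Nat) : Bool := O.all fun a => O.any fun b => Nat.beq (app g a) b

/-- Some word gives a forbidden element. -/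
def anyBad (L : List Nat) (W : List (List Nat)) : Bool := W.any fun w => badL (evW L w)

/-- The words for a single element. -/
def words1 : List (List Nat) :=
  [[0], [0, 0, 2], [0, 3, 0, 1], [0, 0, 2, 0], [0, 0, 1, 0], [0, 2, 0, 0, 1], [0, 0, 3, 0, 3],
    [0, 0, 1, 0, 0, 2], [0, 0, 1, 0, 0, 3], [0, 2, 0, 3, 0, 2], [0, 1, 0, 3, 0, 1], [0, 1, 0, 2, 0, 1],
    [0, 3, 0, 1, 0, 3], [0, 0, 0, 1, 0, 2], [0, 0, 0, 1, 0, 3], [0, 0, 0, 2, 0, 1], [0, 0, 0, 2, 0, 3]]

/-- Elements left over for the first weight. -/
def left1 : List Nat :=
  [9359, 10484, 12104, 12198, 17144, 18479, 19702, 20354, 27378, 28612, 33359, 34034, 36015, 36644,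
    42543, 44940, 50287, 51450, 62058, 62084, 62504, 63052, 63554, 64200]

/-- Elements left over for the third weight. -/
def left7 : List Nat :=
  [4748, 6218, 8648, 10388, 18818, 18968, 33188, 33353, 35244, 35529, 35858, 35994, 37928, 39114,
    39564, 40104, 42113, 43164, 43464, 44169, 51233, 51369, 51594, 51864]

/-- A word of order three fixing the given points. -/
def goodW (L : List Nat) (P : List Nat) (w : List Nat) : Bool :=
  (fun e => badL e || (!Nat.beq e oneL && Nat.beq (mulL e (mulL e e)) oneL &&
    P.all fun a => Nat.beq (app e a) a)) (evW L w)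

end Cfsg.Agent.Lib.A8Type36
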