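import Cfsg.Agent.Lib.A8Type36.Model
import Cfsg.Agent.Lib.A8Type36.Facts
import Cfsg.Agent.Lib.A8Type36.OrbitDefs

/-!
# Linear maps induced on the elementary abelian subgroup
-/

set_option autoImplicit false
set_option linter.style.haveILetI false

open Subgroup

namespace Cfsg.Agent.Lib.A8Type36

universe u

theorem pick_xor (a b i r : Nat) : pick (a ^^^ b) i r = pick a i r ^^^ pick b i r := by
  unfold pick
  rw [Nat.testBit_xor]
  cases Nat.testBit a i <;> cases Nat.testBit b i <;> simp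

theorem pick_lt {a i r : Nat} (h : r < 16) : pick a i r < 16 := by
  unfold pick; split <;> omega

theorem xor_lt {a b : Nat} (ha : a < 16) (hb : b < 16) : a ^^^ b < 16 :=
  Nat.xor_lt_two_pow (n := 4) ha hb

theorem col_lt (g i : Nat) : col g i < 16 :=
  Nat.lt_of_le_of_lt Nat.and_le_right (by norm_num)

theorem app_lt (g a : Nat) : app g a < 16 :=
  xor_lt (xor_lt (pick_lt (col_lt _ _)) (pick_lt (col_lt _ _)))
    (xor_lt (pick_lt (col_lt _ _)) (pick_lt (col_lt _ _)))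

theorem app_eq (g a : Nat) : app g a =
    (pick a 0 (col g 0) ^^^ pick a 1 (col g 1)) ^^^ (pick a 2 (col g 2) ^^^ pick a 3 (col g 3)) := rfl

theorem app_xor (g a b : Nat) : app g (a ^^^ b) = app g a ^^^ app g b := by
  simp only [app_eq, pick_xor]
  ac_rfl

theorem app_bit (g i : Nat) (hi : i < 4) : app g (2 ^ i) = col g i := by
  interval_cases i <;> simp [app, pick, Nat.testBit, Nat.shiftRight_eq_div_pow]

theorem app_zero (g : Nat) : app g 0 = 0 := by simp [app, pick]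

theorem col_mkL {c0 c1 c2 c3 : Nat} (h0 : c0 < 16) (h1 : c1 < 16) (h2 : c2 < 16) (h3 : c3 < 16) :
    col (mkL c0 c1 c2 c3) 0 = c0 ∧ col (mkL c0 c1 c2 c3) 1 = c1 ∧ col (mkL c0 c1 c2 c3) 2 = c2 ∧
      col (mkL c0 c1 c2 c3) 3 = c3 := by
  have h : ∀ x : Nat, Nat.land x 15 = x % 16 := fun x => Nat.and_two_pow_sub_one_eq_mod x 4
  simp only [col, mkL, h, Nat.shiftRight_eq, Nat.shiftRight_eq_div_pow]
  norm_num
  refine ⟨?_, ?_, ?_, ?_⟩ <;> omega

theorem col_mulL (g h i : Nat) (hi : i < 4) : col (mulL g h) i = app g (col h i) := by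
  obtain ⟨e0, e1, e2, e3⟩ := col_mkL (app_lt g (col h 0)) (app_lt g (col h 1)) (app_lt g (col h 2))
    (app_lt g (col h 3))
  interval_cases i <;> assumption

theorem decomp : ∀ a < 16, a =
    (pick a 0 (2 ^ 0) ^^^ pick a 1 (2 ^ 1)) ^^^ (pick a 2 (2 ^ 2) ^^^ pick a 3 (2 ^ 3)) := by
  decide

theorem app_mulL (g h : Nat) {a : Nat} (ha : a < 16) : app (mulL g h) a = app g (app h a) := by
  have hp : ∀ i < 4, app g (pick a i (col h i)) = pick a i (col (mulL g h) i) := fun i hi => by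
    unfold pick
    split
    · rw [col_mulL g h i hi]
    · exact app_zero g
  symm
  show app g ((pick a 0 (col h 0) ^^^ pick a 1 (col h 1)) ^^^ (pick a 2 (col h 2) ^^^ pick a 3 (col h 3))) = _
  rw [app_xor, app_xor, app_xor, hp 0 (by norm_num), hp 1 (by norm_num), hp 2 (by norm_num),
    hp 3 (by norm_num)]
  rfl

theorem app_mk {c0 c1 c2 c3 : Nat} (h0 : c0 < 16) (h1 : c1 < 16) (h2 : c2 < 16) (h3 : c3 < 16) :
    app (mkL c0 c1 c2 c3) 1 = c0 ∧ app (mkL c0 c1 c2 c3) 2 = c1 ∧ app (mkL c0 c1 c2 c3) 4 = c2 ∧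
      app (mkL c0 c1 c2 c3) 8 = c3 := by
  obtain ⟨e0, e1, e2, e3⟩ := col_mkL h0 h1 h2 h3
  exact ⟨(app_bit _ 0 (by norm_num)).trans e0, (app_bit _ 1 (by norm_num)).trans e1,
    (app_bit _ 2 (by norm_num)).trans e2, (app_bit _ 3 (by norm_num)).trans e3⟩

/-- The four entries in canonical form. -/
def canon (g : Nat) : Prop := g = mkL (col g 0) (col g 1) (col g 2) (col g 3)

theorem canon_mk {c0 c1 c2 c3 : Nat} (h0 : c0 < 16) (h1 : c1 < 16) (h2 : c2 < 16) (h3 : c3 < 16) :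
    canon (mkL c0 c1 c2 c3) := by
  obtain ⟨e0, e1, e2, e3⟩ := col_mkL h0 h1 h2 h3
  rw [canon, e0, e1, e2, e3]

theorem canon_mulL (g h : Nat) : canon (mulL g h) :=
  canon_mk (app_lt _ _) (app_lt _ _) (app_lt _ _) (app_lt _ _)

theorem canon_oneL : canon oneL := show oneL = _ by decide

theorem canon_vL : ∀ v < 4, canon (vL v) :=
  show ∀ v < 4, vL v = mkL (col (vL v) 0) (col (vL v) 1) (col (vL v) 2) (col (vL v) 3) by decide

theorem eq_of_app {g h : Nat} (hg : canon g) (hh : canon h) (e : ∀ a < 16, app g a = app h a) : g = h := by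
  rw [hg, hh]
  congr 1 <;> rw [← app_bit _ _ (by norm_num), ← app_bit _ _ (by norm_num)] <;> exact e _ (by norm_num)

theorem app_oneL : ∀ a < 16, app oneL a = a := by decide

theorem app_vL : ∀ v < 4, ∀ a < 16, app (vL v) a = sh v a := fun v hv a ha => (fact_sh v hv a ha).2.2

namespace Mdl

variable {G : Type u} [Group G] (M : Mdl G)

theorem map_zero : M.ι 0 = 1 := by
  have h := M.map_mul 0 (by norm_num) 0 (by norm_num)
  rw [show mulS 0 0 = 0 from by decide] at h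
  exact mul_eq_left.1 h.symm

theorem ι_ne_one {x : Nat} (hx : x < 64) (h0 : x ≠ 0) : M.ι x ≠ 1 := fun h =>
  h0 (M.inj x hx 0 (by norm_num) (h.trans M.map_zero.symm))

theorem map_inv {x : Nat} (hx : x < 64) : M.ι (invS x) = (M.ι x)⁻¹ := by
  refine (inv_eq_of_mul_eq_one_right ?_).symm
  rw [← M.map_mul x hx _ (invS_lt hx),
    (show ∀ x < 64, mulS x (invS x) = 0 from by decide +kernel) x hx, M.map_zero]

theorem map_cj {g x : Nat} (hg : g < 64) (hx : x < 64) :
    M.ι (cjS g x) = M.ι g * M.ι x * (M.ι g)⁻¹ := by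
  rw [cjS, M.map_mul _ (mulS_lt hg hx) _ (invS_lt hg), M.map_mul g hg x hx, M.map_inv hg]

theorem map_cm {x y : Nat} (hx : x < 64) (hy : y < 64) :
    M.ι (cmS x y) = M.ι x * M.ι y * (M.ι x)⁻¹ * (M.ι y)⁻¹ := by
  rw [cmS, M.map_mul _ (mulS_lt (mulS_lt hx hy) (invS_lt hx)) _ (invS_lt hy),
    M.map_mul _ (mulS_lt hx hy) _ (invS_lt hx), M.map_mul x hx y hy, M.map_inv hx, M.map_inv hy]

theorem commute_iff {x y : Nat} (hx : x < 64) (hy : y < 64) :
    comS x y = true ↔ M.ι x * M.ι y = M.ι y * M.ι x := by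
  rw [← M.map_mul x hx y hy, ← M.map_mul y hy x hx, comS]
  constructor
  · intro h; rw [Nat.eq_of_beq_eq_true h]
  · intro h; rw [M.inj _ (mulS_lt hx hy) _ (mulS_lt hy hx) h]; simp

theorem ι_mem {x : Nat} (hx : x < 64) : M.ι x ∈ (M.S : Subgroup G) := (M.mem _).2 ⟨x, hx, rfl⟩

theorem w_mul {a b : Nat} (ha : a < 16) (hb : b < 16) : M.ι a * M.ι b = M.ι (a ^^^ b) := by
  rw [← M.map_mul a (by omega) b (by omega), (fact_base a ha b hb).1]
  rfl

theorem w_sq {a : Nat} (ha : a < 16) : M.ι a * M.ι a = 1 := by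
  rw [M.w_mul ha ha, Nat.xor_self, M.map_zero]

theorem w_inv {a : Nat} (ha : a < 16) : (M.ι a)⁻¹ = M.ι a := inv_eq_of_mul_eq_one_right (M.w_sq ha)

theorem w_comm {a b : Nat} (ha : a < 16) (hb : b < 16) : M.ι a * M.ι b = M.ι b * M.ι a := by
  rw [M.w_mul ha hb, M.w_mul hb ha, Nat.xor_comm]

/-- The base as a subgroup. -/
def wSub : Subgroup G where
  carrier := {g | ∃ a < 16, M.ι a = g}
  one_mem' := ⟨0, by norm_num, M.map_zero⟩
  mul_mem' := by
    rintro _ _ ⟨a, ha, rfl⟩ ⟨b, hb, rfl⟩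
    exact ⟨_, xor_lt ha hb, (M.w_mul ha hb).symm⟩
  inv_mem' := by
    rintro _ ⟨a, ha, rfl⟩
    exact ⟨a, ha, (M.w_inv ha).symm⟩

theorem mem_wSub {g : G} : g ∈ M.wSub ↔ ∃ a < 16, M.ι a = g := Iff.rfl

theorem w_mem {a : Nat} (ha : a < 16) : M.ι a ∈ M.wSub := ⟨a, ha, rfl⟩

theorem wSub_le : M.wSub ≤ (M.S : Subgroup G) := by
  rintro _ ⟨a, ha, rfl⟩
  exact M.ι_mem (by omega)

/-- The normaliser of the base. -/
def nA : Subgroup G := Subgroup.normalizer (M.wSub : Set G)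

/-- `n` acts on the base as the coded linear map. -/
def Acts (n : G) (g : Nat) : Prop := ∀ a < 16, n * M.ι a * n⁻¹ = M.ι (app g a)

theorem mem_nA_of_acts [Finite G] {n : G} {g : Nat} (h : M.Acts n g) : n ∈ M.nA := by
  have hsub : ∀ x ∈ M.wSub, n * x * n⁻¹ ∈ M.wSub := by
    rintro _ ⟨a, ha, rfl⟩
    exact ⟨_, app_lt g a, (h a ha).symm⟩
  refine Subgroup.mem_normalizer_iff.2 fun x => ⟨hsub x, fun hx => ?_⟩
  let f : ↥M.wSub → ↥M.wSub := fun x => ⟨n * x * n⁻¹, hsub x x.2⟩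
  have hf : Function.Injective f := fun x y e =>
    Subtype.ext (mul_left_cancel (mul_right_cancel (congrArg Subtype.val e)))
  obtain ⟨y, hy⟩ := Finite.injective_iff_surjective.1 hf ⟨_, hx⟩
  rw [← mul_left_cancel (mul_right_cancel (congrArg Subtype.val hy))]
  exact y.2

theorem exists_acts {n : G} (hn : n ∈ M.nA) : ∃ g, canon g ∧ M.Acts n g ∧ injL g = true := by
  have h : ∀ a < 16, ∃ b < 16, n * M.ι a * n⁻¹ = M.ι b := fun a ha => by
    obtain ⟨b, hb, e⟩ := (Subgroup.mem_normalizer_iff.1 hn _).1 (M.w_mem ha)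
    exact ⟨b, hb, e.symm⟩
  obtain ⟨c0, l0, e0⟩ := h 1 (by norm_num)
  obtain ⟨c1, l1, e1⟩ := h 2 (by norm_num)
  obtain ⟨c2, l2, e2⟩ := h 4 (by norm_num)
  obtain ⟨c3, l3, e3⟩ := h 8 (by norm_num)
  obtain ⟨a0, a1, a2, a3⟩ := app_mk l0 l1 l2 l3
  have hxor : ∀ a b, a < 16 → b < 16 → n * M.ι a * n⁻¹ = M.ι (app (mkL c0 c1 c2 c3) a) →
      n * M.ι b * n⁻¹ = M.ι (app (mkL c0 c1 c2 c3) b) →
      n * M.ι (a ^^^ b) * n⁻¹ = M.ι (app (mkL c0 c1 c2 c3) (a ^^^ b)) := by
    intro a b ha hb ea eb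
    rw [app_xor, ← M.w_mul ha hb, ← M.w_mul (app_lt _ _) (app_lt _ _), ← ea, ← eb]; group
  have hpick : ∀ a i r, r = 1 ∨ r = 2 ∨ r = 4 ∨ r = 8 → i < 4 →
      n * M.ι (pick a i r) * n⁻¹ = M.ι (app (mkL c0 c1 c2 c3) (pick a i r)) := by
    intro a i r hr _
    unfold pick
    split
    · rcases hr with rfl | rfl | rfl | rfl
      · rw [e0, a0]
      · rw [e1, a1]
      · rw [e2, a2]
      · rw [e3, a3]
    · rw [app_zero, M.map_zero, mul_one, mul_inv_cancel]
  have hA : M.Acts n (mkL c0 c1 c2 c3) := fun a ha => by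
    rw [decomp a ha]
    exact hxor _ _ (xor_lt (pick_lt (by norm_num)) (pick_lt (by norm_num)))
      (xor_lt (pick_lt (by norm_num)) (pick_lt (by norm_num)))
      (hxor _ _ (pick_lt (by norm_num)) (pick_lt (by norm_num)) (hpick a 0 _ (by norm_num) (by norm_num))
        (hpick a 1 _ (by norm_num) (by norm_num)))
      (hxor _ _ (pick_lt (by norm_num)) (pick_lt (by norm_num)) (hpick a 2 _ (by norm_num) (by norm_num))
        (hpick a 3 _ (by norm_num) (by norm_num)))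
  refine ⟨_, canon_mk l0 l1 l2 l3, hA, List.all_eq_true.2 fun a ha => ?_⟩
  have ha' := List.mem_range.1 ha
  by_cases h0 : a = 0
  · simp [h0]
  simp only [Bool.or_eq_true, Bool.not_eq_true']
  refine Or.inr (Bool.eq_false_iff.2 fun hb => ?_)
  have he := hA a ha'
  rw [Nat.eq_of_beq_eq_true hb, M.map_zero, conj_eq_one_iff] at he
  exact M.ι_ne_one (by omega) h0 he

theorem Acts.mul {n m : G} {g h : Nat} (hn : M.Acts n g) (hm : M.Acts m h) :
    M.Acts (n * m) (mulL g h) := fun a ha => by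
  rw [app_mulL g h ha, ← hn _ (app_lt h a), ← hm a ha]; group

theorem Acts.one : M.Acts 1 oneL := fun a ha => by rw [app_oneL a ha]; simp

theorem acts_vL {v : Nat} (hv : v < 4) : M.Acts (M.ι (16 * v)) (vL v) := fun a ha => by
  rw [app_vL v hv a ha, ← M.map_cj (by omega) (by omega), (fact_sh v hv a ha).1]

theorem Acts.unique {n : G} {g h : Nat} (hg : M.Acts n g) (hh : M.Acts n h) {a : Nat} (ha : a < 16) :
    app g a = app h a :=
  M.inj _ (by have := app_lt g a; omega) _ (by have := app_lt h a; omega) ((hg a ha).symm.trans (hh a ha))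

theorem Acts.eq {n : G} {g h : Nat} (hg : M.Acts n g) (hh : M.Acts n h) (cg : canon g) (ch : canon h) :
    g = h :=
  eq_of_app cg ch fun _ ha => Acts.unique M hg hh ha

end Mdl

end Cfsg.Agent.Lib.A8Type36
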