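import Cfsg.Agent.Lib.A8Type36.LocalCode

/-!
# Elimination of automorphisms: the case Five

helper5 (S2918, step 3).
-/

set_option autoImplicit false
set_option maxRecDepth 100000
set_option Elab.async false

namespace Cfsg.Agent.Lib.A8Type36.Loc

theorem elimFive_3 : elimAt [15, 1, 2, 4, 8] listM2 wordsFive 3 = true := by decide +kernel

theorem elimFive_5 : elimAt [15, 1, 2, 4, 8] listM2 wordsFive 5 = true := by decide +kernel

theorem elimFive_6 : elimAt [15, 1, 2, 4, 8] listM2 wordsFive 6 = true := by decide +kernel

theorem elimFive_9 : elimAt [15, 1, 2, 4, 8] listM2 wordsFive 9 = true := by decide +kernel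

theorem elimFive_10 : elimAt [15, 1, 2, 4, 8] listM2 wordsFive 10 = true := by decide +kernel

theorem elimFive_12 : elimAt [15, 1, 2, 4, 8] listM2 wordsFive 12 = true := by decide +kernel

theorem elimFive_16 : elimAt [15, 1, 2, 4, 8] listM2 wordsFive 16 = true := by decide +kernel

theorem elimFive_19 : elimAt [15, 1, 2, 4, 8] listM2 wordsFive 19 = true := by decide +kernel

theorem elimFive_28 : elimAt [15, 1, 2, 4, 8] listM2 wordsFive 28 = true := by decide +kernel

theorem elimFive_31 : elimAt [15, 1, 2, 4, 8] listM2 wordsFive 31 = true := by decide +kernel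

theorem elimFive_32 : elimAt [15, 1, 2, 4, 8] listM2 wordsFive 32 = true := by decide +kernel

theorem elimFive_37 : elimAt [15, 1, 2, 4, 8] listM2 wordsFive 37 = true := by decide +kernel

theorem elimFive_42 : elimAt [15, 1, 2, 4, 8] listM2 wordsFive 42 = true := by decide +kernel

theorem elimFive_47 : elimAt [15, 1, 2, 4, 8] listM2 wordsFive 47 = true := by decide +kernel

theorem elimFive_48 : elimAt [15, 1, 2, 4, 8] listM2 wordsFive 48 = true := by decide +kernel

theorem elimFive_54 : elimAt [15, 1, 2, 4, 8] listM2 wordsFive 54 = true := by decide +kernel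

theorem elimFive_57 : elimAt [15, 1, 2, 4, 8] listM2 wordsFive 57 = true := by decide +kernel

theorem elimFive_63 : elimAt [15, 1, 2, 4, 8] listM2 wordsFive 63 = true := by decide +kernel

theorem elimFive : ∀ a ∈ invQ, elimAt [15, 1, 2, 4, 8] listM2 wordsFive a = true := by
  intro a ha
  have h : invQ = [3, 5, 6, 9, 10, 12, 16, 19, 28, 31, 32, 37, 42, 47, 48, 54, 57, 63] := by decide +kernel
  rw [h] at ha
  simp only [List.mem_cons, List.not_mem_nil, or_false] at ha
  rcases ha with  rfl | rfl | rfl | rfl | rfl | rfl | rfl | rfl | rfl | rfl | rfl | rfl | rfl | rfl | rfl | rfl | rfl | rfl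
  · exact elimFive_3
  · exact elimFive_5
  · exact elimFive_6
  · exact elimFive_9
  · exact elimFive_10
  · exact elimFive_12
  · exact elimFive_16
  · exact elimFive_19
  · exact elimFive_28
  · exact elimFive_31
  · exact elimFive_32
  · exact elimFive_37
  · exact elimFive_42
  · exact elimFive_47
  · exact elimFive_48
  · exact elimFive_54
  · exact elimFive_57
  · exact elimFive_63

end Cfsg.Agent.Lib.A8Type36.Loc
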