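import Cfsg.Agent.Lib.A8Type36.LocalCode

/-!
# Elimination of automorphisms: the case Nine

helper5 (S2918, step 3).
-/

set_option autoImplicit false
set_option maxRecDepth 100000
set_option Elab.async false

namespace Cfsg.Agent.Lib.A8Type36.Loc

theorem elimNine_3 : elimAt [15, 1, 2, 4, 8, 3, 12, 5, 10] listM1 wordsNine 3 = true := by decide +kernel

theorem elimNine_5 : elimAt [15, 1, 2, 4, 8, 3, 12, 5, 10] listM1 wordsNine 5 = true := by decide +kernel

theorem elimNine_6 : elimAt [15, 1, 2, 4, 8, 3, 12, 5, 10] listM1 wordsNine 6 = true := by decide +kernel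

theorem elimNine_9 : elimAt [15, 1, 2, 4, 8, 3, 12, 5, 10] listM1 wordsNine 9 = true := by decide +kernel

theorem elimNine_10 : elimAt [15, 1, 2, 4, 8, 3, 12, 5, 10] listM1 wordsNine 10 = true := by decide +kernel

theorem elimNine_12 : elimAt [15, 1, 2, 4, 8, 3, 12, 5, 10] listM1 wordsNine 12 = true := by decide +kernel

theorem elimNine_16 : elimAt [15, 1, 2, 4, 8, 3, 12, 5, 10] listM1 wordsNine 16 = true := by decide +kernel

theorem elimNine_19 : elimAt [15, 1, 2, 4, 8, 3, 12, 5, 10] listM1 wordsNine 19 = true := by decide +kernel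

theorem elimNine_28 : elimAt [15, 1, 2, 4, 8, 3, 12, 5, 10] listM1 wordsNine 28 = true := by decide +kernel

theorem elimNine_31 : elimAt [15, 1, 2, 4, 8, 3, 12, 5, 10] listM1 wordsNine 31 = true := by decide +kernel

theorem elimNine_32 : elimAt [15, 1, 2, 4, 8, 3, 12, 5, 10] listM1 wordsNine 32 = true := by decide +kernel

theorem elimNine_37 : elimAt [15, 1, 2, 4, 8, 3, 12, 5, 10] listM1 wordsNine 37 = true := by decide +kernel

theorem elimNine_42 : elimAt [15, 1, 2, 4, 8, 3, 12, 5, 10] listM1 wordsNine 42 = true := by decide +kernel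

theorem elimNine_47 : elimAt [15, 1, 2, 4, 8, 3, 12, 5, 10] listM1 wordsNine 47 = true := by decide +kernel

theorem elimNine_48 : elimAt [15, 1, 2, 4, 8, 3, 12, 5, 10] listM1 wordsNine 48 = true := by decide +kernel

theorem elimNine_54 : elimAt [15, 1, 2, 4, 8, 3, 12, 5, 10] listM1 wordsNine 54 = true := by decide +kernel

theorem elimNine_57 : elimAt [15, 1, 2, 4, 8, 3, 12, 5, 10] listM1 wordsNine 57 = true := by decide +kernel

theorem elimNine_63 : elimAt [15, 1, 2, 4, 8, 3, 12, 5, 10] listM1 wordsNine 63 = true := by decide +kernel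

theorem elimNine : ∀ a ∈ invQ, elimAt [15, 1, 2, 4, 8, 3, 12, 5, 10] listM1 wordsNine a = true := by
  intro a ha
  have h : invQ = [3, 5, 6, 9, 10, 12, 16, 19, 28, 31, 32, 37, 42, 47, 48, 54, 57, 63] := by decide +kernel
  rw [h] at ha
  simp only [List.mem_cons, List.not_mem_nil, or_false] at ha
  rcases ha with  rfl | rfl | rfl | rfl | rfl | rfl | rfl | rfl | rfl | rfl | rfl | rfl | rfl | rfl | rfl | rfl | rfl | rfl
  · exact elimNine_3
  · exact elimNine_5
  · exact elimNine_6
  · exact elimNine_9
  · exact elimNine_10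
  · exact elimNine_12
  · exact elimNine_16
  · exact elimNine_19
  · exact elimNine_28
  · exact elimNine_31
  · exact elimNine_32
  · exact elimNine_37
  · exact elimNine_42
  · exact elimNine_47
  · exact elimNine_48
  · exact elimNine_54
  · exact elimNine_57
  · exact elimNine_63

end Cfsg.Agent.Lib.A8Type36.Loc
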