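import Cfsg.Agent.Lib.A8Type36.LocalCode

/-!
# Elimination of automorphisms: the case Three

helper5 (S2918, step 3).
-/

set_option autoImplicit false
set_option maxRecDepth 100000
set_option Elab.async false

namespace Cfsg.Agent.Lib.A8Type36.Loc

theorem elimThree_3 : elimAt [15, 3, 12] listM1 wordsThree 3 = true := by decide +kernel

theorem elimThree_5 : elimAt [15, 3, 12] listM1 wordsThree 5 = true := by decide +kernel

theorem elimThree_6 : elimAt [15, 3, 12] listM1 wordsThree 6 = true := by decide +kernel

theorem elimThree_9 : elimAt [15, 3, 12] listM1 wordsThree 9 = true := by decide +kernel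

theorem elimThree_10 : elimAt [15, 3, 12] listM1 wordsThree 10 = true := by decide +kernel

theorem elimThree_12 : elimAt [15, 3, 12] listM1 wordsThree 12 = true := by decide +kernel

theorem elimThree_16 : elimAt [15, 3, 12] listM1 wordsThree 16 = true := by decide +kernel

theorem elimThree_19 : elimAt [15, 3, 12] listM1 wordsThree 19 = true := by decide +kernel

theorem elimThree_28 : elimAt [15, 3, 12] listM1 wordsThree 28 = true := by decide +kernel

theorem elimThree_31 : elimAt [15, 3, 12] listM1 wordsThree 31 = true := by decide +kernel

theorem elimThree_32 : elimAt [15, 3, 12] listM1 wordsThree 32 = true := by decide +kernel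

theorem elimThree_37 : elimAt [15, 3, 12] listM1 wordsThree 37 = true := by decide +kernel

theorem elimThree_42 : elimAt [15, 3, 12] listM1 wordsThree 42 = true := by decide +kernel

theorem elimThree_47 : elimAt [15, 3, 12] listM1 wordsThree 47 = true := by decide +kernel

theorem elimThree_48 : elimAt [15, 3, 12] listM1 wordsThree 48 = true := by decide +kernel

theorem elimThree_54 : elimAt [15, 3, 12] listM1 wordsThree 54 = true := by decide +kernel

theorem elimThree_57 : elimAt [15, 3, 12] listM1 wordsThree 57 = true := by decide +kernel

theorem elimThree_63 : elimAt [15, 3, 12] listM1 wordsThree 63 = true := by decide +kernel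

theorem elimThree : ∀ a ∈ invQ, elimAt [15, 3, 12] listM1 wordsThree a = true := by
  intro a ha
  have h : invQ = [3, 5, 6, 9, 10, 12, 16, 19, 28, 31, 32, 37, 42, 47, 48, 54, 57, 63] := by decide +kernel
  rw [h] at ha
  simp only [List.mem_cons, List.not_mem_nil, or_false] at ha
  rcases ha with  rfl | rfl | rfl | rfl | rfl | rfl | rfl | rfl | rfl | rfl | rfl | rfl | rfl | rfl | rfl | rfl | rfl | rfl
  · exact elimThree_3
  · exact elimThree_5
  · exact elimThree_6
  · exact elimThree_9
  · exact elimThree_10
  · exact elimThree_12
  · exact elimThree_16
  · exact elimThree_19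
  · exact elimThree_28
  · exact elimThree_31
  · exact elimThree_32
  · exact elimThree_37
  · exact elimThree_42
  · exact elimThree_47
  · exact elimThree_48
  · exact elimThree_54
  · exact elimThree_57
  · exact elimThree_63

end Cfsg.Agent.Lib.A8Type36.Loc
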