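import Cfsg.Agent.Lib.A8Type36.LocalGen
import Cfsg.Agent.Lib.A8Type36.LocalElimThree
import Cfsg.Agent.Lib.A8Type36.LocalElimNine
import Cfsg.Agent.Lib.A8Type36.LocalElimFive
import Cfsg.Agent.Lib.A8Recog.Basic
import Cfsg.Agent.Lib.PSp43Recog.Basic

/-!
# The centraliser of the central involution modulo its odd core

helper5 (S2918, step 3).  `X` plays the part of `C(z)/O(C(z))` and `N` is its Sylow 2-subgroup.
`Small` covers the fusion patterns `[15,3,12]` and `[15,1,2,4,8,3,12,5,10]` (order 192, the model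
`A8Recog.mulC`), `Five` the pattern `[15,1,2,4,8]` with an element of order three normalising the
base (order 576, the model `PSp43Recog.mulC`).
-/

set_option autoImplicit false
set_option maxRecDepth 100000
set_option linter.style.haveILetI false

open Subgroup

namespace Cfsg.Agent.Lib.A8Type36.Loc

universe u

variable {X : Type u} [Group X] [Finite X]

/-- The hypotheses in the cases of order 192. -/
structure Small (N : Mdl X) (P : List Nat) : Prop extends Ctx N where
  pattern : P = [15, 3, 12] ∨ P = [15, 1, 2, 4, 8, 3, 12, 5, 10]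
  inv : Inv N P

/-- The hypotheses in the case of order 576. -/
structure Five (N : Mdl X) : Prop extends Ctx N where
  inv : Inv N [15, 1, 2, 4, 8]
  three : ∃ x : X, x ^ 3 = 1 ∧ x ≠ 1 ∧ ∀ a < 16, ∃ b < 16, x * N.ι a * x⁻¹ = N.ι b

variable {N : Mdl X}

theorem wordsThree_ok : wordsThree.all (fun w => w.all fun l => Nat.ble l 64) = true := by decide +kernel

theorem wordsNine_ok : wordsNine.all (fun w => w.all fun l => Nat.ble l 64) = true := by decide +kernel

theorem wordsFive_ok : wordsFive.all (fun w => w.all fun l => Nat.ble l 64) = true := by decide +kernel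

theorem fixV_inQ : ∀ v < 4, ∀ p ∈ fixV v, inQ p = true := by decide +kernel

theorem outInv_inQ {u : Nat} (hu : u < 64) (hout : outInv u = true) : inQ u = true := by
  have h := allR chk_outQ hu
  rw [hout] at h
  simpa using h

theorem Small.mem_M1 {P : List Nat} (S : Small N P) {x : X} {t : T4} (ht : okT t) (hx : Acts N x t) :
    t ∈ listM1 := by
  have h : memT listM1 t = true := by
    rcases S.pattern with rfl | rfl
    · exact mem_list S.toCtx S.inv wordsThree_ok elimThree ht hx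
    · exact mem_list S.toCtx S.inv wordsNine_ok elimNine ht hx
  obtain ⟨s, hs, rfl⟩ := memT_spec h
  exact hs

theorem Five.mem_M2 (F : Five N) {x : X} {t : T4} (ht : okT t) (hx : Acts N x t) : t ∈ listM2 := by
  obtain ⟨s, hs, rfl⟩ := memT_spec (mem_list F.toCtx F.inv wordsFive_ok elimFive ht hx)
  exact hs

/-- The element moving an outer involution into the base acts on `Q`. -/
theorem exists_moving (C : Ctx N) :
    ∃ x : X, ∃ t, okT t ∧ Acts N x t ∧ ∃ q ∈ qList, 16 ≤ q ∧ appQ t q < 16 := by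
  obtain ⟨x, u, a, hu, hout, ha, he⟩ := C.moves
  obtain ⟨t, ht, hx⟩ := exists_acts C x
  have hq := outInv_inQ hu hout
  obtain ⟨h1, h2⟩ := hx u hq
  have e : appQ t u = a := N.inj _ (inQ_lt h1) a (by omega) (h2.trans he)
  exact ⟨x, t, ht, hx, u, List.mem_filter.2 ⟨List.mem_range.2 hu, hq⟩, (fact_outInv u hu hout).1,
    by omega⟩

theorem Small.exists_gen {P : List Nat} (S : Small N P) : ∃ y : X, Gen N false y 1 := by
  obtain ⟨x, t, ht, hx, q, hq, hq16, hlt⟩ := exists_moving S.toCtx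
  have hns : memT simg t ≠ true := by
    intro h
    obtain ⟨s, hs, rfl⟩ := memT_spec h
    have := allM (allM chk_simg_moves hs) hq
    simp only [Bool.or_eq_true, Bool.not_eq_true'] at this
    rcases this with h' | h'
    · have := Nat.le_of_ble_eq_true h'; omega
    · rw [show Nat.blt (appQ s q) 16 = true from Nat.ble_eq_true_of_le hlt] at h'; simp at h'
  have h := allM chk_phi (S.mem_M1 ht hx)
  simp only [Bool.or_eq_true] at h
  obtain ⟨y0, hy0⟩ := exists_of_dc S.toCtx hx ht (h.resolve_left hns)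
  obtain ⟨y, hy, h3⟩ := exists_cube S.toCtx hy0 okT_phi chk_rel.1
  exact ⟨y, ⟨hy, h3, y_inv S.toCtx hy h3, one_pow 3, Commute.one_left _, Commute.one_left _,
    fun h => absurd h Bool.false_ne_true, fun _ => rfl⟩⟩

theorem Five.exists_gen (F : Five N) : ∃ y w : X, Gen N true y w := by
  obtain ⟨x, t, ht, hx, q, hq, hq16, hlt⟩ := exists_moving F.toCtx
  obtain ⟨v, hv, hvok⟩ := exists_word F.toCtx hx ht [64, 1, 64, 64] (by decide)
  have hany : (qList.any fun q => Nat.ble 16 q && Nat.blt (appQ t q) 16) = true :=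
    List.any_eq_true.2 ⟨q, hq, by
      rw [Bool.and_eq_true]; exact ⟨Nat.ble_eq_true_of_le hq16, Nat.ble_eq_true_of_le hlt⟩⟩
  have h := allM chk_move (F.mem_M2 ht hx)
  rw [hany] at h
  obtain ⟨y0, hy0⟩ := exists_of_dc F.toCtx hv hvok (by simpa using h)
  obtain ⟨y, hy, hy3⟩ := exists_cube F.toCtx hy0 okT_phi chk_rel.1
  obtain ⟨σ, hσ3, hσ1, hσA⟩ := F.three
  obtain ⟨r, hr, hσ⟩ := exists_acts F.toCtx σ
  have hns : memT simg r ≠ true := by
    intro h
    obtain ⟨s, hs, rfl⟩ := memT_spec h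
    obtain ⟨g, hg, hge⟩ := anyR (allM chk_simg.2 hs)
    rw [eqT_spec hge] at hσ
    obtain ⟨k, hk⟩ := N.S.isPGroup' ⟨σ, mem_S_of_acts F.toCtx hg hσ⟩
    have hk' : σ ^ 2 ^ k = 1 := by simpa using congrArg Subtype.val hk
    refine hσ1 (orderOf_eq_one_iff.1 ?_)
    have hcop : Nat.Coprime (2 ^ k) 3 := Nat.Coprime.pow_left k (by norm_num)
    exact Nat.eq_one_of_dvd_coprimes hcop (orderOf_dvd_of_pow_eq_one hk')
      (orderOf_dvd_of_pow_eq_one hσ3)
  have hall : ([3, 5].all fun a => Nat.blt (appQ r a) 16) = true := by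
    refine List.all_eq_true.2 fun a ha => ?_
    have hab : a < 16 ∧ inQ a = true := by
      simp only [List.mem_cons, List.not_mem_nil, or_false] at ha
      rcases ha with rfl | rfl <;> exact ⟨by norm_num, rfl⟩
    obtain ⟨b, hb, he⟩ := hσA a hab.1
    obtain ⟨h1, h2⟩ := hσ a hab.2
    refine Nat.ble_eq_true_of_le ?_
    rw [N.inj _ (inQ_lt h1) b (by omega) (h2.trans he)]
    exact hb
  have h := allM chk_psi (F.mem_M2 hr hσ)
  rw [hall] at h
  simp only [Bool.not_true, Bool.or_false, Bool.or_eq_true] at h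
  obtain ⟨w0, hw0⟩ : ∃ w0, Acts N w0 psiT := by
    rcases h with (h | h) | h
    · exact absurd h hns
    · exact exists_of_dc F.toCtx hσ hr h
    · obtain ⟨a, o⟩ := acts_mul F.toCtx hσ hσ hr
      exact exists_of_dc F.toCtx a o h
  obtain ⟨w, hw, hw3⟩ := exists_cube F.toCtx hw0 okT_psi chk_rel.2.1
  exact ⟨y, w, ⟨hy, hy3, y_inv F.toCtx hy hy3, hw3,
    comm_of_acts F.toCtx hw hy okT_psi okT_phi chk_rel.2.2.2.1 hw3,
    comm_of_acts F.toCtx hw (acts_csT F.toCtx (by norm_num)) okT_psi okT_cs1 chk_rel.2.2.2.2 hw3,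
    fun _ => hw, fun h => absurd h.symm Bool.false_ne_true⟩⟩

variable {five : Bool} {y w : X}

theorem acts_y_pow (C : Ctx N) (G : Gen N five y w) {i : ℕ} (hi : i < 3) :
    Acts N (y ^ i) (actN 0 i 0) := by
  simpa using acts_form C G (show 0 < 3 by norm_num) hi (show 0 < 2 by norm_num) (Or.inr rfl)

/-- The conjugate of a code by `ι g * y ^ i`. -/
theorem conj_code (C : Ctx N) (G : Gen N five y w) {g i q : ℕ} (hg : g < 64) (hi : i < 3)
    (hq : inQ q = true) :
    (N.ι g * y ^ i) * N.ι q * (N.ι g * y ^ i)⁻¹ = N.ι (cjT g (appQ (actN 0 i 0) q)) := by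
  obtain ⟨h1, h2⟩ := acts_y_pow C G hi q hq
  rw [ι_cjT N hg (inQ_lt h1), h2]
  group

/-- Every element is `ι g * y ^ i`. -/
theorem Small.decomp {P : List Nat} (S : Small N P) (G : Gen N five y w) (x : X) :
    ∃ g < 64, ∃ i < 3, x = N.ι g * y ^ i := by
  obtain ⟨t, ht, hx⟩ := exists_acts S.toCtx x
  obtain ⟨i, hi, h⟩ := anyR (allM chk_M1 (S.mem_M1 ht hx))
  obtain ⟨g, hg, h⟩ := anyR h
  rw [eqT_spec h] at hx
  have hob : okT (actN 0 i 0) := by
    obtain ⟨h1, h2, h3, h4, -⟩ : inQ (actN 0 i 0).a = true ∧ inQ (actN 0 i 0).b = true ∧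
        inQ (actN 0 i 0).c = true ∧ inQ (actN 0 i 0).d = true ∧ True := by
      rcases (by omega : i = 0 ∨ i = 1 ∨ i = 2) with rfl | rfl | rfl <;> decide +kernel
    exact ⟨inQ_lt h1, inQ_lt h2, inQ_lt h3, inQ_lt h4⟩
  obtain ⟨a, -⟩ := acts_mul S.toCtx (acts_csT S.toCtx hg) (acts_y_pow S.toCtx G hi) hob
  rcases eq_of_acts S.toCtx a hx with e | e
  · exact ⟨g, hg, i, hi, e⟩
  · refine ⟨mulT g 15, mulT_lt hg (by norm_num), i, hi, ?_⟩
    rw [e, ι_mulT N hg (by norm_num), mul_assoc, S.central (y ^ i), ← mul_assoc]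

/-- (a) Conjugation preserves the image of `Q`. -/
theorem conj_mem_Q (C : Ctx N) (x : X) {a : ℕ} (ha : a < 64) (hr : rad (a % 16) = true) :
    ∃ b < 64, rad (b % 16) = true ∧ x * N.ι a * x⁻¹ = N.ι b := by
  obtain ⟨b, hb, he⟩ := conj_inQ C x (q := a)
    (by simp only [inQ, Bool.and_eq_true]; exact ⟨Nat.ble_eq_true_of_le ha, hr⟩)
  have hb' := hb
  simp only [inQ, Bool.and_eq_true] at hb'
  exact ⟨b, inQ_lt hb, hb'.2, he.symm⟩

/-- (a) Conjugation maps the image of `Q` onto itself. -/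
theorem conj_image_Q (C : Ctx N) (x : X) :
    (fun g => x * g * x⁻¹) '' (N.ι '' {a | a < 64 ∧ rad (a % 16) = true}) =
      N.ι '' {a | a < 64 ∧ rad (a % 16) = true} := by
  apply Set.Subset.antisymm
  · rintro _ ⟨_, ⟨a, ⟨ha, hr⟩, rfl⟩, rfl⟩
    obtain ⟨b, hb, hbr, he⟩ := conj_mem_Q C x ha hr
    exact ⟨b, ⟨hb, hbr⟩, he.symm⟩
  · rintro _ ⟨a, ⟨ha, hr⟩, rfl⟩
    obtain ⟨b, hb, hbr, he⟩ := conj_mem_Q C x⁻¹ ha hr
    refine ⟨N.ι b, ⟨b, ⟨hb, hbr⟩, rfl⟩, ?_⟩
    simp only [← he]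
    group

/-- (b) An outer involution is conjugate to the two fixed points of its translation. -/
theorem Small.pair {P : List Nat} (S : Small N P) {u p : ℕ} (hu : u < 64) (hout : outInv u = true)
    (hp : p ∈ fixV (u / 16)) (h0 : p ≠ 0) (h15 : p ≠ 15) :
    ∃ x : X, x * N.ι u * x⁻¹ = N.ι p := by
  obtain ⟨y, G⟩ := S.exists_gen
  have h := allR chk_pair hu
  rw [hout] at h
  simp only [Bool.not_true, Bool.false_or] at h
  have h' := allM h hp
  simp only [Bool.or_eq_true] at h'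
  rcases h' with (h' | h') | h'
  · exact absurd (Nat.eq_of_beq_eq_true h') h0
  · exact absurd (Nat.eq_of_beq_eq_true h') h15
  obtain ⟨i, hi, h'⟩ := anyR h'
  obtain ⟨g, hg, h'⟩ := anyR h'
  have hq := fixV_inQ _ (by omega) p hp
  refine ⟨(N.ι g * y ^ i)⁻¹, ?_⟩
  rw [← Nat.eq_of_beq_eq_true h', ← conj_code S.toCtx G hg hi hq]
  group

/-- (c) The centraliser of `ι 9` lies in the Sylow subgroup. -/
theorem Small.cent_nine {P : List Nat} (S : Small N P) {x : X} (hx : x * N.ι 9 = N.ι 9 * x) :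
    ∃ g < 64, x = N.ι g := by
  obtain ⟨y, G⟩ := S.exists_gen
  obtain ⟨g, hg, i, hi, rfl⟩ := S.decomp G x
  rcases Nat.eq_zero_or_pos i with rfl | hpos
  · exact ⟨g, hg, by rw [pow_zero, mul_one]⟩
  exfalso
  have hmem : i ∈ [1, 2] := by
    simp only [List.mem_cons, List.not_mem_nil, or_false]; omega
  have hne := allR (allM chk_nine hmem) hg
  have h9 : inQ 9 = true := by decide
  have he : N.ι (cjT g (appQ (actN 0 i 0) 9)) = N.ι 9 := by
    rw [← conj_code S.toCtx G hg hi h9, hx, mul_inv_cancel_right]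
  have hlt : cjT g (appQ (actN 0 i 0) 9) < 64 := by
    have := inQ_lt (acts_y_pow S.toCtx G hi 9 h9).1
    rw [cjT_eq hg this]; exact cjS_lt hg this
  rw [N.inj _ hlt 9 (by norm_num) he] at hne
  simp at hne

/-- (d) The model of order 192. -/
theorem Small.exists_model {P : List Nat} (S : Small N P) :
    ∃ c : ℕ → X, (∀ a < 192, ∀ b < 192, c (A8Recog.mulC a b) = c a * c b) ∧
      Set.BijOn c (Set.Iio 192) Set.univ := by
  obtain ⟨y, G⟩ := S.exists_gen
  refine model S.toCtx G (enc := enc1) (fun a ha b hb => A8Recog.mulC_lt ha hb)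
    (fun a ha => ⟨A8Recog.invC_lt ha, A8Recog.mulC_invC ha⟩) (fun a ha b hb => ?_) chk_bij1
    (fun a ha b hb h => ?_) (fun x => ?_)
  · have h := allR (allR chk_hom1 ha) hb
    rw [zero_add] at h
    exact Nat.eq_of_beq_eq_true h
  · have h' := allR (allR chk_cancel1 ha) hb
    rw [h] at h'
    simp only [Nat.beq_refl, Bool.not_true, Bool.false_or] at h'
    exact Nat.eq_of_beq_eq_true h'
  · obtain ⟨g, hg, i, hi, rfl⟩ := S.decomp G x
    refine mul_mem (ι_mem_forms S.toCtx G hg) ?_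
    simpa using wy_mem_forms S.toCtx G (show 0 < 3 by norm_num) hi (Or.inr rfl)

/-- (b') Every outer involution is moved into the base. -/
theorem Five.into (F : Five N) {u : ℕ} (hu : u < 64) (hout : outInv u = true) :
    ∃ x : X, ∃ a < 16, x * N.ι u * x⁻¹ = N.ι a := by
  obtain ⟨y, w, G⟩ := F.exists_gen
  have h := allR chk_into hu
  rw [hout] at h
  simp only [Bool.not_true, Bool.false_or] at h
  obtain ⟨i, hi, h⟩ := anyR h
  obtain ⟨g, hg, h⟩ := anyR h
  exact ⟨N.ι g * y ^ i, _, Nat.le_of_ble_eq_true h,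
    conj_code F.toCtx G hg hi (outInv_inQ hu hout)⟩

theorem chk_hom2 {a b : ℕ} (ha : a < 576) (hb : b < 576) :
    enc2 (PSp43Recog.mulC a b) = mulN (enc2 a) (enc2 b) := by
  have key : ∀ lo, homOK 576 PSp43Recog.mulC enc2 lo 144 = true → lo ≤ a → a < lo + 144 →
      enc2 (PSp43Recog.mulC a b) = mulN (enc2 a) (enc2 b) := by
    intro lo h h1 h2
    have h' := allR (allR h (show a - lo < 144 by omega)) hb
    rw [Nat.add_sub_cancel' h1] at h'
    exact Nat.eq_of_beq_eq_true h'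
  rcases (by omega : a < 144 ∨ 144 ≤ a ∧ a < 288 ∨ 288 ≤ a ∧ a < 432 ∨ 432 ≤ a ∧ a < 576) with
    h | ⟨h, h'⟩ | ⟨h, h'⟩ | ⟨h, h'⟩
  · exact key 0 chk_hom2a (Nat.zero_le _) h
  · exact key 144 chk_hom2b h h'
  · exact key 288 chk_hom2c h h'
  · exact key 432 chk_hom2d h h'

/-- (d) The model of order 576. -/
theorem Five.exists_model (F : Five N) :
    ∃ c : ℕ → X, (∀ a < 576, ∀ b < 576, c (PSp43Recog.mulC a b) = c a * c b) ∧
      Set.BijOn c (Set.Iio 576) Set.univ := by
  obtain ⟨y, w, G⟩ := F.exists_gen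
  refine model F.toCtx G (enc := enc2) (fun a ha b hb => PSp43Recog.mulC_lt ha hb)
    (fun a ha => ⟨PSp43Recog.invC_lt ha, PSp43Recog.mulC_invC ha⟩) (fun a ha b hb => chk_hom2 ha hb)
    chk_bij2 (fun a ha b hb h => ?_) (fun x => ?_)
  · have h' := allR (allR chk_cancel2 ha) hb
    rw [h] at h'
    simp only [Nat.beq_refl, Bool.not_true, Bool.false_or] at h'
    exact Nat.eq_of_beq_eq_true h'
  · obtain ⟨t, ht, hx⟩ := exists_acts F.toCtx x
    obtain ⟨i, hi, h⟩ := anyR (allM chk_M2 (F.mem_M2 ht hx))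
    obtain ⟨j, hj, h⟩ := anyR h
    obtain ⟨g, hg, h⟩ := anyR h
    rw [eqT_spec h] at hx
    exact mem_forms_of_acts F.toCtx G hg hj hi (Or.inl rfl) hx

end Cfsg.Agent.Lib.A8Type36.Loc
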