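import Cfsg.Agent.Lib.A8Type36.LocalCore

/-!
# The action on the extraspecial subgroup

helper5 (S2918, step 3).
-/

set_option autoImplicit false
set_option maxRecDepth 100000
set_option linter.style.haveILetI false

open Subgroup

namespace Cfsg.Agent.Lib.A8Type36.Loc

universe u

theorem eqT_spec {s t : T4} (h : eqT s t = true) : s = t := by
  simp only [eqT, Bool.and_eq_true] at h
  obtain ⟨⟨⟨h1, h2⟩, h3⟩, h4⟩ := h
  cases s; cases t
  simp_all only [T4.mk.injEq]
  exact ⟨Nat.eq_of_beq_eq_true h1, Nat.eq_of_beq_eq_true h2, Nat.eq_of_beq_eq_true h3,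
    Nat.eq_of_beq_eq_true h4⟩

theorem eqT_refl (t : T4) : eqT t t = true := by simp [eqT]

theorem memT_spec {L : List T4} {t : T4} (h : memT L t = true) : ∃ s ∈ L, s = t := by
  obtain ⟨s, hs, h⟩ := List.any_eq_true.1 h
  exact ⟨s, hs, eqT_spec h⟩

theorem inQ_lt {q : Nat} (h : inQ q = true) : q < 64 := by
  simp only [inQ, Bool.and_eq_true] at h
  exact Nat.le_of_ble_eq_true h.1

theorem inQ_mulT {x y : Nat} (hx : inQ x = true) (hy : inQ y = true) : inQ (mulT x y) = true := by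
  have h := allR chk_mulQ (inQ_lt hx)
  rw [hx] at h
  have h2 := allR h (inQ_lt hy)
  rw [hy] at h2
  simpa using h2

theorem mem_invQ {x : Nat} (hx : inQ x = true) (hsq : mulT x x = 0) (h0 : x ≠ 0) (h15 : x ≠ 15) :
    x ∈ invQ := by
  have h := allR chk_invQ.2 (inQ_lt hx)
  rw [hx, hsq] at h
  simp only [Bool.or_eq_true] at h
  rcases h with ((h | h) | h) | h
  · simp at h
  · exact absurd (Nat.eq_of_beq_eq_true h) h0
  · exact absurd (Nat.eq_of_beq_eq_true h) h15
  · simpa using h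

theorem appQ_gens {t : T4} (ha : t.a < 64) (hb : t.b < 64) (hc : t.c < 64) (hd : t.d < 64) :
    appQ t 16 = t.a ∧ appQ t 32 = t.b ∧ appQ t 3 = t.c ∧ appQ t 5 = t.d := by
  have k : ∀ y < 64, mulT 0 y = y ∧ mulT y 0 = y := by decide +kernel
  simp [appQ, rImg, vImg, (k _ ha).1, (k _ hb).1, (k _ hc).2, (k _ hd).2]

/-- The elements reached by words in the generators of the Sylow subgroup. -/
def reach : Nat → List Nat
  | 0 => [0]
  | n + 1 => (reach n ++ (reach n).flatMap fun x => [mulT x 1, mulT x 16, mulT x 32]).eraseDups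

theorem chk_reach : ((List.range 64).all fun x => (reach 10).contains x) = true := by decide +kernel

variable {X : Type u} [Group X] [Finite X]

/-- The element acts by the quadruple. -/
def Acts (N : Mdl X) (x : X) (t : T4) : Prop :=
  ∀ q, inQ q = true → inQ (appQ t q) = true ∧ N.ι (appQ t q) = x * N.ι q * x⁻¹

variable {N : Mdl X}

theorem conj_inQ (C : Ctx N) (x : X) {q : Nat} (hq : inQ q = true) :
    ∃ r, inQ r = true ∧ N.ι r = x * N.ι q * x⁻¹ :=
  (pCore_iff C _).1 (Subgroup.Normal.conj_mem inferInstance _ ((pCore_iff C _).2 ⟨q, hq, rfl⟩) x)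

theorem acts_of_gens (C : Ctx N) {x : X} {t : T4} (ha : inQ t.a = true) (hb : inQ t.b = true)
    (hc : inQ t.c = true) (hd : inQ t.d = true) (ea : N.ι t.a = x * N.ι 16 * x⁻¹)
    (eb : N.ι t.b = x * N.ι 32 * x⁻¹) (ec : N.ι t.c = x * N.ι 3 * x⁻¹)
    (ed : N.ι t.d = x * N.ι 5 * x⁻¹) : Acts N x t := by
  let f : X → X := fun g => x * g * x⁻¹
  have fmul : ∀ g h, f (g * h) = f g * f h := fun g h => by show _ = _; simp only [f]; group
  have f15 : f (N.ι 15) = N.ι 15 := by
    show x * N.ι 15 * x⁻¹ = _; rw [C.central x, mul_inv_cancel_right]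
  have mul : ∀ p q a b, inQ a = true → inQ b = true → p < 64 → q < 64 → N.ι a = f (N.ι p) →
      N.ι b = f (N.ι q) → inQ (mulT a b) = true ∧ N.ι (mulT a b) = f (N.ι (mulT p q)) := by
    intro p q a b ha hb hp hq hea heb
    refine ⟨inQ_mulT ha hb, ?_⟩
    rw [ι_mulT N (inQ_lt ha) (inQ_lt hb), hea, heb, ι_mulT N hp hq, fmul]
  have q15 : inQ 15 = true := by decide
  have e15 : N.ι 15 = f (N.ι 15) := f15.symm
  have cd := mul 3 5 t.c t.d hc hd (by norm_num) (by norm_num) ec ed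
  have ab := mul 16 32 t.a t.b ha hb (by norm_num) (by norm_num) ea eb
  have hr : ∀ a, rad a = true → inQ (rImg t a) = true ∧ N.ι (rImg t a) = f (N.ι a) := by
    intro a ha'
    have : a ∈ [0, 3, 5, 6, 9, 10, 12, 15] := by simpa [rad] using ha'
    simp only [List.mem_cons, List.not_mem_nil, or_false] at this
    rcases this with rfl | rfl | rfl | rfl | rfl | rfl | rfl | rfl
    · exact ⟨rfl, by simp [rImg, f, ι_zero N]⟩
    · exact ⟨hc, ec⟩
    · exact ⟨hd, ed⟩
    · exact ⟨cd.1, cd.2.trans (by rw [show mulT 3 5 = 6 from by decide +kernel])⟩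
    · exact (mul 6 15 _ _ cd.1 q15 (by norm_num) (by norm_num)
        (cd.2.trans (by rw [show mulT 3 5 = 6 from by decide +kernel])) e15).imp_right
        (fun h => h.trans (by rw [show mulT 6 15 = 9 from by decide +kernel]))
    · exact (mul 5 15 _ _ hd q15 (by norm_num) (by norm_num) ed e15).imp_right
        (fun h => h.trans (by rw [show mulT 5 15 = 10 from by decide +kernel]))
    · exact (mul 3 15 _ _ hc q15 (by norm_num) (by norm_num) ec e15).imp_right
        (fun h => h.trans (by rw [show mulT 3 15 = 12 from by decide +kernel]))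
    · exact ⟨q15, e15⟩
  have hv : ∀ v, v < 4 → inQ (vImg t v) = true ∧ N.ι (vImg t v) = f (N.ι (16 * v)) := by
    intro v hv
    rcases (by omega : v = 0 ∨ v = 1 ∨ v = 2 ∨ v = 3) with rfl | rfl | rfl | rfl
    · exact ⟨rfl, by simp [vImg, f, ι_zero N]⟩
    · exact ⟨ha, ea⟩
    · exact ⟨hb, eb⟩
    · exact ⟨ab.1, ab.2.trans (by rw [show mulT 16 32 = 48 from by decide +kernel])⟩
  intro q hq
  have hq64 := inQ_lt hq
  have hq' : rad (q % 16) = true := by
    simp only [inQ, Bool.and_eq_true] at hq; exact hq.2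
  obtain ⟨h1, h2⟩ := hr _ hq'
  obtain ⟨h3, h4⟩ := hv (q / 16) (by omega)
  have key : ∀ q < 64, mulT (q % 16) (16 * (q / 16)) = q := by decide +kernel
  obtain ⟨h5, h6⟩ := mul _ _ _ _ h1 h3 (by omega) (by omega) h2 h4
  rw [key q hq64] at h6
  exact ⟨h5, h6⟩

theorem Acts.valid {x : X} {t : T4} (h : Acts N x t) (ht : t.a < 64 ∧ t.b < 64 ∧ t.c < 64 ∧ t.d < 64) :
    inQ t.a = true ∧ inQ t.b = true ∧ inQ t.c = true ∧ inQ t.d = true ∧
      N.ι t.a = x * N.ι 16 * x⁻¹ ∧ N.ι t.b = x * N.ι 32 * x⁻¹ ∧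
      N.ι t.c = x * N.ι 3 * x⁻¹ ∧ N.ι t.d = x * N.ι 5 * x⁻¹ := by
  obtain ⟨e1, e2, e3, e4⟩ := appQ_gens ht.1 ht.2.1 ht.2.2.1 ht.2.2.2
  have h1 := h 16 (by decide); have h2 := h 32 (by decide)
  have h3 := h 3 (by decide); have h4 := h 5 (by decide)
  rw [e1] at h1; rw [e2] at h2; rw [e3] at h3; rw [e4] at h4
  exact ⟨h1.1, h2.1, h3.1, h4.1, h1.2, h2.2, h3.2, h4.2⟩

theorem acts_csT (C : Ctx N) {g : Nat} (hg : g < 64) : Acts N (N.ι g) (csT g) := by
  have h : ∀ q, inQ q = true → inQ (cjT g q) = true := by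
    intro q hq
    obtain ⟨r, hr, he⟩ := conj_inQ C (N.ι g) hq
    rw [← ι_cjT N hg (inQ_lt hq)] at he
    rwa [← N.inj r (inQ_lt hr) _ (by rw [cjT_eq hg (inQ_lt hq)]; exact cjS_lt hg (inQ_lt hq)) he]
  exact acts_of_gens C (h 16 (by decide)) (h 32 (by decide)) (h 3 (by decide)) (h 5 (by decide))
    (ι_cjT N hg (by norm_num)) (ι_cjT N hg (by norm_num)) (ι_cjT N hg (by norm_num))
    (ι_cjT N hg (by norm_num))

theorem acts_one (C : Ctx N) : Acts N 1 oneT :=
  acts_of_gens C rfl rfl rfl rfl (by simp [oneT]) (by simp [oneT]) (by simp [oneT]) (by simp [oneT])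

/-- The quadruples with values among the codes. -/
def okT (t : T4) : Prop := t.a < 64 ∧ t.b < 64 ∧ t.c < 64 ∧ t.d < 64

theorem acts_mul (C : Ctx N) {x y : X} {t s : T4} (hx : Acts N x t) (hy : Acts N y s) (hs : okT s) :
    Acts N (x * y) (compT t s) ∧ okT (compT t s) := by
  obtain ⟨a1, b1, c1, d1, a2, b2, c2, d2⟩ := hy.valid hs
  obtain ⟨A1, A2⟩ := hx _ a1; obtain ⟨B1, B2⟩ := hx _ b1
  obtain ⟨C1, C2⟩ := hx _ c1; obtain ⟨D1, D2⟩ := hx _ d1
  refine ⟨acts_of_gens C A1 B1 C1 D1 ?_ ?_ ?_ ?_, inQ_lt A1, inQ_lt B1, inQ_lt C1, inQ_lt D1⟩ <;>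
    simp only [compT] <;> first
      | (rw [A2, a2]; group) | (rw [B2, b2]; group) | (rw [C2, c2]; group) | (rw [D2, d2]; group)

theorem exists_acts (C : Ctx N) (x : X) : ∃ t, okT t ∧ Acts N x t := by
  obtain ⟨a, ha, ea⟩ := conj_inQ C x (q := 16) (by decide)
  obtain ⟨b, hb, eb⟩ := conj_inQ C x (q := 32) (by decide)
  obtain ⟨c, hc, ec⟩ := conj_inQ C x (q := 3) (by decide)
  obtain ⟨d, hd, ed⟩ := conj_inQ C x (q := 5) (by decide)
  exact ⟨⟨a, b, c, d⟩, ⟨inQ_lt ha, inQ_lt hb, inQ_lt hc, inQ_lt hd⟩,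
    acts_of_gens C ha hb hc hd ea eb ec ed⟩

/-- Only the centre centralises `Q`. -/
theorem centralizer_Q (C : Ctx N) {x : X} (h : ∀ q, inQ q = true → Commute x (N.ι q)) :
    x = 1 ∨ x = N.ι 15 := by
  haveI : Fact (Nat.Prime 2) := ⟨Nat.prime_two⟩
  have hx : x ∈ Cfsg.pCore 2 X := by
    refine centralizer_pCore_le C.solv C.odd ?_
    rw [Subgroup.mem_centralizer_iff]
    intro p hp
    obtain ⟨q, hq, rfl⟩ := (pCore_iff C p).1 hp
    exact (h q hq).symm.eq
  obtain ⟨r, hr, rfl⟩ := (pCore_iff C x).1 hx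
  have hh := allR chk_qcen (inQ_lt hr)
  simp only [Bool.or_eq_true] at hh
  rcases hh with (hh | hh) | hh
  · left; rw [Nat.eq_of_beq_eq_true hh, ι_zero N]
  · right; rw [Nat.eq_of_beq_eq_true hh]
  · exfalso
    obtain ⟨g, hg, hgc⟩ := List.any_eq_true.1 hh
    have hgQ : inQ g = true := by
      simp only [List.mem_cons, List.not_mem_nil, or_false] at hg
      rcases hg with rfl | rfl | rfl | rfl <;> rfl
    rw [(ι_comm N (inQ_lt hr) (inQ_lt hgQ)).2 (h g hgQ)] at hgc
    simp at hgc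

theorem eq_of_acts (C : Ctx N) {x y : X} {t : T4} (hx : Acts N x t) (hy : Acts N y t) :
    y = x ∨ y = x * N.ι 15 := by
  have h : ∀ q, inQ q = true → Commute (x⁻¹ * y) (N.ι q) := by
    intro q hq
    have e := ((hx q hq).2.symm.trans (hy q hq).2)
    show x⁻¹ * y * N.ι q = N.ι q * (x⁻¹ * y)
    rw [show N.ι q * (x⁻¹ * y) = x⁻¹ * (x * N.ι q * x⁻¹) * y from by group, e]
    group
  rcases centralizer_Q C h with e | e
  · left; rwa [inv_mul_eq_one, eq_comm] at e
  · right; rw [← e, mul_inv_cancel_left]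

theorem mem_S_of_acts (C : Ctx N) {x : X} {g : Nat} (hg : g < 64) (hx : Acts N x (csT g)) :
    x ∈ (N.S : Subgroup X) := by
  have h : ∀ k < 64, N.ι k ∈ (N.S : Subgroup X) := fun k hk => (N.mem _).2 ⟨k, hk, rfl⟩
  rcases eq_of_acts C (acts_csT C hg) hx with e | e <;> rw [e]
  · exact h g hg
  · exact mul_mem (h g hg) (h 15 (by norm_num))

theorem acts_pow (C : Ctx N) {x : X} {t : T4} (hx : Acts N x t) (ht : okT t) :
    ∀ n, Acts N (x ^ n) (powT t n) ∧ okT (powT t n)
  | 0 => ⟨by rw [pow_zero]; exact acts_one C, by simp [powT, oneT, okT]⟩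
  | n + 1 => by rw [pow_succ]; exact acts_mul C (acts_pow C hx ht n).1 hx ht

theorem exists_word (C : Ctx N) {x : X} {t : T4} (hx : Acts N x t) (ht : okT t) :
    ∀ w : List Nat, (∀ l ∈ w, l ≤ 64) → ∃ y, Acts N y (evT t w) ∧ okT (evT t w)
  | [], _ => ⟨1, acts_one C, by simp [evT, oneT, okT]⟩
  | l :: w, hl => by
    obtain ⟨y, hy, hok⟩ := exists_word C hx ht w fun k hk => hl k (List.mem_cons_of_mem _ hk)
    rw [evT]
    split
    · exact ⟨_, acts_mul C hx hy hok⟩
    · exact ⟨_, acts_mul C (acts_csT C (by have := hl l List.mem_cons_self; omega)) hy hok⟩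

theorem not_tBad (C : Ctx N) {y : X} {r : T4} (hy : Acts N y r) (hr : okT r) : tBad r = false := by
  classical
  haveI : Fact (Nat.Prime 2) := ⟨Nat.prime_two⟩
  rw [Bool.eq_false_iff]
  intro h
  simp only [tBad, Bool.and_eq_true, Bool.not_eq_true'] at h
  obtain ⟨⟨h8, hns⟩, hn⟩ := h
  have hy16 : y ^ 16 = 1 := by
    obtain ⟨hp, -⟩ := acts_pow C hy hr 8
    rw [eqT_spec h8] at hp
    rcases eq_of_acts C (acts_one C) hp with e | e
    · rw [show y ^ 16 = (y ^ 8) ^ 2 from by rw [← pow_mul], e, one_pow]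
    · rw [show y ^ 16 = (y ^ 8) ^ 2 from by rw [← pow_mul], e, one_mul, pow_two, z_sq N]
  have hyS : ∀ g ∈ [1, 16, 32], y * N.ι g * y⁻¹ ∈ (N.S : Subgroup X) := by
    intro g hg
    have hg64 : g < 64 := by
      simp only [List.mem_cons, List.not_mem_nil, or_false] at hg
      omega
    obtain ⟨hh, hhm, he⟩ := List.any_eq_true.1 (allM hn hg)
    obtain ⟨s, hs, hse⟩ := anyR (allM chk_simg.2 hhm)
    have e := eqT_spec he
    rw [eqT_spec hse] at e
    obtain ⟨a1, -⟩ := acts_mul C hy (acts_csT C hg64) ⟨cjlt hg64 (by norm_num), cjlt hg64 (by norm_num),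
      cjlt hg64 (by norm_num), cjlt hg64 (by norm_num)⟩
    obtain ⟨a2, -⟩ := acts_mul C (acts_csT C hs) hy hr
    rw [e] at a1
    have hsm : N.ι s ∈ (N.S : Subgroup X) := (N.mem _).2 ⟨s, hs, rfl⟩
    rcases eq_of_acts C a2 a1 with e' | e'
    · rw [show y * N.ι g * y⁻¹ = N.ι s from by rw [e']; group]; exact hsm
    · rw [show y * N.ι g * y⁻¹ = N.ι s * N.ι 15 from by
        rw [e', show N.ι s * y * N.ι 15 = N.ι s * (y * N.ι 15) from by group, C.central y]; group]
      exact mul_mem hsm ((N.mem _).2 ⟨15, by norm_num, rfl⟩)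
  have hnorm : y ∈ Subgroup.normalizer ((N.S : Subgroup X) : Set X) := by
    have hle : ∀ n, ∀ k ∈ reach n, k < 64 ∧ y * N.ι k * y⁻¹ ∈ (N.S : Subgroup X) := by
      intro n
      induction n with
      | zero =>
        intro k hk; simp only [reach, List.mem_singleton] at hk; subst hk
        exact ⟨by norm_num, by rw [ι_zero N, mul_one, mul_inv_cancel]; exact one_mem _⟩
      | succ n ih =>
        intro k hk
        simp only [reach, List.mem_eraseDups, List.mem_append, List.mem_flatMap] at hk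
        rcases hk with hk | ⟨m, hm, hk⟩
        · exact ih k hk
        · obtain ⟨hm64, hmS⟩ := ih m hm
          obtain ⟨g, hg, rfl⟩ : ∃ g ∈ [1, 16, 32], k = mulT m g := by
            simp only [List.mem_cons, List.not_mem_nil, or_false] at hk
            rcases hk with h | h | h
            · exact ⟨1, by simp, h⟩
            · exact ⟨16, by simp, h⟩
            · exact ⟨32, by simp, h⟩
          have hg64 : g < 64 := by
            simp only [List.mem_cons, List.not_mem_nil, or_false] at hg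
            omega
          refine ⟨mulT_lt hm64 hg64, ?_⟩
          rw [ι_mulT N hm64 hg64, show y * (N.ι m * N.ι g) * y⁻¹ =
            (y * N.ι m * y⁻¹) * (y * N.ι g * y⁻¹) from by group]
          exact mul_mem hmS (hyS g hg)
    have hmap : (N.S : Subgroup X).map (MulAut.conj y).toMonoidHom = N.S := by
      refine Subgroup.eq_of_le_of_card_ge ?_ (le_of_eq (Nat.card_congr
        (Subgroup.equivMapOfInjective _ _ (MulAut.conj y).injective).toEquiv))
      rintro _ ⟨a, ha, rfl⟩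
      obtain ⟨k, hk, rfl⟩ := (N.mem a).1 ha
      have hm := allR chk_reach hk
      simp only [List.contains_eq_mem, decide_eq_true_eq] at hm
      exact (hle 10 k hm).2
    rw [Subgroup.mem_normalizer_iff]
    intro a
    constructor
    · intro ha; rw [← hmap]; exact ⟨a, ha, rfl⟩
    · intro ha
      rw [← hmap] at ha
      obtain ⟨b, hb, he⟩ := ha
      have : b = a := by
        simpa [MulAut.conj_apply] using he
      exact this ▸ hb
  have hzp : IsPGroup 2 (Subgroup.zpowers y) := by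
    rintro ⟨w, hw⟩
    obtain ⟨k, rfl⟩ := Subgroup.mem_zpowers_iff.1 hw
    refine ⟨4, Subtype.ext ?_⟩
    show (y ^ k) ^ 2 ^ 4 = 1
    rw [← zpow_natCast, ← zpow_mul, mul_comm, zpow_mul, zpow_natCast, show (2 : ℕ) ^ 4 = 16 from by norm_num,
      hy16, one_zpow]
  have hmem : y ∈ (N.S : Subgroup X) := by
    have h := N.S.is_maximal' (hzp.to_sup_of_normal_right' N.S.isPGroup'
      (Subgroup.zpowers_le.2 hnorm)) le_sup_right
    exact h.le ((le_sup_left : Subgroup.zpowers y ≤ _) (Subgroup.mem_zpowers y))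
  obtain ⟨g, hg, he⟩ := (N.mem y).1 hmem
  have hu : r = csT g := by
    obtain ⟨a1, b1, c1, d1, a2, b2, c2, d2⟩ := hy.valid hr
    rw [← he] at a2 b2 c2 d2
    rw [← ι_cjT N hg (by norm_num)] at a2 b2 c2 d2
    cases r
    simp only [csT, T4.mk.injEq]
    exact ⟨N.inj _ (inQ_lt a1) _ (cjlt hg (by norm_num)) a2,
      N.inj _ (inQ_lt b1) _ (cjlt hg (by norm_num)) b2,
      N.inj _ (inQ_lt c1) _ (cjlt hg (by norm_num)) c2,
      N.inj _ (inQ_lt d1) _ (cjlt hg (by norm_num)) d2⟩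
  rw [hu, allR chk_simg.1 hg] at hns
  exact absurd hns (by simp)
where
  cjlt {g x : Nat} (hg : g < 64) (hx : x < 64) : cjT g x < 64 := by
    rw [cjT_eq hg hx]; exact cjS_lt hg hx

/-- The fusion pattern in the base. -/
def Inv (N : Mdl X) (P : List Nat) : Prop :=
  ∀ x : X, ∀ a < 16, ∀ b < 16, x * N.ι a * x⁻¹ = N.ι b → (a ∈ P ↔ b ∈ P)

theorem not_hBad {P : List Nat} (hP : Inv N P) {y : X} {r : T4} (hy : Acts N y r) :
    hBad P r = false := by
  rw [Bool.eq_false_iff]
  intro h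
  obtain ⟨a, ha, h⟩ := List.any_eq_true.1 h
  simp only [Bool.and_eq_true, bne_iff_ne] at h
  have hq : inQ a = true := by
    simp only [List.mem_cons, List.not_mem_nil, or_false] at ha
    rcases ha with rfl | rfl | rfl | rfl | rfl | rfl <;> rfl
  have h16 : a < 16 := by
    simp only [List.mem_cons, List.not_mem_nil, or_false] at ha
    omega
  have := hP y a h16 _ (Nat.le_of_ble_eq_true h.1) (hy a hq).2.symm
  refine h.2 (Bool.eq_iff_iff.2 ?_)
  simpa using this

theorem mem_list (C : Ctx N) {P : List Nat} {M : List T4} {W : List (List Nat)} (hP : Inv N P)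
    (hW : W.all (fun w => w.all fun l => Nat.ble l 64) = true)
    (hel : ∀ a ∈ invQ, elimAt P M W a = true) {x : X} {t : T4} (ht : okT t) (hx : Acts N x t) :
    memT M t = true := by
  obtain ⟨a1, b1, c1, d1, a2, b2, c2, d2⟩ := hx.valid ht
  have hinv : ∀ g r, g < 64 → mulT g g = 0 → g ≠ 0 → g ≠ 15 → inQ r = true →
      N.ι r = x * N.ι g * x⁻¹ → r ∈ invQ := by
    intro g r hg hsq h0 h15 hr he
    refine mem_invQ hr ?_ ?_ ?_
    · refine ι_eq_one N (mulT_lt (inQ_lt hr) (inQ_lt hr)) ?_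
      rw [ι_mulT N (inQ_lt hr) (inQ_lt hr), he, show x * N.ι g * x⁻¹ * (x * N.ι g * x⁻¹) =
        x * (N.ι g * N.ι g) * x⁻¹ from by group, ← ι_mulT N hg hg, hsq, ι_zero N, mul_one,
        mul_inv_cancel]
    · rintro rfl
      rw [ι_zero N, eq_comm, conj_eq_one_iff] at he
      exact h0 (ι_eq_one N hg he)
    · rintro rfl
      refine h15 (N.inj g hg 15 (by norm_num) ?_)
      have h1 : N.ι g = x⁻¹ * N.ι 15 * x := by rw [he]; group
      rw [h1, C.central x⁻¹, inv_mul_cancel_right]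
  have hcm : ∀ g h r s, g < 64 → h < 64 → inQ r = true → inQ s = true → N.ι r = x * N.ι g * x⁻¹ →
      N.ι s = x * N.ι h * x⁻¹ → comT r s = comT g h := by
    intro g h r s hg hh hr hs er es
    rw [Bool.eq_iff_iff, ι_comm N (inQ_lt hr) (inQ_lt hs), ι_comm N hg hh, er, es]
    exact Commute.conj_iff x
  have hcand : candT t = true := by
    simp only [candT, Bool.and_eq_true, beq_iff_eq]
    refine ⟨⟨⟨⟨⟨hcm _ _ _ _ ?_ ?_ a1 b1 a2 b2, hcm _ _ _ _ ?_ ?_ a1 c1 a2 c2⟩,
      hcm _ _ _ _ ?_ ?_ a1 d1 a2 d2⟩, hcm _ _ _ _ ?_ ?_ b1 c1 b2 c2⟩, hcm _ _ _ _ ?_ ?_ b1 d1 b2 d2⟩,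
      hcm _ _ _ _ ?_ ?_ c1 d1 c2 d2⟩ <;> norm_num
  have hA := hinv 16 _ (by norm_num) (by decide +kernel) (by norm_num) (by norm_num) a1 a2
  have hB := hinv 32 _ (by norm_num) (by decide +kernel) (by norm_num) (by norm_num) b1 b2
  have hCc := hinv 3 _ (by norm_num) (by decide +kernel) (by norm_num) (by norm_num) c1 c2
  have hD := hinv 5 _ (by norm_num) (by decide +kernel) (by norm_num) (by norm_num) d1 d2
  have h := allM (allM (allM (hel t.a hA) hB) hCc) hD
  simp only [Bool.or_eq_true, Bool.not_eq_true'] at h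
  rcases h with (h | h) | h
  · rw [show (⟨t.a, t.b, t.c, t.d⟩ : T4) = t from rfl, hcand] at h; simp at h
  · exact h
  · exfalso
    obtain ⟨w, hw, h⟩ := List.any_eq_true.1 h
    obtain ⟨y, hy, hok⟩ := exists_word C hx ht w fun l hl => Nat.le_of_ble_eq_true (allM (allM hW hw) hl)
    simp only [Bool.or_eq_true] at h
    rw [show evT ⟨t.a, t.b, t.c, t.d⟩ w = evT t w from rfl, not_hBad hP hy, not_tBad C hy hok] at h
    simp at h

end Cfsg.Agent.Lib.A8Type36.Loc
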