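import Cfsg.Agent.Lib.A8Type36.LocalCode

/-!
# Computed facts for the structure of the centraliser modulo its odd core

helper5 (S2918, step 3).
-/

set_option autoImplicit false
set_option maxRecDepth 100000
set_option Elab.async false

namespace Cfsg.Agent.Lib.A8Type36.Loc

theorem chk_mulT : ((List.range 64).all fun x => (List.range 64).all fun y =>
    Nat.beq (mulT x y) (mulS x y) && Nat.blt (mulT x y) 64) = true := by decide +kernel

theorem chk_grow : (([0] :: normL).all growOK) = true := by decide +kernel

theorem chk_normL : (normL.all fun M => M.contains 15 && !Nat.beq M.length 1 &&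
    ((qList.all fun x => M.contains x) && (M.all fun x => inQ x) || chainOK M)) = true := by decide +kernel

theorem chk_qcen : ((List.range 64).all fun x => Nat.beq x 0 || Nat.beq x 15 ||
    [16, 32, 3, 5].any fun g => !comT x g) = true := by decide +kernel

theorem chk_mulQ : ((List.range 64).all fun x => !inQ x || (List.range 64).all fun y =>
    !inQ y || inQ (mulT x y)) = true := by decide +kernel

theorem chk_invQ : (invQ.all fun x => inQ x) = true ∧
    ((List.range 64).all fun x => !(inQ x && Nat.beq (mulT x x) 0) || Nat.beq x 0 || Nat.beq x 15 ||
      invQ.contains x) = true := by decide +kernel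

theorem chk_simg : ((List.range 64).all fun g => memT simg (csT g)) = true ∧
    (simg.all fun t => (List.range 64).any fun g => eqT t (csT g)) = true := by decide +kernel

theorem chk_M1 : (listM1.all fun t => (List.range 3).any fun i => (List.range 64).any fun g =>
    eqT t (compT (csT g) (actN 0 i 0))) = true := by decide +kernel

theorem chk_M2 : (listM2.all fun t => (List.range 3).any fun i => (List.range 3).any fun j =>
    (List.range 64).any fun g => eqT t (compT (csT g) (compT (actN j 0 0) (actN 0 i 0)))) = true := by
  decide +kernel

theorem chk_act : ((List.range 3).all fun j => (List.range 3).all fun i => (List.range 2).all fun e =>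
    eqT (actN j i e) (compT (compT (powT psiT j) (powT phiT i)) (powT (csT 1) e))) = true := by
  decide +kernel

end Cfsg.Agent.Lib.A8Type36.Loc
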