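import Cfsg.Agent.Lib.A8Type36.Facts
import Cfsg.Agent.Lib.A8Type36.LocalChecks
import Cfsg.Agent.Lib.Cores.Basic
import Cfsg.Agent.S0044

/-!
# The 2-core of the centraliser modulo its odd core

helper5 (S2918, step 3).
-/

set_option autoImplicit false
set_option maxRecDepth 100000
set_option linter.style.haveILetI false

open Subgroup
open scoped commutatorElement

namespace Cfsg.Agent.Lib.A8Type36.Loc

universe u

theorem allR {n : Nat} {f : Nat → Bool} (h : (List.range n).all f = true) {x : Nat} (hx : x < n) :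
    f x = true := List.all_eq_true.1 h x (List.mem_range.2 hx)

theorem allM {α : Type} {l : List α} {f : α → Bool} (h : l.all f = true) {x : α} (hx : x ∈ l) :
    f x = true := List.all_eq_true.1 h x hx

theorem anyR {n : Nat} {f : Nat → Bool} (h : (List.range n).any f = true) : ∃ x < n, f x = true := by
  obtain ⟨x, hx, h⟩ := List.any_eq_true.1 h
  exact ⟨x, List.mem_range.1 hx, h⟩

theorem mulT_eq {x y : Nat} (hx : x < 64) (hy : y < 64) : mulT x y = mulS x y := by
  have h := allR (allR chk_mulT hx) hy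
  simp only [Bool.and_eq_true] at h
  exact Nat.eq_of_beq_eq_true h.1

theorem mulT_lt {x y : Nat} (hx : x < 64) (hy : y < 64) : mulT x y < 64 := by
  rw [mulT_eq hx hy]; exact mulS_lt hx hy

theorem cjT_eq {g x : Nat} (hg : g < 64) (hx : x < 64) : cjT g x = cjS g x := by
  rw [cjT, mulT_eq (mulT_lt hg hx) (invS_lt hg), mulT_eq hg hx]; rfl

theorem cmT_eq {x y : Nat} (hx : x < 64) (hy : y < 64) : cmT x y = cmS x y := by
  rw [cmT, mulT_eq (mulT_lt (mulT_lt hx hy) (invS_lt hx)) (invS_lt hy),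
    mulT_eq (mulT_lt hx hy) (invS_lt hx), mulT_eq hx hy]; rfl

section model

variable {X : Type u} [Group X] (N : Mdl X)

theorem ι_zero : N.ι 0 = 1 := by
  have h := N.map_mul 0 (by norm_num) 0 (by norm_num)
  rw [show mulS 0 0 = 0 from by decide +kernel] at h
  exact mul_eq_left.1 h.symm

theorem ι_inv {x : Nat} (hx : x < 64) : N.ι (invS x) = (N.ι x)⁻¹ := by
  refine (inv_eq_of_mul_eq_one_right ?_).symm
  have key : ∀ x < 64, mulS x (invS x) = 0 := by decide +kernel
  rw [← N.map_mul x hx _ (invS_lt hx), key x hx, ι_zero N]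

theorem ι_mulT {x y : Nat} (hx : x < 64) (hy : y < 64) : N.ι (mulT x y) = N.ι x * N.ι y := by
  rw [mulT_eq hx hy, N.map_mul x hx y hy]

theorem ι_cjT {g x : Nat} (hg : g < 64) (hx : x < 64) :
    N.ι (cjT g x) = N.ι g * N.ι x * (N.ι g)⁻¹ := by
  rw [cjT, ι_mulT N (mulT_lt hg hx) (invS_lt hg), ι_mulT N hg hx, ι_inv N hg]

theorem ι_cmT {x y : Nat} (hx : x < 64) (hy : y < 64) :
    N.ι (cmT x y) = ⁅N.ι x, N.ι y⁆ := by
  rw [cmT, ι_mulT N (mulT_lt (mulT_lt hx hy) (invS_lt hx)) (invS_lt hy),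
    ι_mulT N (mulT_lt hx hy) (invS_lt hx), ι_mulT N hx hy, ι_inv N hx, ι_inv N hy]
  rfl

theorem ι_comm {x y : Nat} (hx : x < 64) (hy : y < 64) :
    comT x y = true ↔ Commute (N.ι x) (N.ι y) := by
  rw [comT, Commute, SemiconjBy, ← ι_mulT N hx hy, ← ι_mulT N hy hx]
  constructor
  · intro h; rw [Nat.eq_of_beq_eq_true h]
  · intro h; rw [N.inj _ (mulT_lt hx hy) _ (mulT_lt hy hx) h]; simp

theorem ι_eq_one {x : Nat} (hx : x < 64) (h : N.ι x = 1) : x = 0 :=
  N.inj x hx 0 (by norm_num) (h.trans (ι_zero N).symm)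

theorem z_sq : N.ι 15 * N.ι 15 = 1 := by
  rw [← N.map_mul 15 (by norm_num) 15 (by norm_num), fact_z.1, ι_zero N]

theorem ι15_pow (n : ℕ) : N.ι 15 ^ n = 1 ∨ N.ι 15 ^ n = N.ι 15 := by
  induction n with
  | zero => exact Or.inl (pow_zero _)
  | succ n ih =>
    rcases ih with h | h <;> rw [pow_succ, h]
    · exact Or.inr (one_mul _)
    · exact Or.inl (z_sq N)

end model

section chain

variable {X : Type u} [Group X] [Finite X]

/-- Two elements trivial on a chain through a 2-group. -/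
theorem mem_of_chain {P F : Subgroup X} [P.Normal] [F.Normal] {z : X} (hzc : ∀ g, g * z = z * g)
    (hP : IsPGroup 2 P) (hcore : ∀ N : Subgroup X, N.Normal → IsPGroup 2 N → N ≤ P)
    (hC : Subgroup.centralizer (P : Set X) ≤ P) (hFP : F ≤ P) (gs : Set X)
    (hgs : gs ⊆ F) (hF : F ≤ Subgroup.closure gs)
    (hgsn : ∀ g ∈ gs, ∀ x : X, x * g * x⁻¹ ∈ gs) {s : X}
    (h1 : ∀ p ∈ P, ⁅p, s⁆ ∈ F) (h2 : ∀ g ∈ gs, ⁅g, s⁆ ∈ Subgroup.zpowers z) : s ∈ P := by
  haveI : Fact (Nat.Prime 2) := ⟨Nat.prime_two⟩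
  have hzn : ∀ w ∈ Subgroup.zpowers z, ∀ x : X, x * w * x⁻¹ = w := by
    intro w hw x
    have hc : Commute x z := hzc x
    obtain ⟨k, rfl⟩ := Subgroup.mem_zpowers_iff.1 hw
    rw [(hc.zpow_right k).eq, mul_inv_cancel_right]
  let K : Subgroup X :=
    { carrier := {x | (∀ p ∈ P, ⁅p, x⁆ ∈ F) ∧ ∀ g ∈ gs, ⁅g, x⁆ ∈ Subgroup.zpowers z}
      one_mem' := ⟨fun p _ => by simp, fun g _ => by simp⟩
      mul_mem' := by
        rintro x y ⟨hx1, hx2⟩ ⟨hy1, hy2⟩
        refine ⟨fun p hp => ?_, fun g hg => ?_⟩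
        · rw [show ⁅p, x * y⁆ = ⁅p, x⁆ * (x * ⁅p, y⁆ * x⁻¹) from by
            simp only [commutatorElement_def]; group]
          exact F.mul_mem (hx1 p hp) (Subgroup.Normal.conj_mem inferInstance _ (hy1 p hp) x)
        · rw [show ⁅g, x * y⁆ = ⁅g, x⁆ * (x * ⁅g, y⁆ * x⁻¹) from by
            simp only [commutatorElement_def]; group, hzn _ (hy2 g hg) x]
          exact Subgroup.mul_mem _ (hx2 g hg) (hy2 g hg)
      inv_mem' := by
        rintro x ⟨hx1, hx2⟩
        refine ⟨fun p hp => ?_, fun g hg => ?_⟩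
        · rw [show ⁅p, x⁻¹⁆ = x⁻¹ * ⁅p, x⁆⁻¹ * x⁻¹⁻¹ from by simp only [commutatorElement_def]; group]
          exact Subgroup.Normal.conj_mem inferInstance _ (F.inv_mem (hx1 p hp)) _
        · rw [show ⁅g, x⁻¹⁆ = x⁻¹ * ⁅g, x⁆⁻¹ * x⁻¹⁻¹ from by simp only [commutatorElement_def]; group,
            hzn _ (Subgroup.inv_mem _ (hx2 g hg))]
          exact Subgroup.inv_mem _ (hx2 g hg) }
  haveI hKn : K.Normal := ⟨fun x hx u => by
    refine ⟨fun p hp => ?_, fun g hg => ?_⟩
    · rw [show ⁅p, u * x * u⁻¹⁆ = u * ⁅u⁻¹ * p * u⁻¹⁻¹, x⁆ * u⁻¹ from by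
        simp only [commutatorElement_def]; group]
      exact Subgroup.Normal.conj_mem inferInstance _
        (hx.1 _ (Subgroup.Normal.conj_mem inferInstance p hp u⁻¹)) u
    · rw [show ⁅g, u * x * u⁻¹⁆ = u * ⁅u⁻¹ * g * u⁻¹⁻¹, x⁆ * u⁻¹ from by
        simp only [commutatorElement_def]; group, hzn _ (hx.2 _ (hgsn g hg u⁻¹))]
      exact hx.2 _ (hgsn g hg u⁻¹)⟩
  have hodd : ∀ y ∈ K, Odd (orderOf y) → y = 1 := by
    intro y hy hod
    have hcop : ∀ f ∈ P, f ^ orderOf y = 1 → f = 1 := by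
      intro f hf hfn
      obtain ⟨k, hk⟩ := hP ⟨f, hf⟩
      have hk' : f ^ 2 ^ k = 1 := congrArg Subtype.val hk
      have h := Nat.dvd_gcd (orderOf_dvd_of_pow_eq_one hk') (orderOf_dvd_of_pow_eq_one hfn)
      rw [Nat.Coprime.gcd_eq_one (Nat.Coprime.pow_left k (Nat.coprime_two_left.2 hod))] at h
      exact orderOf_eq_one_iff.1 (Nat.dvd_one.1 h)
    have hstep : ∀ g ∈ P, ∀ f ∈ P, y * g * y⁻¹ = g * f → y * f = f * y → f = 1 := by
      intro g hg f hf he hfy
      refine hcop f hf ?_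
      have hn : ∀ n : ℕ, y ^ n * g * (y ^ n)⁻¹ = g * f ^ n := by
        intro n
        induction n with
        | zero => simp
        | succ n ih =>
          have hfc : Commute (y ^ n) f := (Commute.pow_left hfy n)
          calc y ^ (n + 1) * g * (y ^ (n + 1))⁻¹ = y ^ n * (y * g * y⁻¹) * (y ^ n)⁻¹ := by
                rw [pow_succ]; group
            _ = (y ^ n * g * (y ^ n)⁻¹) * (y ^ n * f * (y ^ n)⁻¹) := by rw [he]; group
            _ = g * f ^ (n + 1) := by rw [ih, hfc.eq, mul_inv_cancel_right, pow_succ]; group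
      have := hn (orderOf y)
      rw [pow_orderOf_eq_one, one_mul, inv_one, mul_one] at this
      exact mul_eq_left.1 this.symm
    have hgc : ∀ g ∈ gs, y * g = g * y := by
      intro g hg
      have hc := hy.2 g hg
      have hcP : ⁅g, y⁆ ∈ P := by
        rw [show ⁅g, y⁆ = g * (y * g⁻¹ * y⁻¹) from by simp only [commutatorElement_def]; group]
        exact P.mul_mem (hFP (hgs hg))
          (Subgroup.Normal.conj_mem inferInstance _ (P.inv_mem (hFP (hgs hg))) y)
      have h1 := hstep g⁻¹ (P.inv_mem (hFP (hgs hg))) _ hcP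
        (by simp only [commutatorElement_def]; group) (by
          have := hzn _ hc y
          rwa [mul_inv_eq_iff_eq_mul] at this)
      exact (commutatorElement_eq_one_iff_mul_comm.1 h1).symm
    have hFc : ∀ f ∈ F, y * f = f * y := by
      intro f hf
      have : Subgroup.closure gs ≤ Subgroup.centralizer {y} := by
        rw [Subgroup.closure_le]
        intro g hg
        rw [SetLike.mem_coe, Subgroup.mem_centralizer_singleton_iff]
        exact (hgc g hg).symm
      exact (Subgroup.mem_centralizer_singleton_iff.1 (this (hF hf))).symm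
    have hPc : y ∈ Subgroup.centralizer (P : Set X) := by
      rw [Subgroup.mem_centralizer_iff]
      intro p hp
      have h1 := hstep p⁻¹ (P.inv_mem hp) _ (hFP (hy.1 p hp))
        (by simp only [commutatorElement_def]; group) (hFc _ (hy.1 p hp))
      exact commutatorElement_eq_one_iff_mul_comm.1 h1
    obtain ⟨k, hk⟩ := hP ⟨y, hC hPc⟩
    have hk' : y ^ 2 ^ k = 1 := congrArg Subtype.val hk
    exact hcop y (hC hPc) (pow_orderOf_eq_one y)
  have hK : IsPGroup 2 K := by
    rintro ⟨x, hx⟩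
    obtain ⟨k, m, hm, hxm⟩ := Nat.exists_eq_pow_mul_and_not_dvd (orderOf_pos x).ne' 2 (by norm_num)
    refine ⟨k, Subtype.ext ?_⟩
    refine hodd (x ^ 2 ^ k) (K.pow_mem hx _) ?_
    rw [orderOf_pow' x (by positivity), hxm, Nat.gcd_eq_right (dvd_mul_right _ _),
      Nat.mul_div_cancel_left _ (by positivity)]
    exact Nat.odd_iff.2 (Nat.two_dvd_ne_zero.1 hm)
  exact hcore K hKn hK ⟨h1, h2⟩

end chain

section fold

theorem testBit_foldl {α : Type} {Q : Prop} {y : Nat} (g : Nat → α → Nat) :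
    ∀ (l : List α) (r : Nat), (∀ r, ∀ a ∈ l, Nat.testBit (g r a) y = true → Nat.testBit r y = true ∨ Q) →
      Nat.testBit (l.foldl g r) y = true → Nat.testBit r y = true ∨ Q
  | [], r, _, h => Or.inl h
  | a :: l, r, hg, h => by
    rw [List.foldl_cons] at h
    rcases testBit_foldl g l _ (fun r b hb => hg r b (List.mem_cons_of_mem _ hb)) h with h' | h'
    · exact hg r a List.mem_cons_self h'
    · exact Or.inr h'

theorem extM_spec {M : List Nat} {x y : Nat} (h : Nat.testBit (extM M x) y = true) :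
    ∃ m ∈ M, ∃ a b, (a = 0 ∨ ∃ g < 64, a = cjT g x) ∧ (b = 0 ∨ ∃ g < 64, b = cjT g x) ∧
      y = mulT (mulT m a) b := by
  have hcc : ∀ a, a ∈ (0 :: (List.range 64).map fun g => cjT g x).eraseDups →
      a = 0 ∨ ∃ g < 64, a = cjT g x := by
    intro a ha
    rw [List.mem_eraseDups, List.mem_cons, List.mem_map] at ha
    rcases ha with ha | ⟨g, hg, rfl⟩
    · exact Or.inl ha
    · exact Or.inr ⟨g, List.mem_range.1 hg, rfl⟩
  refine (testBit_foldl (Q := ∃ m ∈ M, ∃ a b, (a = 0 ∨ ∃ g < 64, a = cjT g x) ∧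
      (b = 0 ∨ ∃ g < 64, b = cjT g x) ∧ y = mulT (mulT m a) b) _ M 0 ?_ h).resolve_left (by simp)
  intro r m hm h1
  refine testBit_foldl _ _ r ?_ h1
  intro r a ha h2
  refine testBit_foldl _ _ r ?_ h2
  intro r b hb h3
  rw [show Nat.lor r (2 ^ mulT (mulT m a) b) = r ||| 2 ^ mulT (mulT m a) b from rfl,
    Nat.testBit_or, Bool.or_eq_true, Nat.testBit_two_pow] at h3
  rcases h3 with h3 | h3
  · exact Or.inl h3
  · exact Or.inr ⟨m, hm, a, b, hcc a ha, hcc b hb, (of_decide_eq_true h3).symm⟩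

end fold

variable {X : Type u} [Group X] [Finite X]

/-- The hypotheses shared by the cases. -/
structure Ctx (N : Mdl X) : Prop where
  central : ∀ g, g * N.ι 15 = N.ι 15 * g
  solv : Group.IsSolvable X
  odd : Cfsg.oddCore X = ⊥
  moves : ∃ x : X, ∃ u a, u < 64 ∧ outInv u = true ∧ a < 16 ∧ x * N.ι u * x⁻¹ = N.ι a

theorem centralizer_pCore_le (hsolv : Group.IsSolvable X) (h : Cfsg.oddCore X = ⊥) :
    Subgroup.centralizer (Cfsg.pCore 2 X : Set X) ≤ Cfsg.pCore 2 X := by
  haveI : Group.IsSolvable X := hsolv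
  have hF : Cfsg.fittingSubgroup X ≤ Cfsg.pCore 2 X := by
    rw [Cores.fittingSubgroup_eq_iSup_pCore]
    refine iSup_le fun q => ?_
    by_cases hq : (q : ℕ) = 2
    · rw [hq]
    · haveI : Fact (q : ℕ).Prime := ⟨q.2⟩
      have h1 : Cfsg.pCore (q : ℕ) X ≤ Cfsg.pPrimeCore 2 X := by
        refine Cores.le_pPrimeCore ?_
        obtain ⟨k, hk⟩ := IsPGroup.iff_card.1 (Cores.pCore_isPGroup (G := X) (q : ℕ))
        rw [hk]
        exact ((Nat.coprime_primes q.2 Nat.prime_two).2 hq).pow_left k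
      exact (h1.trans (le_of_eq h)).trans bot_le
  exact ((Subgroup.centralizer_le hF).trans (Cfsg.Agent.S0044.result (G := X))).trans hF

theorem mem_sylow_of_mem_pCore {N : Mdl X} {g : X} (hg : g ∈ Cfsg.pCore 2 X) :
    ∃ x < 64, N.ι x = g := by
  haveI : Fact (Nat.Prime 2) := ⟨Nat.prime_two⟩
  have hle : Cfsg.pCore 2 X ≤ (N.S : Subgroup X) := by
    have h : Cfsg.pCore 2 X ⊔ (N.S : Subgroup X) = N.S :=
      N.S.is_maximal' ((Cores.pCore_isPGroup 2).to_sup_of_normal_left N.S.isPGroup') le_sup_right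
    exact le_sup_left.trans h.le
  exact (N.mem g).1 (hle hg)

theorem base_invariant {N : Mdl X} (hA : ∀ a < 16, N.ι a ∈ Cfsg.pCore 2 X) (x : X) {a : Nat}
    (ha : a < 16) : ∃ b < 16, x * N.ι a * x⁻¹ = N.ι b := by
  classical
  have hc : ∀ a < 16, ∃ b < 64, N.ι b = x * N.ι a * x⁻¹ := fun a ha =>
    mem_sylow_of_mem_pCore (Subgroup.Normal.conj_mem inferInstance _ (hA a ha) x)
  choose! f hf hfe using hc
  refine ⟨f a, ?_, (hfe a ha).symm⟩
  by_contra hge
  push Not at hge
  have hfew := fact_few (f a) (hf a ha) hge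
  have hinj : ∀ i < 16, ∀ j < 16, f i = f j → i = j := by
    intro i hi j hj h
    have := congrArg N.ι h
    rw [hfe i hi, hfe j hj] at this
    exact N.inj i (by omega) j (by omega) (mul_left_cancel (mul_right_cancel this))
  have hsub : (List.range 16).map f ⊆
      (List.range 64).filter fun y => Nat.beq (mulS y y) 0 && comS (f a) y := by
    intro y hy
    obtain ⟨i, hi, rfl⟩ := List.mem_map.1 hy
    rw [List.mem_range] at hi
    refine List.mem_filter.2 ⟨List.mem_range.2 (hf i hi), ?_⟩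
    have hsq : mulS (f i) (f i) = 0 := by
      refine ι_eq_one N (mulS_lt (hf i hi) (hf i hi)) ?_
      rw [N.map_mul _ (hf i hi) _ (hf i hi), hfe i hi]
      rw [show x * N.ι i * x⁻¹ * (x * N.ι i * x⁻¹) = x * (N.ι i * N.ι i) * x⁻¹ from by group,
        ← N.map_mul i (by omega) i (by omega), (fact_base i hi i hi).1,
        show Nat.xor i i = 0 from Nat.xor_self i, ι_zero N, mul_one, mul_inv_cancel]
    have hco : mulS (f a) (f i) = mulS (f i) (f a) := by
      refine N.inj _ (mulS_lt (hf a ha) (hf i hi)) _ (mulS_lt (hf i hi) (hf a ha)) ?_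
      rw [N.map_mul _ (hf a ha) _ (hf i hi), N.map_mul _ (hf i hi) _ (hf a ha), hfe i hi, hfe a ha,
        show x * N.ι a * x⁻¹ * (x * N.ι i * x⁻¹) = x * (N.ι a * N.ι i) * x⁻¹ from by group,
        show x * N.ι i * x⁻¹ * (x * N.ι a * x⁻¹) = x * (N.ι i * N.ι a) * x⁻¹ from by group,
        ← N.map_mul a (by omega) i (by omega), ← N.map_mul i (by omega) a (by omega),
        (fact_base i hi a ha).1, (fact_base a ha i hi).1, show Nat.xor a i = Nat.xor i a from Nat.xor_comm a i]
    rw [hsq, comS, hco]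
    simp
  have hnd : ((List.range 16).map f).Nodup := by
    refine (List.nodup_map_iff_inj_on List.nodup_range).2 ?_
    intro i hi j hj h
    exact hinj i (List.mem_range.1 hi) j (List.mem_range.1 hj) h
  have := (hnd.subperm hsub).length_le
  simp only [List.length_map, List.length_range] at this
  omega

/-- The 2-core is the extraspecial subgroup. -/
theorem pCore_iff {N : Mdl X} (C : Ctx N) (g : X) :
    g ∈ Cfsg.pCore 2 X ↔ ∃ x, inQ x = true ∧ N.ι x = g := by
  classical
  haveI : Fact (Nat.Prime 2) := ⟨Nat.prime_two⟩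
  set P := Cfsg.pCore 2 X with hPdef
  have hPp : IsPGroup 2 P := Cores.pCore_isPGroup 2
  have hcore : ∀ L : Subgroup X, L.Normal → IsPGroup 2 L → L ≤ P := fun L h1 h2 => le_sSup ⟨h1, h2⟩
  have hC : Subgroup.centralizer (P : Set X) ≤ P := centralizer_pCore_le C.solv C.odd
  have hS := fun {g : X} (hg : g ∈ P) => mem_sylow_of_mem_pCore (N := N) hg
  have hnA : ¬ ∀ a < 16, N.ι a ∈ P := by
    intro hA
    obtain ⟨x, u, a, hu, hout, ha, he⟩ := C.moves
    obtain ⟨b, hb, hbe⟩ := base_invariant hA x⁻¹ ha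
    rw [← he, show x⁻¹ * (x * N.ι u * x⁻¹) * x⁻¹⁻¹ = N.ι u from by group] at hbe
    have := (fact_outInv u hu hout).1
    have := N.inj u hu b (by omega) hbe
    omega
  have hout : ∃ u < 64, 16 ≤ u ∧ N.ι u ∈ P := by
    by_contra hno
    push Not at hno
    refine hnA fun a ha => hC ?_
    rw [Subgroup.mem_centralizer_iff]
    intro p hp
    obtain ⟨y, hy, rfl⟩ := hS hp
    have hy16 : y < 16 := by by_contra h; exact hno y hy (by omega) hp
    rw [← N.map_mul y hy a (by omega), ← N.map_mul a (by omega) y hy, (fact_base y hy16 a ha).1,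
      (fact_base a ha y hy16).1, show Nat.xor y a = Nat.xor a y from Nat.xor_comm y a]
  have hclosed : ∀ M ∈ [0] :: normL, (∀ y ∈ M, y < 64 ∧ N.ι y ∈ P) → ∀ x < 64, N.ι x ∈ P →
      x ∉ M → (M.length = 1 → 16 ≤ x) →
      ∃ M' ∈ normL, (∀ y ∈ M', y < 64 ∧ N.ι y ∈ P) ∧ M.length < M'.length := by
    intro M hM hMP x hx hxP hxM h1
    have h := allR (allM chk_grow hM) hx
    simp only [Bool.or_eq_true, List.contains_eq_mem, decide_eq_true_eq, Bool.and_eq_true] at h
    rcases h with (h | ⟨hl, hx16⟩) | h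
    · exact absurd h hxM
    · have := h1 (Nat.eq_of_beq_eq_true hl)
      have := Nat.le_of_ble_eq_true hx16
      omega
    · have hmem : ∀ y, Nat.testBit (extM M x) y = true → y < 64 ∧ N.ι y ∈ P := by
        intro y hy
        obtain ⟨m, hm, a, b, ha, hb, rfl⟩ := extM_spec hy
        have hcj : ∀ a, (a = 0 ∨ ∃ g < 64, a = cjT g x) → a < 64 ∧ N.ι a ∈ P := by
          rintro a (rfl | ⟨g, hg, rfl⟩)
          · exact ⟨by norm_num, by rw [ι_zero N]; exact one_mem _⟩
          · refine ⟨by rw [cjT_eq hg hx]; exact cjS_lt hg hx, ?_⟩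
            rw [ι_cjT N hg hx]
            exact Subgroup.Normal.conj_mem inferInstance _ hxP _
        obtain ⟨hm64, hmP⟩ := hMP m hm
        obtain ⟨ha64, haP⟩ := hcj a ha
        obtain ⟨hb64, hbP⟩ := hcj b hb
        refine ⟨mulT_lt (mulT_lt hm64 ha64) hb64, ?_⟩
        rw [ι_mulT N (mulT_lt hm64 ha64) hb64, ι_mulT N hm64 ha64]
        exact mul_mem (mul_mem hmP haP) hbP
      rcases h with h | h
      · exact absurd (fun a ha => (hmem a (allR h ha)).2) hnA
      · obtain ⟨M', hM', h'⟩ := List.any_eq_true.1 h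
        simp only [Bool.and_eq_true] at h'
        refine ⟨M', hM', fun y hy => hmem y ?_, Nat.le_of_ble_eq_true h'.1⟩
        have := allM h'.2 hy
        simp only [Bool.and_eq_true] at this
        exact this.2
  have hne : ∃ M ∈ normL, ∀ y ∈ M, y < 64 ∧ N.ι y ∈ P := by
    obtain ⟨u, hu, hu16, huP⟩ := hout
    obtain ⟨M', hM', h, -⟩ := hclosed [0] List.mem_cons_self
      (by intro y hy; rw [List.mem_singleton] at hy; subst hy
          exact ⟨by norm_num, by rw [ι_zero N]; exact one_mem _⟩) u hu huP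
      (by simp only [List.mem_singleton]; omega) (fun _ => hu16)
    exact ⟨M', hM', h⟩
  obtain ⟨M, hM, hMmax⟩ := Set.exists_max_image
    {M : List Nat | M ∈ normL ∧ ∀ y ∈ M, y < 64 ∧ N.ι y ∈ P} List.length
    ((List.finite_toSet normL).subset fun _ h => h.1) hne
  obtain ⟨hMn, hMP⟩ := hM
  have hchk := allM chk_normL hMn
  simp only [Bool.and_eq_true, Bool.or_eq_true, List.contains_eq_mem, decide_eq_true_eq,
    Bool.not_eq_true'] at hchk
  obtain ⟨⟨h15, hlen⟩, hcase⟩ := hchk
  have hMall : ∀ x < 64, N.ι x ∈ P → x ∈ M := by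
    intro x hx hxP
    by_contra hxM
    obtain ⟨M', hM', h, hlt⟩ := hclosed M (List.mem_cons_of_mem _ hMn) hMP x hx hxP hxM
      (fun h1 => by rw [h1] at hlen; simp at hlen)
    have := hMmax M' ⟨hM', h⟩
    omega
  rcases hcase with ⟨hQM, hMQ⟩ | hch
  · constructor
    · intro hg
      obtain ⟨x, hx, rfl⟩ := hS hg
      exact ⟨x, allM hMQ (hMall x hx hg), rfl⟩
    · rintro ⟨x, hx, rfl⟩
      have hx64 : x < 64 := by
        simp only [inQ, Bool.and_eq_true] at hx; exact Nat.le_of_ble_eq_true hx.1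
      have := allM hQM (List.mem_filter.2 ⟨List.mem_range.2 hx64, hx⟩)
      simp only [List.contains_eq_mem, decide_eq_true_eq] at this
      exact (hMP x this).2
  · exfalso
    simp only [chainOK] at hch
    obtain ⟨s, hs, hsc⟩ := anyR hch
    simp only [Bool.and_eq_true, List.contains_eq_mem, Bool.not_eq_true', decide_eq_false_iff_not,
      List.all_eq_true, decide_eq_true_eq, Bool.or_eq_true] at hsc
    obtain ⟨⟨hsM, hs1⟩, hs2⟩ := hsc
    let gs : Set X := insert (N.ι 15) ((fun p => p * p) '' (P : Set X))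
    let F : Subgroup X := Subgroup.closure gs
    have h15P : N.ι 15 ∈ P := (hMP 15 h15).2
    have hgsP : gs ⊆ P := by
      rintro g (rfl | ⟨p, hp, rfl⟩)
      · exact h15P
      · exact mul_mem hp hp
    have hgsn : ∀ g ∈ gs, ∀ x : X, x * g * x⁻¹ ∈ gs := by
      rintro g (rfl | ⟨p, hp, rfl⟩) x
      · left; rw [C.central x, mul_inv_cancel_right]
      · right; exact ⟨x * p * x⁻¹, Subgroup.Normal.conj_mem inferInstance p hp x, by group⟩
    haveI : F.Normal := ⟨fun f hf x => by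
      have hle : F ≤ F.comap (MulAut.conj x).toMonoidHom := by
        rw [Subgroup.closure_le]
        intro g hg
        exact Subgroup.subset_closure (hgsn g hg x)
      exact hle hf⟩
    have hsq : ∀ a ∈ sqL M, a < 64 ∧ N.ι a ∈ gs := by
      intro a ha
      simp only [sqL, List.mem_cons, List.mem_map] at ha
      rcases ha with rfl | ⟨p, hp, rfl⟩
      · exact ⟨by norm_num, Or.inl rfl⟩
      · obtain ⟨hp64, hpP⟩ := hMP p hp
        exact ⟨mulT_lt hp64 hp64, Or.inr ⟨N.ι p, hpP, (ι_mulT N hp64 hp64).symm⟩⟩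
    have hsP : N.ι s ∈ P := by
      refine mem_of_chain (z := N.ι 15) (F := F) C.central hPp hcore hC
        ((Subgroup.closure_le _).2 hgsP) gs Subgroup.subset_closure le_rfl hgsn ?_ ?_
      · intro p hp
        obtain ⟨x, hx, rfl⟩ := hS hp
        have := hs1 x (hMall x hx hp)
        rw [List.mem_eraseDups, List.mem_flatMap] at this
        obtain ⟨a, ha, hab⟩ := this
        obtain ⟨b, hb, hab⟩ := List.mem_map.1 hab
        rw [← ι_cmT N hx hs, ← hab, ι_mulT N (hsq a ha).1 (hsq b hb).1]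
        exact mul_mem (Subgroup.subset_closure (hsq a ha).2) (Subgroup.subset_closure (hsq b hb).2)
      · rintro g (rfl | ⟨p, hp, rfl⟩)
        · rw [commutatorElement_eq_one_iff_mul_comm.2 (C.central (N.ι s)).symm]; exact one_mem _
        · obtain ⟨x, hx, rfl⟩ := hS hp
          have := hs2 (mulT x x) (List.mem_cons_of_mem _ (List.mem_map.2 ⟨x, hMall x hx hp, rfl⟩))
          rw [show (fun p => p * p) (N.ι x) = N.ι (mulT x x) from (ι_mulT N hx hx).symm,
            ← ι_cmT N (mulT_lt hx hx) hs]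
          rcases this with h | h
          · rw [Nat.eq_of_beq_eq_true h, ι_zero N]; exact one_mem _
          · rw [Nat.eq_of_beq_eq_true h]; exact Subgroup.mem_zpowers _
    exact hsM (hMall s hs hsP)

end Cfsg.Agent.Lib.A8Type36.Loc
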