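import Cfsg.Agent.Lib.A8Type36.LocalCode

/-!
# Computed facts for the generators

helper5 (S2918, step 3).
-/

set_option autoImplicit false
set_option maxRecDepth 100000
set_option Elab.async false

namespace Cfsg.Agent.Lib.A8Type36.Loc

/-- The double coset of `t` contains `r`. -/
def dcOK (t r : T4) : Bool := simg.any fun a => simg.any fun b => eqT (compT (compT a t) b) r

theorem chk_phi : (listM1.all fun t => memT simg t || dcOK t phiT) = true := by decide +kernel

theorem chk_move : (listM2.all fun t => !(qList.any fun q => Nat.ble 16 q && Nat.blt (appQ t q) 16) ||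
    dcOK (evT t [64, 1, 64, 64]) phiT) = true := by decide +kernel

theorem chk_psi : (listM2.all fun t => memT simg t || !([3, 5].all fun a => Nat.blt (appQ t a) 16) ||
    dcOK t psiT || dcOK (compT t t) psiT) = true := by decide +kernel

theorem chk_simg_moves : (simg.all fun t => qList.all fun q => Nat.blt q 16 || !Nat.blt (appQ t q) 16)
    = true := by decide +kernel

theorem chk_rel : eqT (powT phiT 3) oneT = true ∧ eqT (powT psiT 3) oneT = true ∧
    eqT (compT (compT (compT (csT 1) phiT) (csT 1)) phiT) oneT = true ∧
    eqT (compT psiT phiT) (compT phiT psiT) = true ∧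
    eqT (compT psiT (csT 1)) (compT (csT 1) psiT) = true := by decide +kernel

theorem chk_pair : ((List.range 64).all fun u => !outInv u || (fixV (u / 16)).all fun p =>
    Nat.beq p 0 || Nat.beq p 15 || (List.range 3).any fun i => (List.range 64).any fun g =>
      Nat.beq (cjT g (appQ (actN 0 i 0) p)) u) = true := by decide +kernel

theorem chk_into : ((List.range 64).all fun u => !outInv u || (List.range 3).any fun i =>
    (List.range 64).any fun g => Nat.blt (cjT g (appQ (actN 0 i 0) u)) 16) = true := by decide +kernel

theorem chk_nine : ([1, 2].all fun i => (List.range 64).all fun g =>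
    !Nat.beq (cjT g (appQ (actN 0 i 0) 9)) 9) = true := by decide +kernel

theorem chk_outQ : ((List.range 64).all fun u => !outInv u || inQ u) = true := by decide +kernel

theorem chk_split : ((List.range 64).all fun g => inQ g ||
    (inQ (mulT g 1) && Nat.beq (mulT (mulT g 1) 1) g)) = true := by decide +kernel

end Cfsg.Agent.Lib.A8Type36.Loc
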