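import Cfsg.Agent.Lib.A8Type36.LocalCode
import Cfsg.Agent.Lib.A8Recog.Code
import Cfsg.Agent.Lib.PSp43Recog.Code

/-!
# Comparison of the normal forms with the two models

helper5 (S2918, step 3).
-/

set_option autoImplicit false
set_option maxRecDepth 100000
set_option Elab.async false

namespace Cfsg.Agent.Lib.A8Type36.Loc

/-- The normal form is valid. -/
def okN (five : Bool) (n : Nat) : Bool := inQ (n / 18) && (five || Nat.beq (n / 6 % 3) 0)

/-- The homomorphism test on a block of rows. -/
def homOK (n : Nat) (mul : Nat → Nat → Nat) (enc : Nat → Nat) (lo len : Nat) : Bool :=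
  (List.range len).all fun a => (List.range n).all fun b =>
    Nat.beq (enc (mul (lo + a) b)) (mulN (enc (lo + a)) (enc b))

/-- Validity, the kernel and surjectivity. -/
def bijOK (five : Bool) (n : Nat) (enc : Nat → Nat) : Bool :=
  Nat.beq (enc 0) 0 &&
  ((List.range n).all fun k => okN five (enc k) && (Nat.beq k 0 || Nat.beq (enc k) (mkN 15 0 0 0) ||
    !eqT (compT (csT (enc k / 18)) (actN (enc k / 6 % 3) (enc k / 2 % 3) (enc k % 2))) oneT)) &&
  ((List.range 1152).all fun m => !okN five m || (List.range n).any fun k => Nat.beq (enc k) m)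

theorem chk_hom1 : homOK 192 A8Recog.mulC enc1 0 192 = true := by decide +kernel

theorem chk_bij1 : bijOK false 192 enc1 = true := by decide +kernel

theorem chk_cancel1 : ((List.range 192).all fun a => (List.range 192).all fun b =>
    !Nat.beq (A8Recog.mulC a (A8Recog.invC b)) 0 || Nat.beq a b) = true := by decide +kernel

theorem chk_hom2a : homOK 576 PSp43Recog.mulC enc2 0 144 = true := by decide +kernel

theorem chk_hom2b : homOK 576 PSp43Recog.mulC enc2 144 144 = true := by decide +kernel

theorem chk_hom2c : homOK 576 PSp43Recog.mulC enc2 288 144 = true := by decide +kernel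

theorem chk_hom2d : homOK 576 PSp43Recog.mulC enc2 432 144 = true := by decide +kernel

theorem chk_bij2 : bijOK true 576 enc2 = true := by decide +kernel

theorem chk_cancel2 : ((List.range 576).all fun a => (List.range 576).all fun b =>
    !Nat.beq (PSp43Recog.mulC a (PSp43Recog.invC b)) 0 || Nat.beq a b) = true := by decide +kernel

end Cfsg.Agent.Lib.A8Type36.Loc
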