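import Cfsg.Agent.Lib.A8Type36.LocalAct
import Cfsg.Agent.Lib.A8Type36.LocalFinalChecks
import Cfsg.Agent.Lib.A8Type36.LocalModelChecks

/-!
# Generators and normal forms

helper5 (S2918, step 3).
-/

set_option autoImplicit false
set_option maxRecDepth 100000
set_option linter.style.haveILetI false

open Subgroup

namespace Cfsg.Agent.Lib.A8Type36.Loc

universe u

variable {X : Type u} [Group X] [Finite X] {N : Mdl X}

theorem okT_phi : okT phiT := by unfold okT phiT; norm_num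

theorem okT_psi : okT psiT := by unfold okT psiT; norm_num

theorem okT_cs1 : okT (csT 1) := by unfold okT; decide +kernel

/-- An element acting by a quadruple with trivial cube has a representative of order dividing three. -/
theorem exists_cube (C : Ctx N) {y : X} {t : T4} (hy : Acts N y t) (ht : okT t)
    (h3 : eqT (powT t 3) oneT = true) : ∃ y', Acts N y' t ∧ y' ^ 3 = 1 := by
  obtain ⟨a, -⟩ := acts_pow C hy ht 3
  rw [eqT_spec h3] at a
  rcases eq_of_acts C (acts_one C) a with e | e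
  · exact ⟨y, hy, e⟩
  · refine ⟨y * N.ι 15, fun q hq => ?_, ?_⟩
    · obtain ⟨h1, h2⟩ := hy q hq
      refine ⟨h1, ?_⟩
      rw [h2, show y * N.ι 15 * N.ι q * (y * N.ι 15)⁻¹ =
        y * (N.ι 15 * N.ι q * (N.ι 15)⁻¹) * y⁻¹ from by group, ← C.central (N.ι q), mul_inv_cancel_right]
    · have hc : Commute y (N.ι 15) := C.central y
      rw [hc.mul_pow, e, one_mul, show N.ι 15 ^ 3 = N.ι 15 * (N.ι 15 * N.ι 15) from by
        rw [pow_succ', pow_succ', pow_one], z_sq N, mul_one, z_sq N]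

/-- A quadruple in the double coset is realised. -/
theorem exists_of_dc (C : Ctx N) {x : X} {t r : T4} (hx : Acts N x t) (ht : okT t)
    (h : dcOK t r = true) : ∃ y, Acts N y r := by
  obtain ⟨a, ha, h⟩ := List.any_eq_true.1 h
  obtain ⟨b, hb, h⟩ := List.any_eq_true.1 h
  obtain ⟨g, hg, hge⟩ := anyR (allM chk_simg.2 ha)
  obtain ⟨k, hk, hke⟩ := anyR (allM chk_simg.2 hb)
  rw [eqT_spec hge, eqT_spec hke] at h
  obtain ⟨a1, o1⟩ := acts_mul C (acts_csT C hg) hx ht
  have hok : ∀ g < 64, okT (csT g) := by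
    intro g hg
    exact ⟨by simp only [csT]; rw [cjT_eq hg (by norm_num)]; exact cjS_lt hg (by norm_num),
      by simp only [csT]; rw [cjT_eq hg (by norm_num)]; exact cjS_lt hg (by norm_num),
      by simp only [csT]; rw [cjT_eq hg (by norm_num)]; exact cjS_lt hg (by norm_num),
      by simp only [csT]; rw [cjT_eq hg (by norm_num)]; exact cjS_lt hg (by norm_num)⟩
  obtain ⟨a2, -⟩ := acts_mul C a1 (acts_csT C hk) (hok k hk)
  rw [eqT_spec h] at a2
  exact ⟨_, a2⟩

/-- The generators of the normal forms. -/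
structure Gen (N : Mdl X) (five : Bool) (y w : X) : Prop where
  actY : Acts N y phiT
  y3 : y ^ 3 = 1
  inv : N.ι 1 * y = y ^ 2 * N.ι 1
  w3 : w ^ 3 = 1
  wy : Commute w y
  ws : Commute w (N.ι 1)
  actW : five = true → Acts N w psiT
  wone : five = false → w = 1

omit [Finite X] in
theorem z_ne_one : N.ι 15 ≠ 1 := fun h => by
  have := ι_eq_one N (by norm_num) h; simp at this

omit [Finite X] in
theorem cube_cancel (C : Ctx N) {a b : X} (ha : a ^ 3 = 1) (hb : b ^ 3 = 1) (e : a = b * N.ι 15) :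
    False := by
  have hc : Commute b (N.ι 15) := C.central b
  refine z_ne_one (N := N) ?_
  have : a ^ 3 = N.ι 15 := by
    rw [e, hc.mul_pow, hb, one_mul, show N.ι 15 ^ 3 = N.ι 15 * (N.ι 15 * N.ι 15) from by
      rw [pow_succ', pow_succ', pow_one], z_sq N, mul_one]
  rw [← this, ha]

omit [Finite X] in
theorem one_sq : N.ι 1 * N.ι 1 = 1 := by
  rw [← ι_mulT N (by norm_num) (by norm_num), show mulT 1 1 = 0 from by decide +kernel, ι_zero N]

theorem y_inv (C : Ctx N) {y : X} (hy : Acts N y phiT) (h3 : y ^ 3 = 1) :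
    N.ι 1 * y = y ^ 2 * N.ι 1 := by
  have hs : Acts N (N.ι 1) (csT 1) := acts_csT C (by norm_num)
  obtain ⟨a1, o1⟩ := acts_mul C hs hy okT_phi
  obtain ⟨a2, o2⟩ := acts_mul C a1 hs okT_cs1
  obtain ⟨a3, -⟩ := acts_mul C a2 hy okT_phi
  rw [eqT_spec chk_rel.2.2.1] at a3
  have hsi : (N.ι 1)⁻¹ = N.ι 1 := inv_eq_of_mul_eq_one_right one_sq
  have hc3 : (N.ι 1 * y * N.ι 1) ^ 3 = 1 := by
    have h := conj_pow (i := 3) (a := N.ι 1) (b := y)
    rw [hsi] at h
    rw [h, h3, mul_one, one_sq]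
  have hy2 : (y ^ 2) ^ 3 = 1 := by rw [← pow_mul, show 2 * 3 = 3 * 2 from rfl, pow_mul, h3, one_pow]
  have hy2i : y⁻¹ = y ^ 2 := inv_eq_of_mul_eq_one_right (by rw [← pow_succ']; exact h3)
  rcases eq_of_acts C (acts_one C) a3 with e | e
  · have : N.ι 1 * y * N.ι 1 = y ^ 2 := by rw [← hy2i]; exact eq_inv_of_mul_eq_one_left e
    rw [← this, mul_assoc, one_sq, mul_one]
  · exfalso
    refine cube_cancel C hc3 hy2 ?_
    rw [← hy2i, C.central y⁻¹, ← one_mul (N.ι 15), ← e, mul_inv_cancel_right]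

theorem comm_of_acts (C : Ctx N) {w g : X} {t s : T4} (hw : Acts N w t) (hg : Acts N g s) (ht : okT t)
    (hs : okT s) (he : eqT (compT t s) (compT s t) = true) (h3 : w ^ 3 = 1) : Commute w g := by
  obtain ⟨a1, -⟩ := acts_mul C hw hg hs
  obtain ⟨a2, -⟩ := acts_mul C hg hw ht
  rw [eqT_spec he] at a1
  rcases eq_of_acts C a2 a1 with e | e
  · exact e
  · exfalso
    refine cube_cancel C (a := g⁻¹ * w * g) (b := w) ?_ h3 ?_
    · have h := conj_pow (i := 3) (a := g⁻¹) (b := w)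
      rw [inv_inv] at h
      rw [h, h3, mul_one, inv_mul_cancel]
    · rw [mul_assoc, e]; group

/-- The element with a normal form. -/
def el (N : Mdl X) (y w : X) (n : ℕ) : X :=
  N.ι (n / 18) * w ^ (n / 6 % 3) * y ^ (n / 2 % 3) * N.ι 1 ^ (n % 2)

omit [Finite X] in
theorem el_mk (y w : X) {q j i e : ℕ} (hj : j < 3) (hi : i < 3) (he : e < 2) :
    el N y w (mkN q j i e) = N.ι q * w ^ j * y ^ i * N.ι 1 ^ e := by
  unfold el mkN
  rw [show (((q * 3 + j) * 3 + i) * 2 + e) / 18 = q from by omega,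
    show (((q * 3 + j) * 3 + i) * 2 + e) / 6 % 3 = j from by omega,
    show (((q * 3 + j) * 3 + i) * 2 + e) / 2 % 3 = i from by omega,
    show (((q * 3 + j) * 3 + i) * 2 + e) % 2 = e from by omega]

theorem mkN_dec {q j i e : ℕ} (hj : j < 3) (hi : i < 3) (he : e < 2) :
    mkN q j i e / 18 = q ∧ mkN q j i e / 6 % 3 = j := by
  unfold mkN; omega

variable {five : Bool} {y w : X}

theorem acts_form (C : Ctx N) (G : Gen N five y w) {j i e : ℕ} (hj : j < 3) (hi : i < 3) (he : e < 2)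
    (hj0 : five = true ∨ j = 0) : Acts N (w ^ j * y ^ i * N.ι 1 ^ e) (actN j i e) := by
  have hw : Acts N (w ^ j) (powT psiT j) ∧ okT (powT psiT j) := by
    rcases hj0 with h | h
    · exact acts_pow C (G.actW h) okT_psi j
    · subst h
      exact ⟨by rw [pow_zero]; exact acts_one C, by simp [powT, oneT, okT]⟩
  obtain ⟨a1, o1⟩ := acts_pow C G.actY okT_phi i
  obtain ⟨a2, o2⟩ := acts_pow C (acts_csT C (show 1 < 64 by norm_num)) okT_cs1 e
  obtain ⟨a3, -⟩ := acts_mul C (acts_mul C hw.1 a1 o1).1 a2 o2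
  rwa [eqT_spec (allR (allR (allR chk_act hj) hi) he)]

omit [Finite X] in
theorem pow_three {g : X} (h : g ^ 3 = 1) (n : ℕ) : g ^ (n % 3) = g ^ n := by
  conv_rhs => rw [← Nat.mod_add_div n 3, pow_add, pow_mul, h, one_pow, mul_one]

omit [Finite X] in
theorem pow_two' (n : ℕ) : N.ι 1 ^ (n % 2) = N.ι 1 ^ n := by
  conv_rhs => rw [← Nat.mod_add_div n 2, pow_add, pow_mul, pow_two, one_sq, one_pow, mul_one]

theorem el_mul (C : Ctx N) (G : Gen N five y w) {a b : ℕ} (ha : okN five a = true) (hb : okN five b = true) :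
    okN five (mulN a b) = true ∧ el N y w (mulN a b) = el N y w a * el N y w b := by
  simp only [okN, Bool.and_eq_true, Bool.or_eq_true] at ha hb
  have hj0 : five = true ∨ a / 6 % 3 = 0 := ha.2.imp_right Nat.eq_of_beq_eq_true
  have hlt := fun n : ℕ => Nat.mod_lt n (show 3 > 0 by norm_num)
  have hlt2 := fun n : ℕ => Nat.mod_lt n (show 2 > 0 by norm_num)
  obtain ⟨h1, h2⟩ := acts_form C G (hlt (a / 6)) (hlt (a / 2)) (hlt2 a) hj0 (b / 18) hb.1
  constructor
  · simp only [okN, mulN, Bool.and_eq_true, Bool.or_eq_true]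
    obtain ⟨d1, d2⟩ := mkN_dec (q := mulT (a / 18) (appQ (actN (a / 6 % 3) (a / 2 % 3) (a % 2)) (b / 18)))
      (hlt (a / 6 % 3 + b / 6 % 3)) (hlt (a / 2 % 3 + (1 + a % 2) * (b / 2 % 3))) (hlt2 (a % 2 + b % 2))
    rw [d1, d2]
    refine ⟨inQ_mulT ha.1 h1, ?_⟩
    rcases hb.2 with h' | h'
    · exact Or.inl h'
    · exact hj0.imp_right fun h => by rw [h, Nat.eq_of_beq_eq_true h']; rfl
  · unfold mulN
    rw [el_mk y w (hlt _) (hlt _) (hlt2 _), ι_mulT N (inQ_lt ha.1) (inQ_lt h1), h2]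
    have hwy : ∀ m n : ℕ, Commute (w ^ m) (y ^ n) := fun m n => G.wy.pow_pow m n
    have hwsc : ∀ m n : ℕ, Commute (w ^ m) (N.ι 1 ^ n) := fun m n => G.ws.pow_pow m n
    have hsy : ∀ e n : ℕ, e < 2 → N.ι 1 ^ e * y ^ n = y ^ ((1 + e) * n) * N.ι 1 ^ e := by
      intro e n he
      rcases (by omega : e = 0 ∨ e = 1) with rfl | rfl
      · simp
      · rw [pow_one, pow_mul]
        exact (SemiconjBy.pow_right (show SemiconjBy (N.ι 1) y (y ^ (1 + 1)) from G.inv) n).eq
    unfold el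
    generalize a / 6 % 3 = j, b / 6 % 3 = j', a / 2 % 3 = i, b / 2 % 3 = i', b % 2 = e',
      N.ι (a / 18) = A, N.ι (b / 18) = B
    generalize he' : a % 2 = e
    have he : e < 2 := he' ▸ hlt2 a
    rw [pow_three G.w3, pow_three G.y3, pow_two', pow_add w, pow_add y, pow_add (N.ι 1)]
    calc A * (w ^ j * y ^ i * N.ι 1 ^ e * B * (w ^ j * y ^ i * N.ι 1 ^ e)⁻¹) * (w ^ j * w ^ j') *
          (y ^ i * y ^ ((1 + e) * i')) * (N.ι 1 ^ e * N.ι 1 ^ e')
        = A * (w ^ j * y ^ i * N.ι 1 ^ e * B * (w ^ j * y ^ i * N.ι 1 ^ e)⁻¹) * w ^ j *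
          (w ^ j' * y ^ i) * (y ^ ((1 + e) * i') * N.ι 1 ^ e) * N.ι 1 ^ e' := by group
      _ = A * w ^ j * y ^ i * N.ι 1 ^ e * B * (N.ι 1 ^ e)⁻¹ * w ^ j' * (N.ι 1 ^ e * y ^ i') *
          N.ι 1 ^ e' := by rw [(hwy j' i).eq, ← hsy e i' he]; group
      _ = A * w ^ j * y ^ i * N.ι 1 ^ e * B * ((N.ι 1 ^ e)⁻¹ * w ^ j') * (N.ι 1 ^ e * y ^ i') *
          N.ι 1 ^ e' := by group
      _ = _ := by
          rw [show (N.ι 1 ^ e)⁻¹ * w ^ j' = w ^ j' * (N.ι 1 ^ e)⁻¹ from (hwsc j' e).inv_right.eq.symm]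
          group

/-- The forms make a submonoid. -/
def forms (C : Ctx N) (G : Gen N five y w) : Submonoid X where
  carrier := {x | ∃ n, okN five n = true ∧ el N y w n = x}
  one_mem' := ⟨0, by simp [okN]; decide, by simp [el, ι_zero N]⟩
  mul_mem' := by
    rintro _ _ ⟨a, ha, rfl⟩ ⟨b, hb, rfl⟩
    exact ⟨mulN a b, (el_mul C G ha hb).1, (el_mul C G ha hb).2⟩

theorem ι_mem_forms (C : Ctx N) (G : Gen N five y w) {g : ℕ} (hg : g < 64) :
    N.ι g ∈ forms C G := by
  have hok : ∀ q e, inQ q = true → e < 2 → okN five (mkN q 0 0 e) = true := by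
    intro q e hq he
    obtain ⟨d1, d2⟩ := mkN_dec (q := q) (show 0 < 3 by norm_num) (show 0 < 3 by norm_num) he
    simp only [okN, Bool.and_eq_true, Bool.or_eq_true, d1, d2]
    exact ⟨hq, Or.inr rfl⟩
  have h := allR chk_split hg
  simp only [Bool.or_eq_true, Bool.and_eq_true] at h
  rcases h with h | ⟨h, he⟩
  · refine ⟨mkN g 0 0 0, hok g 0 h (by norm_num), ?_⟩
    rw [el_mk y w (by norm_num) (by norm_num) (by norm_num)]; simp
  · refine ⟨mkN (mulT g 1) 0 0 1, hok _ 1 h (by norm_num), ?_⟩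
    rw [el_mk y w (by norm_num) (by norm_num) (by norm_num), pow_zero, pow_zero, pow_one, mul_one, mul_one,
      ← ι_mulT N (inQ_lt h) (by norm_num), Nat.eq_of_beq_eq_true he]

theorem wy_mem_forms (C : Ctx N) (G : Gen N five y w) {j i : ℕ} (hj : j < 3) (hi : i < 3)
    (hj0 : five = true ∨ j = 0) : w ^ j * y ^ i ∈ forms C G := by
  refine ⟨mkN 0 j i 0, ?_, ?_⟩
  · obtain ⟨d1, d2⟩ := mkN_dec (q := 0) hj hi (show 0 < 2 by norm_num)
    simp only [okN, Bool.and_eq_true, Bool.or_eq_true, d1, d2]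
    exact ⟨rfl, hj0.imp_right fun h => by subst h; rfl⟩
  · rw [el_mk y w hj hi (by norm_num), ι_zero N, one_mul, pow_zero, mul_one]

theorem mem_forms_of_acts (C : Ctx N) (G : Gen N five y w) {x : X} {g j i : ℕ} (hg : g < 64)
    (hj : j < 3) (hi : i < 3) (hj0 : five = true ∨ j = 0)
    (hx : Acts N x (compT (csT g) (compT (actN j 0 0) (actN 0 i 0)))) : x ∈ forms C G := by
  have ha := acts_form C G hj (show 0 < 3 by norm_num) (show 0 < 2 by norm_num) hj0
  have hb := acts_form C G (show 0 < 3 by norm_num) hi (show 0 < 2 by norm_num) (Or.inr rfl)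
  simp only [pow_zero, mul_one, one_mul] at ha hb
  have hob : okT (actN 0 i 0) := by
    rcases (by omega : i = 0 ∨ i = 1 ∨ i = 2) with rfl | rfl | rfl <;> (unfold okT; decide +kernel)
  obtain ⟨a1, o1⟩ := acts_mul C ha hb hob
  obtain ⟨a2, -⟩ := acts_mul C (acts_csT C hg) a1 o1
  rcases eq_of_acts C a2 hx with e | e <;> rw [e]
  · exact Submonoid.mul_mem _ (ι_mem_forms C G hg) (wy_mem_forms C G hj hi hj0)
  · exact Submonoid.mul_mem _ (Submonoid.mul_mem _ (ι_mem_forms C G hg) (wy_mem_forms C G hj hi hj0))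
      (ι_mem_forms C G (by norm_num))

/-- A table of normal forms gives a bijective homomorphism. -/
theorem model (C : Ctx N) (G : Gen N five y w) {n : ℕ} {mul : ℕ → ℕ → ℕ} {inv : ℕ → ℕ} {enc : ℕ → ℕ}
    (hlt : ∀ a < n, ∀ b < n, mul a b < n) (hinv : ∀ a < n, inv a < n ∧ mul a (inv a) = 0)
    (hhom : ∀ a < n, ∀ b < n, enc (mul a b) = mulN (enc a) (enc b))
    (hbij : bijOK five n enc = true) (hcan : ∀ a < n, ∀ b < n, mul a (inv b) = 0 → a = b)
    (hall : ∀ x : X, x ∈ forms C G) :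
    ∃ c : ℕ → X, (∀ a < n, ∀ b < n, c (mul a b) = c a * c b) ∧ Set.BijOn c (Set.Iio n) Set.univ := by
  simp only [bijOK, Bool.and_eq_true] at hbij
  obtain ⟨⟨h0, hk⟩, hs⟩ := hbij
  have hok : ∀ a < n, okN five (enc a) = true := fun a ha => by
    have := allR hk ha; simp only [Bool.and_eq_true] at this; exact this.1
  let c : ℕ → X := fun k => el N y w (enc k)
  have hm : ∀ a < n, ∀ b < n, c (mul a b) = c a * c b := fun a ha b hb => by
    show el N y w (enc (mul a b)) = _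
    rw [hhom a ha b hb, (el_mul C G (hok a ha) (hok b hb)).2]
  refine ⟨c, hm, fun _ _ => Set.mem_univ _, ?_, ?_⟩
  · intro a ha b hb he
    obtain ⟨hib, hib'⟩ := hinv b hb
    have hc0 : c 0 = 1 := by simp [c, el, Nat.eq_of_beq_eq_true h0, ι_zero N]
    have h1 : c (mul a (inv b)) = 1 := by
      rw [hm a ha _ hib, he, ← hm b hb _ hib, hib', hc0]
    have hkl := hlt a ha _ hib
    refine hcan a ha b hb ?_
    have h := allR hk hkl
    simp only [Bool.and_eq_true, Bool.or_eq_true] at h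
    obtain ⟨hok', hcase⟩ := h
    rcases hcase with (hh | hh) | hh
    · exact Nat.eq_of_beq_eq_true hh
    · exfalso
      simp only [c, Nat.eq_of_beq_eq_true hh] at h1
      rw [el_mk y w (by norm_num) (by norm_num) (by norm_num)] at h1
      simp only [pow_zero, mul_one] at h1
      exact z_ne_one (N := N) h1
    · exfalso
      simp only [c] at h1
      generalize enc (mul a (inv b)) = m at *
      simp only [okN, Bool.and_eq_true, Bool.or_eq_true] at hok'
      have hf := acts_form C G (Nat.mod_lt (m / 6) (by norm_num)) (Nat.mod_lt (m / 2) (by norm_num))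
        (Nat.mod_lt m (show 2 > 0 by norm_num)) (hok'.2.imp_right Nat.eq_of_beq_eq_true)
      have hob : okT (actN (m / 6 % 3) (m / 2 % 3) (m % 2)) := by
        have : ∀ j < 3, ∀ i < 3, ∀ e < 2, (actN j i e).a < 64 ∧ (actN j i e).b < 64 ∧
          (actN j i e).c < 64 ∧ (actN j i e).d < 64 := by decide +kernel
        exact this _ (Nat.mod_lt _ (by norm_num)) _ (Nat.mod_lt _ (by norm_num)) _
          (Nat.mod_lt _ (by norm_num))
      obtain ⟨a1, -⟩ := acts_mul C (acts_csT C (inQ_lt hok'.1)) hf hob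
      rw [← mul_assoc, ← mul_assoc] at a1
      change Acts N (el N y w m) _ at a1
      rw [show el N y w m = 1 from h1] at a1
      obtain ⟨u1, u2, u3, u4, v1, v2, v3, v4⟩ := a1.valid (by
        exact ⟨(acts_mul C (acts_csT C (inQ_lt hok'.1)) hf hob).2.1,
          (acts_mul C (acts_csT C (inQ_lt hok'.1)) hf hob).2.2.1,
          (acts_mul C (acts_csT C (inQ_lt hok'.1)) hf hob).2.2.2.1,
          (acts_mul C (acts_csT C (inQ_lt hok'.1)) hf hob).2.2.2.2⟩)
      simp only [one_mul, inv_one, mul_one] at v1 v2 v3 v4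
      have e1 := N.inj _ (inQ_lt u1) 16 (by norm_num) v1
      have e2 := N.inj _ (inQ_lt u2) 32 (by norm_num) v2
      have e3 := N.inj _ (inQ_lt u3) 3 (by norm_num) v3
      have e4 := N.inj _ (inQ_lt u4) 5 (by norm_num) v4
      simp [eqT, oneT, e1, e2, e3, e4] at hh
  · intro x _
    obtain ⟨m, hmok, rfl⟩ := hall x
    have hm' : m < 1152 := by
      simp only [okN, Bool.and_eq_true] at hmok
      have := inQ_lt hmok.1
      omega
    have h := allR hs hm'
    rw [hmok] at h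
    simp only [Bool.not_true, Bool.false_or] at h
    obtain ⟨k, hk', he⟩ := anyR h
    exact ⟨k, hk', congrArg (el N y w) (Nat.eq_of_beq_eq_true he)⟩

end Cfsg.Agent.Lib.A8Type36.Loc
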