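import Cfsg.Agent.Lib.A8Type36.OrbitDefs

/-!
# The computed classification of the orbit of the central involution on the base: weight one
-/

set_option autoImplicit false
set_option maxRecDepth 100000
set_option Elab.async false

namespace Cfsg.Agent.Lib.A8Type36

theorem chk_left1_part0 : ((List.range' 0 256).all fun k => (fun g =>
    !injL g || anyBad (letG g) words1 || left1.any fun h => Nat.beq g h) (candL 1 k)) = true := by
  decide +kernel

theorem chk_left1_part1 : ((List.range' 256 256).all fun k => (fun g =>
    !injL g || anyBad (letG g) words1 || left1.any fun h => Nat.beq g h) (candL 1 k)) = true := by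
  decide +kernel

theorem chk_left1_part2 : ((List.range' 512 256).all fun k => (fun g =>
    !injL g || anyBad (letG g) words1 || left1.any fun h => Nat.beq g h) (candL 1 k)) = true := by
  decide +kernel

theorem chk_left1_part3 : ((List.range' 768 256).all fun k => (fun g =>
    !injL g || anyBad (letG g) words1 || left1.any fun h => Nat.beq g h) (candL 1 k)) = true := by
  decide +kernel

theorem chk_left1_part4 : ((List.range' 1024 256).all fun k => (fun g =>
    !injL g || anyBad (letG g) words1 || left1.any fun h => Nat.beq g h) (candL 1 k)) = true := by
  decide +kernel

theorem chk_left1_part5 : ((List.range' 1280 256).all fun k => (fun g =>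
    !injL g || anyBad (letG g) words1 || left1.any fun h => Nat.beq g h) (candL 1 k)) = true := by
  decide +kernel

theorem chk_left1_part6 : ((List.range' 1536 256).all fun k => (fun g =>
    !injL g || anyBad (letG g) words1 || left1.any fun h => Nat.beq g h) (candL 1 k)) = true := by
  decide +kernel

theorem chk_left1_part7 : ((List.range' 1792 256).all fun k => (fun g =>
    !injL g || anyBad (letG g) words1 || left1.any fun h => Nat.beq g h) (candL 1 k)) = true := by
  decide +kernel

theorem chk_left1_part8 : ((List.range' 2048 256).all fun k => (fun g =>
    !injL g || anyBad (letG g) words1 || left1.any fun h => Nat.beq g h) (candL 1 k)) = true := by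
  decide +kernel

theorem chk_left1_part9 : ((List.range' 2304 256).all fun k => (fun g =>
    !injL g || anyBad (letG g) words1 || left1.any fun h => Nat.beq g h) (candL 1 k)) = true := by
  decide +kernel

theorem chk_left1_part10 : ((List.range' 2560 256).all fun k => (fun g =>
    !injL g || anyBad (letG g) words1 || left1.any fun h => Nat.beq g h) (candL 1 k)) = true := by
  decide +kernel

theorem chk_left1_part11 : ((List.range' 2816 256).all fun k => (fun g =>
    !injL g || anyBad (letG g) words1 || left1.any fun h => Nat.beq g h) (candL 1 k)) = true := by
  decide +kernel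

theorem chk_left1_part12 : ((List.range' 3072 256).all fun k => (fun g =>
    !injL g || anyBad (letG g) words1 || left1.any fun h => Nat.beq g h) (candL 1 k)) = true := by
  decide +kernel

theorem chk_left1_part13 : ((List.range' 3328 256).all fun k => (fun g =>
    !injL g || anyBad (letG g) words1 || left1.any fun h => Nat.beq g h) (candL 1 k)) = true := by
  decide +kernel

theorem chk_left1_part14 : ((List.range' 3584 256).all fun k => (fun g =>
    !injL g || anyBad (letG g) words1 || left1.any fun h => Nat.beq g h) (candL 1 k)) = true := by
  decide +kernel

theorem chk_left1_part15 : ((List.range' 3840 256).all fun k => (fun g =>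
    !injL g || anyBad (letG g) words1 || left1.any fun h => Nat.beq g h) (candL 1 k)) = true := by
  decide +kernel

theorem chk_left1 : ((List.range 4096).all fun k => (fun g =>
    !injL g || anyBad (letG g) words1 || left1.any fun h => Nat.beq g h) (candL 1 k)) = true := by
  refine List.all_eq_true.2 fun k hk => ?_
  have hk' := List.mem_range.1 hk
  have h : k / 256 < 16 := by omega
  have hm : k ∈ List.range' (256 * (k / 256)) 256 := List.mem_range'_1.2 ⟨by omega, by omega⟩
  interval_cases hq : k / 256
  · exact List.all_eq_true.1 chk_left1_part0 k hm
  · exact List.all_eq_true.1 chk_left1_part1 k hm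
  · exact List.all_eq_true.1 chk_left1_part2 k hm
  · exact List.all_eq_true.1 chk_left1_part3 k hm
  · exact List.all_eq_true.1 chk_left1_part4 k hm
  · exact List.all_eq_true.1 chk_left1_part5 k hm
  · exact List.all_eq_true.1 chk_left1_part6 k hm
  · exact List.all_eq_true.1 chk_left1_part7 k hm
  · exact List.all_eq_true.1 chk_left1_part8 k hm
  · exact List.all_eq_true.1 chk_left1_part9 k hm
  · exact List.all_eq_true.1 chk_left1_part10 k hm
  · exact List.all_eq_true.1 chk_left1_part11 k hm
  · exact List.all_eq_true.1 chk_left1_part12 k hm
  · exact List.all_eq_true.1 chk_left1_part13 k hm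
  · exact List.all_eq_true.1 chk_left1_part14 k hm
  · exact List.all_eq_true.1 chk_left1_part15 k hm

end Cfsg.Agent.Lib.A8Type36
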