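import Cfsg.Agent.Lib.A8Type36.OrbitDefs

/-!
# The computed classification of the orbit of the central involution on the base: the remaining cases
-/

set_option autoImplicit false
set_option maxRecDepth 100000
set_option Elab.async false

namespace Cfsg.Agent.Lib.A8Type36

theorem chk_both : (left1.all fun g => left7.all fun h => anyBad (letGH g h)
    [[0, 1], [0, 2, 1], [0, 3, 1], [0, 4, 1], [0, 1, 2], [0, 2, 1, 2], [0, 3, 1, 2], [0, 4, 1, 2]]) = true := by
  decide +kernel

theorem chk_threePairs : ((List.range 4096).all fun k => (fun g =>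
    !injL g || !presL [15, 3, 12, 5, 10, 6, 9] g || anyBad (letG g) [[0, 1], [0, 0, 2], [0, 0, 3]])
      (candL 3 k)) = true := by
  decide +kernel

theorem chk_twoPairs : ([([15, 3, 12, 5, 10], 3), ([15, 3, 12, 6, 9], 3), ([15, 5, 10, 6, 9], 5)].all fun q =>
    (List.range 4096).all fun k => (fun g => !injL g || !presL q.1 g) (candL q.2 k)) = true := by
  decide +kernel

theorem chk_quadPairs : ([[15, 1, 2, 4, 8, 3, 12], [15, 1, 2, 4, 8, 5, 10], [15, 1, 2, 4, 8, 6, 9],
    [15, 1, 2, 4, 8, 3, 12, 5, 10, 6, 9]].all fun O =>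
    (List.range 4096).all fun k => (fun g => !injL g || !presL O g) (candL 1 k)) = true := by
  decide +kernel

theorem chk_five : ((List.range 4096).all fun k => (fun g =>
    !injL g || !presL [15, 1, 2, 4, 8] g ||
      [[0, 0, 1, 0], [0, 0, 2, 0], [0, 0, 3, 0], [0, 1, 0, 2, 0], [0, 1, 0, 3, 0],
        [0, 2, 0, 3, 0, 2]].any (goodW (letG g) [15])) (candL 1 k)) = true := by
  decide +kernel

theorem chk_nine : ((List.range 4096).all fun k => (fun g =>
    !injL g || !presL [15, 1, 2, 4, 8, 3, 12, 5, 10] g ||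
      [[1, 0], [2, 0], [1, 0, 1], [1, 0, 2]].any (goodW (letG g) [9, 14])) (candL 1 k)) = true := by
  decide +kernel

end Cfsg.Agent.Lib.A8Type36
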