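import Cfsg.Agent.Lib.A8Type36.Fusion
import Cfsg.Agent.Lib.A8Type36.OrbitCheckOne
import Cfsg.Agent.Lib.A8Type36.OrbitCheckThree
import Cfsg.Agent.Lib.A8Type36.OrbitCheckRest

/-!
# The three possible sets of fused elements of the base
-/

set_option autoImplicit false
set_option maxRecDepth 100000
set_option linter.style.haveILetI false

open Subgroup Cfsg

namespace Cfsg.Agent.Lib.A8Type36

universe u

/-- The fused elements of the base with one pair. -/
def threeA : List Nat := [15, 3, 12]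

/-- The fused elements of the base in the case of nine. -/
def nineA : List Nat := [15, 1, 2, 4, 8, 3, 12, 5, 10]

theorem all_range4096 {f : Nat → Bool} (h : (List.range 4096).all f = true) {x : Nat} (hx : x < 4096) :
    f x = true := List.all_eq_true.1 h x (List.mem_range.2 hx)

theorem cand_of_canon {g : Nat} (cg : canon g) : ∃ k < 4096, g = candL (app g 15) k := by
  refine ⟨col g 0 + 16 * col g 1 + 256 * col g 2, ?_, ?_⟩
  · have := col_lt g 0; have := col_lt g 1; have := col_lt g 2; omega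
  · have h0 := col_lt g 0; have h1 := col_lt g 1; have h2 := col_lt g 2
    have e0 : (col g 0 + 16 * col g 1 + 256 * col g 2) % 16 = col g 0 := by omega
    have e1 : (col g 0 + 16 * col g 1 + 256 * col g 2) / 16 % 16 = col g 1 := by omega
    have e2 : (col g 0 + 16 * col g 1 + 256 * col g 2) / 256 = col g 2 := by omega
    have e3 : Nat.xor (Nat.xor (app g 15) (col g 0)) (Nat.xor (col g 1) (col g 2)) = col g 3 := by
      have h15 : app g 15 = (col g 0 ^^^ col g 1) ^^^ (col g 2 ^^^ col g 3) := by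
        simp [app_eq, pick, Nat.testBit, Nat.shiftRight_eq_div_pow]
      rw [h15]
      show ((col g 0 ^^^ col g 1) ^^^ (col g 2 ^^^ col g 3) ^^^ col g 0) ^^^ (col g 1 ^^^ col g 2) = _
      apply Nat.eq_of_testBit_eq
      intro i
      simp only [Nat.testBit_xor]
      cases (col g 0).testBit i <;> cases (col g 1).testBit i <;> cases (col g 2).testBit i <;>
        cases (col g 3).testBit i <;> rfl
    rw [candL, e0, e1, e2, e3]
    exact cg

namespace Mdl

variable {G : Type u} [Group G] [Finite G] (M : Mdl G)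

/-- The fused elements of the base are exactly the listed ones. -/
def Pat (P : List Nat) : Prop := ∀ a < 16, (M.Fu a ↔ a ∈ P)

omit [Finite G] in
theorem not_fu_zero : ¬ M.Fu 0 := fun h => by
  obtain ⟨c, hc⟩ := isConj_iff.1 h
  rw [M.map_zero, conj_eq_one_iff] at hc
  exact M.ι_ne_one (x := 15) (by norm_num) (by norm_num) hc

omit [Finite G] in
theorem fu_app {n : G} {g a : ℕ} (hn : M.Acts n g) (ha : a < 16) : M.Fu (app g a) ↔ M.Fu a := by
  have : IsConj (M.ι a) (M.ι (app g a)) := isConj_iff.2 ⟨n, hn a ha⟩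
  exact ⟨fun h => h.trans this.symm, fun h => h.trans this⟩

theorem fu_sh {v a : ℕ} (hv : v < 4) (ha : a < 16) : M.Fu (sh v a) ↔ M.Fu a := by
  rw [← app_vL v hv a ha]; exact M.fu_app (M.acts_vL hv) ha

omit [Finite G] in
theorem exists_evW {L : List Nat} (hL : ∀ l ∈ L, ∃ n : G, M.Acts n l) (w : List Nat) :
    ∃ n : G, M.Acts n (evW L w) := by
  induction w with
  | nil => exact ⟨1, Acts.one M⟩
  | cons l w ih =>
    obtain ⟨n, hn⟩ := ih
    have hl : ∃ m : G, M.Acts m (L.getD l oneL) := by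
      by_cases h : l < L.length
      · rw [List.getD_eq_getElem _ _ h]; exact hL _ (List.getElem_mem h)
      · rw [List.getD_eq_default _ _ (by omega)]; exact ⟨1, Acts.one M⟩
    obtain ⟨m, hm⟩ := hl
    exact ⟨m * n, Acts.mul M hm hn⟩

theorem not_anyBad {L : List Nat} (hL : ∀ l ∈ L, ∃ n : G, M.Acts n l) (W : List (List Nat)) :
    anyBad L W = false := by
  rw [Bool.eq_false_iff]
  intro h
  obtain ⟨w, -, hw⟩ := List.any_eq_true.1 h
  obtain ⟨n, hn⟩ := M.exists_evW hL w
  rw [M.not_badL (M.mem_nA_of_acts hn) hn] at hw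
  simp at hw

theorem letG_acts {n : G} {g : ℕ} (hg : M.Acts n g) : ∀ l ∈ letG g, ∃ m : G, M.Acts m l := by
  intro l hl
  simp only [letG, List.mem_cons, List.not_mem_nil, or_false] at hl
  rcases hl with rfl | rfl | rfl | rfl
  · exact ⟨n, hg⟩
  · exact ⟨_, M.acts_vL (by norm_num)⟩
  · exact ⟨_, M.acts_vL (by norm_num)⟩
  · exact ⟨_, M.acts_vL (by norm_num)⟩

/-- A fused element is the image of the central involution under a candidate. -/
theorem exists_cand {x : ℕ} (hx : x < 16) (h : M.Fu x) :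
    ∃ n : G, ∃ k < 4096, M.Acts n (candL x k) ∧ injL (candL x k) = true := by
  obtain ⟨n, g, cg, hg, hi, e⟩ := M.exists_code (a := 15) (by norm_num) hx h
  obtain ⟨k, hk, ek⟩ := cand_of_canon cg
  rw [e] at ek
  exact ⟨n, k, hk, ek ▸ hg, ek ▸ hi⟩

theorem presL_of_pat {O : List Nat} (hO : ∀ a ∈ O, a < 16) (hP : M.Pat O) {n : G} {g : ℕ}
    (hg : M.Acts n g) : presL O g = true := by
  refine List.all_eq_true.2 fun a ha => List.any_eq_true.2 ⟨app g a, ?_, by simp⟩
  exact (hP _ (app_lt g a)).1 ((M.fu_app hg (hO a ha)).2 ((hP a (hO a ha)).2 ha))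

theorem not_one_seven : ¬ (M.Fu 1 ∧ M.Fu 7) := by
  rintro ⟨h1, h7⟩
  obtain ⟨n, k, hk, hn, hi⟩ := M.exists_cand (by norm_num) h1
  obtain ⟨m, l, hl, hm, hj⟩ := M.exists_cand (by norm_num) h7
  have c1 := all_range4096 chk_left1 hk
  have c7 := all_range4096 chk_left7 hl
  simp only [hi, M.not_anyBad (M.letG_acts hn), Bool.not_true, Bool.false_or] at c1
  simp only [hj, M.not_anyBad (M.letG_acts hm), Bool.not_true, Bool.false_or] at c7
  obtain ⟨g, hg, eg⟩ := List.any_eq_true.1 c1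
  obtain ⟨h, hh, eh⟩ := List.any_eq_true.1 c7
  rw [← Nat.eq_of_beq_eq_true eg] at hg
  rw [← Nat.eq_of_beq_eq_true eh] at hh
  have c := List.all_eq_true.1 (List.all_eq_true.1 chk_both _ hg) _ hh
  rw [M.not_anyBad (fun l' hl' => ?_)] at c
  · simp at c
  simp only [letGH, List.mem_cons, List.not_mem_nil, or_false] at hl'
  rcases hl' with rfl | rfl | rfl | rfl | rfl
  · exact ⟨n, hn⟩
  · exact ⟨m, hm⟩
  · exact ⟨_, M.acts_vL (by norm_num)⟩
  · exact ⟨_, M.acts_vL (by norm_num)⟩
  · exact ⟨_, M.acts_vL (by norm_num)⟩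

omit [Finite G] in
theorem twist_fu {f : Nat → Nat} (hf : autOK f = true) (h15 : f 15 = 15) (x : ℕ) :
    (M.twist f hf).Fu x ↔ M.Fu (f x) := by
  show IsConj (M.ι (f 15)) (M.ι (f x)) ↔ _
  rw [h15]; rfl

/-- After renaming, one of the three sets. -/
theorem exists_pattern (hcore : oddCore G = ⊥) (hcore2 : pCore 2 G = ⊥) :
    ∃ M' : Mdl G, M'.S = M.S ∧ (M'.Pat threeA ∨ M'.Pat fiveL ∨ M'.Pat nineA) := by
  classical
  wlog h7 : ¬ M.Fu 7 generalizing M
  · obtain ⟨M', hS, h⟩ := this (M.twist flipW flipW_ok) fun h => by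
      rw [M.twist_fu flipW_ok (by decide), show flipW 7 = sh 3 1 from by decide,
        M.fu_sh (by norm_num) (by norm_num)] at h
      exact M.not_one_seven ⟨h, not_not.1 h7⟩
    exact ⟨M', hS, h⟩
  have hz : M.Fu 15 := IsConj.refl _
  have H : ∀ v < 4, ∀ a ∈ [1, 3, 5, 6, 7], (M.Fu (sh v a) ↔ M.Fu a) := fun v hv a ha =>
    M.fu_sh hv (by simp at ha; omega)
  have hall : ∀ a < 16, (M.Fu a ↔ a = 15 ∨ (a ∈ [1, 2, 4, 8] ∧ M.Fu 1) ∨ (a ∈ [3, 12] ∧ M.Fu 3) ∨
      (a ∈ [5, 10] ∧ M.Fu 5) ∨ (a ∈ [6, 9] ∧ M.Fu 6)) := by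
    intro a ha
    have e1 := H 1 (by norm_num) 1 (by norm_num)
    have e2 := H 2 (by norm_num) 1 (by norm_num)
    have e3 := H 3 (by norm_num) 1 (by norm_num)
    have f1 := H 1 (by norm_num) 7 (by norm_num)
    have f2 := H 2 (by norm_num) 7 (by norm_num)
    have f3 := H 3 (by norm_num) 7 (by norm_num)
    have g1 := H 2 (by norm_num) 3 (by norm_num)
    have g2 := H 1 (by norm_num) 5 (by norm_num)
    have g3 := H 1 (by norm_num) 6 (by norm_num)
    simp only [show sh 1 1 = 2 from by decide, show sh 2 1 = 4 from by decide,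
      show sh 3 1 = 8 from by decide, show sh 1 7 = 11 from by decide, show sh 2 7 = 13 from by decide,
      show sh 3 7 = 14 from by decide, show sh 2 3 = 12 from by decide, show sh 1 5 = 10 from by decide,
      show sh 1 6 = 9 from by decide] at e1 e2 e3 f1 f2 f3 g1 g2 g3
    interval_cases a <;> simp_all [M.not_fu_zero]
  have pat : ∀ O : List Nat, (∀ a < 16, (a ∈ O ↔ a = 15 ∨ (a ∈ [1, 2, 4, 8] ∧ M.Fu 1) ∨
      (a ∈ [3, 12] ∧ M.Fu 3) ∨ (a ∈ [5, 10] ∧ M.Fu 5) ∨ (a ∈ [6, 9] ∧ M.Fu 6))) → M.Pat O :=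
    fun O h a ha => (hall a ha).trans (h a ha).symm
  have bad : ∀ O : List Nat, (∀ a ∈ O, a < 16) → M.Pat O → ∀ x < 16, M.Fu x →
      ((List.range 4096).all fun k => (fun g => !injL g || !presL O g) (candL x k)) = true → False := by
    intro O hO hP x hx hfx hc
    obtain ⟨n, k, hk, hn, hi⟩ := M.exists_cand hx hfx
    have c := all_range4096 hc hk
    simp only [hi, M.presL_of_pat hO hP hn, Bool.not_true, Bool.or_self, Bool.false_eq_true] at c
  by_cases d : M.Fu 1 <;> by_cases q1 : M.Fu 3 <;> by_cases q2 : M.Fu 5 <;> by_cases q3 : M.Fu 6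
  · exact (bad _ (by decide) (pat [15, 1, 2, 4, 8, 3, 12, 5, 10, 6, 9] (by
      intro a ha; interval_cases a <;> simp [d, q1, q2, q3])) 1 (by norm_num) d
      (List.all_eq_true.1 chk_quadPairs _ (by simp))).elim
  · exact ⟨M, rfl, Or.inr (Or.inr (pat nineA (by
      intro a ha; interval_cases a <;> simp [nineA, d, q1, q2, q3])))⟩
  · have hP := pat [15, 1, 2, 4, 8, 3, 12, 6, 9] (by
      intro a ha; interval_cases a <;> simp [d, q1, q2, q3])
    refine ⟨M.twist (swapS 2 3) swapS_ok23, rfl, Or.inr (Or.inr fun a ha => ?_)⟩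
    rw [M.twist_fu swapS_ok23 (by decide)]
    have hlt : swapS 2 3 a < 16 := (show ∀ a < 16, swapS 2 3 a < 16 by decide) a ha
    rw [hP _ hlt]
    exact (show ∀ a < 16, (swapS 2 3 a ∈ [15, 1, 2, 4, 8, 3, 12, 6, 9] ↔ a ∈ nineA) by decide) a ha
  · exact (bad _ (by decide) (pat [15, 1, 2, 4, 8, 3, 12] (by
      intro a ha; interval_cases a <;> simp [d, q1, q2, q3])) 1 (by norm_num) d
      (List.all_eq_true.1 chk_quadPairs _ (by simp))).elim
  · have hP := pat [15, 1, 2, 4, 8, 5, 10, 6, 9] (by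
      intro a ha; interval_cases a <;> simp [d, q1, q2, q3])
    refine ⟨M.twist (swapS 1 3) swapS_ok13, rfl, Or.inr (Or.inr fun a ha => ?_)⟩
    rw [M.twist_fu swapS_ok13 (by decide)]
    have hlt : swapS 1 3 a < 16 := (show ∀ a < 16, swapS 1 3 a < 16 by decide) a ha
    rw [hP _ hlt]
    exact (show ∀ a < 16, (swapS 1 3 a ∈ [15, 1, 2, 4, 8, 5, 10, 6, 9] ↔ a ∈ nineA) by decide) a ha
  · exact (bad _ (by decide) (pat [15, 1, 2, 4, 8, 5, 10] (by
      intro a ha; interval_cases a <;> simp [d, q1, q2, q3])) 1 (by norm_num) d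
      (List.all_eq_true.1 chk_quadPairs _ (by simp))).elim
  · exact (bad _ (by decide) (pat [15, 1, 2, 4, 8, 6, 9] (by
      intro a ha; interval_cases a <;> simp [d, q1, q2, q3])) 1 (by norm_num) d
      (List.all_eq_true.1 chk_quadPairs _ (by simp))).elim
  · exact ⟨M, rfl, Or.inr (Or.inl (pat fiveL (by
      intro a ha; interval_cases a <;> simp [fiveL, d, q1, q2, q3])))⟩
  · have hP := pat [15, 3, 12, 5, 10, 6, 9] (by
      intro a ha; interval_cases a <;> simp [d, q1, q2, q3])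
    obtain ⟨n, k, hk, hn, hi⟩ := M.exists_cand (x := 3) (by norm_num) q1
    have c := all_range4096 chk_threePairs hk
    simp [hi, M.presL_of_pat (by decide) hP hn, M.not_anyBad (M.letG_acts hn)] at c
  · exact (bad _ (by decide) (pat [15, 3, 12, 5, 10] (by
      intro a ha; interval_cases a <;> simp [d, q1, q2, q3])) 3 (by norm_num) q1
      (List.all_eq_true.1 chk_twoPairs ([15, 3, 12, 5, 10], 3) (by simp))).elim
  · exact (bad _ (by decide) (pat [15, 3, 12, 6, 9] (by
      intro a ha; interval_cases a <;> simp [d, q1, q2, q3])) 3 (by norm_num) q1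
      (List.all_eq_true.1 chk_twoPairs ([15, 3, 12, 6, 9], 3) (by simp))).elim
  · exact ⟨M, rfl, Or.inl (pat threeA (by
      intro a ha; interval_cases a <;> simp [threeA, d, q1, q2, q3]))⟩
  · exact (bad _ (by decide) (pat [15, 5, 10, 6, 9] (by
      intro a ha; interval_cases a <;> simp [d, q1, q2, q3])) 5 (by norm_num) q2
      (List.all_eq_true.1 chk_twoPairs ([15, 5, 10, 6, 9], 5) (by simp))).elim
  · have hP := pat [15, 5, 10] (by
      intro a ha; interval_cases a <;> simp [d, q1, q2, q3])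
    refine ⟨M.twist (swapS 1 2) swapS_ok12, rfl, Or.inl fun a ha => ?_⟩
    rw [M.twist_fu swapS_ok12 (by decide)]
    have hlt : swapS 1 2 a < 16 := (show ∀ a < 16, swapS 1 2 a < 16 by decide) a ha
    rw [hP _ hlt]
    exact (show ∀ a < 16, (swapS 1 2 a ∈ [15, 5, 10] ↔ a ∈ threeA) by decide) a ha
  · have hP := pat [15, 6, 9] (by
      intro a ha; interval_cases a <;> simp [d, q1, q2, q3])
    refine ⟨M.twist (swapS 1 3) swapS_ok13, rfl, Or.inl fun a ha => ?_⟩
    rw [M.twist_fu swapS_ok13 (by decide)]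
    have hlt : swapS 1 3 a < 16 := (show ∀ a < 16, swapS 1 3 a < 16 by decide) a ha
    rw [hP _ hlt]
    exact (show ∀ a < 16, (swapS 1 3 a ∈ [15, 6, 9] ↔ a ∈ threeA) by decide) a ha
  · exfalso
    obtain ⟨a, ha, -, h15, hf⟩ := M.exists_fused hcore hcore2
    have := (hall a ha).1 hf
    simp [d, q1, q2, q3, h15] at this

end Mdl

end Cfsg.Agent.Lib.A8Type36
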