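import Cfsg.Agent.Lib.A8Type36.OrbitDefs

/-!
# The unfused elements of the base form one orbit
-/

set_option autoImplicit false
set_option maxRecDepth 100000
set_option Elab.async false

namespace Cfsg.Agent.Lib.A8Type36

/-- Some word maps the one element to the other. -/
def mapsTo (L : List Nat) (a b : Nat) (W : List (List Nat)) : Bool := W.any fun w => Nat.beq (app (evW L w) a) b

theorem chk_other_five : ((List.range 4096).all fun k => (fun g =>
    !injL g || !presL [15, 1, 2, 4, 8] g || [5, 6, 7].all fun b => mapsTo (letG g) 3 b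
      [[0], [0, 0], [1, 0], [0, 2], [2, 0], [0, 0, 0], [0, 1, 0], [0, 2, 0], [0, 3, 0], [1, 0, 0], [0, 0, 1, 0],
        [0, 1, 0, 0], [0, 2, 0, 2], [0, 0, 2], [0, 0, 0, 0], [0, 0, 2, 0], [0, 0, 3, 0], [1, 0, 0, 0], [1, 0, 1, 0],
        [1, 0, 2, 0], [1, 0, 3, 0], [1, 0, 2], [2, 0, 0], [0, 0, 0, 1, 0], [0, 1, 0, 0, 0], [1, 0, 1, 0, 0]])
      (candL 1 k)) = true := by
  decide +kernel

theorem chk_other_nine : ((List.range 4096).all fun k => (fun g =>
    !injL g || !presL [15, 1, 2, 4, 8, 3, 12, 5, 10] g || mapsTo (letG g) 9 7 [[0], [0, 0]])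
      (candL 1 k)) = true := by
  decide +kernel

end Cfsg.Agent.Lib.A8Type36
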