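import Cfsg.Agent.Lib.A8Type36.Orbit
import Cfsg.Agent.Lib.A8Type36.OrbitCheckOther

/-!
# The unfused class in the base and the element of order three fixing the central involution
-/

set_option autoImplicit false
set_option maxRecDepth 100000

open Subgroup Cfsg

namespace Cfsg.Agent.Lib.A8Type36

universe u

namespace Mdl

variable {G : Type u} [Group G] [Finite G] (M : Mdl G)

omit [Finite G] in
theorem conj_of_mapsTo {L : List Nat} (hL : ∀ l ∈ L, ∃ n : G, M.Acts n l) {a b : ℕ} (ha : a < 16)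
    {W : List (List Nat)} (h : mapsTo L a b W = true) : IsConj (M.ι a) (M.ι b) := by
  obtain ⟨w, -, hw⟩ := List.any_eq_true.1 h
  obtain ⟨n, hn⟩ := M.exists_evW hL w
  exact isConj_iff.2 ⟨n, by rw [hn a ha, Nat.eq_of_beq_eq_true hw]⟩

theorem conj_sh {v a : ℕ} (hv : v < 4) (ha : a < 16) : IsConj (M.ι a) (M.ι (sh v a)) :=
  isConj_iff.2 ⟨_, by rw [M.acts_vL hv a ha, app_vL v hv a ha]⟩

/-- In the case of five all unfused elements of the base are conjugate. -/
theorem other_five (hP : M.Pat fiveL) :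
    ∀ a < 16, a ≠ 0 → a ∉ fiveL → IsConj (M.ι 3) (M.ι a) := by
  obtain ⟨n, k, hk, hn, hi⟩ := M.exists_cand (x := 1) (by norm_num) ((hP 1 (by norm_num)).2 (by decide))
  have hp := M.presL_of_pat (O := fiveL) (by decide) hP hn
  have c := all_range4096 chk_other_five hk
  simp only [hi, show presL [15, 1, 2, 4, 8] (candL 1 k) = true from hp, Bool.not_true, Bool.false_or,
    List.all_cons, List.all_nil, Bool.and_true, Bool.and_eq_true] at c
  have h5 := M.conj_of_mapsTo (M.letG_acts hn) (by norm_num) c.1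
  have h6 := M.conj_of_mapsTo (M.letG_acts hn) (by norm_num) c.2.1
  have h7 := M.conj_of_mapsTo (M.letG_acts hn) (by norm_num) c.2.2
  have hs : ∀ {x : ℕ}, IsConj (M.ι 3) (M.ι x) → x < 16 → ∀ v < 4, IsConj (M.ι 3) (M.ι (sh v x)) :=
    fun h hx v hv => h.trans (M.conj_sh hv hx)
  intro a ha h0 hnot
  rcases (show ∀ a < 16, a ≠ 0 → a ∉ fiveL →
      ∃ v < 4, sh v 3 = a ∨ sh v 5 = a ∨ sh v 6 = a ∨ sh v 7 = a by decide) a ha h0 hnot with
    ⟨v, hv, rfl | rfl | rfl | rfl⟩
  · exact hs (IsConj.refl _) (by norm_num) v hv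
  · exact hs h5 (by norm_num) v hv
  · exact hs h6 (by norm_num) v hv
  · exact hs h7 (by norm_num) v hv

/-- In the case of nine all unfused elements of the base are conjugate. -/
theorem other_nine (hP : M.Pat nineA) :
    ∀ a < 16, a ≠ 0 → a ∉ nineA → IsConj (M.ι 9) (M.ι a) := by
  obtain ⟨n, k, hk, hn, hi⟩ := M.exists_cand (x := 1) (by norm_num) ((hP 1 (by norm_num)).2 (by decide))
  have hp := M.presL_of_pat (O := nineA) (by decide) hP hn
  have c := all_range4096 chk_other_nine hk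
  simp only [hi, show presL [15, 1, 2, 4, 8, 3, 12, 5, 10] (candL 1 k) = true from hp, Bool.not_true,
    Bool.false_or] at c
  have h7 := M.conj_of_mapsTo (M.letG_acts hn) (by norm_num) c
  intro a ha h0 hnot
  rcases (show ∀ a < 16, a ≠ 0 → a ∉ nineA → ∃ v < 4, sh v 9 = a ∨ sh v 7 = a by decide) a ha h0 hnot with
    ⟨v, hv, rfl | rfl⟩
  · exact M.conj_sh hv (by norm_num)
  · exact h7.trans (M.conj_sh hv (by norm_num))

/-- In the case of five an element of the centraliser acts with order three on the base. -/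
theorem sigma_five (hP : M.Pat fiveL) :
    ∃ n ∈ M.H, ∃ e, canon e ∧ M.Acts n e ∧ e ≠ oneL ∧ mulL e (mulL e e) = oneL ∧ app e 15 = 15 := by
  obtain ⟨n, k, hk, hn, hi⟩ := M.exists_cand (x := 1) (by norm_num) ((hP 1 (by norm_num)).2 (by decide))
  have hp := M.presL_of_pat (O := fiveL) (by decide) hP hn
  have c := all_range4096 chk_five hk
  simp only [hi, show presL [15, 1, 2, 4, 8] (candL 1 k) = true from hp, Bool.not_true, Bool.false_or] at c
  obtain ⟨w, hw, hg⟩ := List.any_eq_true.1 c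
  obtain ⟨m, hm⟩ := M.exists_evW (M.letG_acts hn) w
  simp only [goodW, M.not_badL (M.mem_nA_of_acts hm) hm, Bool.false_or, Bool.and_eq_true,
    Bool.not_eq_true', List.all_cons, List.all_nil, Bool.and_true] at hg
  obtain ⟨⟨h1, h3⟩, h15⟩ := hg
  refine ⟨m, ?_, _, ?_, hm, fun e => ?_, Nat.eq_of_beq_eq_true h3, Nat.eq_of_beq_eq_true h15⟩
  · refine mem_centralizer_singleton_iff.2 (mul_inv_eq_iff_eq_mul.1 ?_)
    show m * M.ι 15 * m⁻¹ = M.ι 15
    rw [hm 15 (by norm_num), Nat.eq_of_beq_eq_true h15]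
  · cases w with
    | nil => exact canon_oneL
    | cons l w => exact canon_mulL _ _
  · rw [e] at h1; simp at h1

end Mdl

end Cfsg.Agent.Lib.A8Type36
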