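import Cfsg.Agent.Lib.A8Type36.Local
import Cfsg.Agent.Lib.A8Type36.Orbit
import Cfsg.Agent.Lib.A8Type36.Other
import Cfsg.Agent.Lib.Involutions.Basic

/-!
# The centraliser modulo its odd core
-/

set_option autoImplicit false
set_option maxRecDepth 100000
set_option linter.style.haveILetI false

open Subgroup Cfsg

namespace Cfsg.Agent.Lib.A8Type36

universe u

variable {G : Type u} [Group G] [Finite G]

theorem eq_one_of_odd_two {N R : Subgroup G} (hN : (Nat.card ↥N).Coprime 2) (hR : IsPGroup 2 R)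
    {x : G} (hxN : x ∈ N) (hxR : x ∈ R) : x = 1 := by
  obtain ⟨j, hj⟩ := IsPGroup.iff_orderOf.1 hR ⟨x, hxR⟩
  rw [Subgroup.orderOf_mk] at hj
  exact orderOf_eq_one_iff.1 (Nat.eq_one_of_dvd_coprimes (hN.pow_right j)
    (Subgroup.orderOf_dvd_natCard N hxN) (dvd_of_eq hj))

namespace Mdl

variable (M : Mdl G)

/-- The canonical map. -/
abbrev toBar : ↥M.H →* ↥M.H ⧸ oddCore ↥M.H := QuotientGroup.mk' (oddCore ↥M.H)

/-- A code as an element of the centraliser. -/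
noncomputable def inH (x : ℕ) : ↥M.H :=
  if h : x < 64 then ⟨M.ι x, M.S_le_H (M.ι_mem h)⟩ else 1

theorem inH_val {x : ℕ} (hx : x < 64) : (M.inH x : G) = M.ι x := by rw [inH, dif_pos hx]

theorem inH_mul {x y : ℕ} (hx : x < 64) (hy : y < 64) : M.inH (mulS x y) = M.inH x * M.inH y :=
  Subtype.ext (by rw [Subgroup.coe_mul, M.inH_val (mulS_lt hx hy), M.inH_val hx, M.inH_val hy,
    M.map_mul x hx y hy])

theorem inH_inj {x y : ℕ} (hx : x < 64) (hy : y < 64) (h : M.toBar (M.inH x) = M.toBar (M.inH y)) :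
    x = y := by
  refine M.inj x hx y hy ?_
  rw [QuotientGroup.mk'_apply, QuotientGroup.mk'_apply, QuotientGroup.eq] at h
  have h1 : ((M.inH x)⁻¹ * M.inH y) = 1 := by
    refine eq_one_of_odd_two (R := (M.S : Subgroup G).subgroupOf M.H)
      (Cores.pPrimeCore_coprime 2) M.S.2.comap_subtype h ?_
    rw [Subgroup.mem_subgroupOf, Subgroup.coe_mul, Subgroup.coe_inv, M.inH_val hx, M.inH_val hy]
    exact mul_mem (inv_mem (M.ι_mem hx)) (M.ι_mem hy)
  rw [inv_mul_eq_one] at h1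
  rw [← M.inH_val hx, ← M.inH_val hy, h1]

/-- The model in the reduced centraliser. -/
noncomputable def bar : Mdl (↥M.H ⧸ oddCore ↥M.H) where
  ι x := M.toBar (M.inH x)
  map_mul x hx y hy := by rw [M.inH_mul hx hy, _root_.map_mul]
  inj x hx y hy h := M.inH_inj hx hy h
  S := (M.S.subtype M.S_le_H).mapSurjective (QuotientGroup.mk'_surjective _)
  mem g := by
    haveI : Fact (Nat.Prime 2) := ⟨Nat.prime_two⟩
    constructor
    · rintro ⟨y, hy, rfl⟩
      obtain ⟨x, hx, e⟩ := (M.mem _).1 (show (y : G) ∈ (M.S : Subgroup G) from hy)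
      exact ⟨x, hx, congrArg M.toBar (Subtype.ext ((M.inH_val hx).trans e))⟩
    · rintro ⟨x, hx, rfl⟩
      exact ⟨M.inH x, show (M.inH x : G) ∈ (M.S : Subgroup G) from by
        rw [M.inH_val hx]; exact M.ι_mem hx, rfl⟩

theorem bar_ι (x : ℕ) : M.bar.ι x = M.toBar (M.inH x) := rfl

theorem bar_conj {h : G} (hh : h ∈ M.H) {a b : ℕ} (ha : a < 64) (hb : b < 64)
    (e : h * M.ι a * h⁻¹ = M.ι b) : M.toBar ⟨h, hh⟩ * M.bar.ι a * (M.toBar ⟨h, hh⟩)⁻¹ = M.bar.ι b := by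
  rw [bar_ι, bar_ι, ← _root_.map_inv, ← _root_.map_mul, ← _root_.map_mul]
  refine congrArg M.toBar (Subtype.ext ?_)
  simp only [Subgroup.coe_mul, Subgroup.coe_inv, M.inH_val ha, M.inH_val hb, e]

/-- Conjugate involutions of the reduced centraliser come from conjugate involutions. -/
theorem lift_conj {x : ↥M.H ⧸ oddCore ↥M.H} {a b : ℕ} (ha : a < 64) (hb : b < 64)
    (haa : mulS a a = 0) (hbb : mulS b b = 0) (e : x * M.bar.ι a * x⁻¹ = M.bar.ι b) :
    ∃ h ∈ M.H, h * M.ι a * h⁻¹ = M.ι b := by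
  obtain ⟨k, rfl⟩ := QuotientGroup.mk'_surjective (oddCore ↥M.H) x
  set s := k * M.inH a * k⁻¹ with hs
  have hsq : ∀ c < 64, mulS c c = 0 → M.inH c * M.inH c = 1 := fun c hc h => Subtype.ext (by
    rw [Subgroup.coe_mul, M.inH_val hc, ← M.map_mul c hc c hc, h, M.map_zero, Subgroup.coe_one])
  have hss : s * s = 1 := by rw [hs, conj_mul, hsq a ha haa, mul_one, mul_inv_cancel]
  have hmem : s * M.inH b ∈ oddCore ↥M.H := by
    refine (QuotientGroup.eq_one_iff _).1 ?_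
    show M.toBar (s * M.inH b) = 1
    rw [_root_.map_mul, hs, _root_.map_mul, _root_.map_mul, _root_.map_inv,
      show M.toBar k * M.toBar (M.inH a) * (M.toBar k)⁻¹ = M.toBar (M.inH b) from e,
      ← _root_.map_mul, hsq b hb hbb, _root_.map_one]
  have hodd : Odd (orderOf (s * M.inH b)) :=
    (Nat.coprime_two_right.1 (Cores.pPrimeCore_coprime (G := ↥M.H) 2)).of_dvd_nat
      (Subgroup.orderOf_dvd_natCard _ hmem)
  obtain ⟨d, -, hd⟩ := Involutions.Basic.exists_conj_of_odd hss (hsq b hb hbb) hodd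
  refine ⟨((d * k : ↥M.H) : G), (d * k).2, ?_⟩
  have e2 : d * k * M.inH a * (d * k)⁻¹ = M.inH b := by rw [← hd, hs]; group
  have e3 := congrArg (fun y : ↥M.H => (y : G)) e2
  simpa only [Subgroup.coe_mul, Subgroup.coe_inv, M.inH_val ha, M.inH_val hb] using e3

theorem ctx (hsolv : Group.IsSolvable ↥M.H)
    (hmove : ∃ h ∈ M.H, ∃ u < 64, outInv u = true ∧ ∃ a < 16, h * M.ι u * h⁻¹ = M.ι a) :
    Loc.Ctx M.bar := by
  refine ⟨fun g => ?_, ?_, Cores.pPrimeCore_quotient_pPrimeCore 2, ?_⟩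
  · obtain ⟨k, rfl⟩ := QuotientGroup.mk'_surjective (oddCore ↥M.H) g
    rw [bar_ι, ← _root_.map_mul, ← _root_.map_mul]
    refine congrArg M.toBar (Subtype.ext ?_)
    rw [Subgroup.coe_mul, Subgroup.coe_mul, M.inH_val (by norm_num)]
    exact mem_centralizer_singleton_iff.1 k.2
  · haveI := hsolv
    exact Group.isSolvable_of_surjective (QuotientGroup.mk'_surjective (oddCore ↥M.H))
  · obtain ⟨h, hh, u, hu, ho, a, ha, e⟩ := hmove
    exact ⟨M.toBar ⟨h, hh⟩, u, a, hu, ho, ha, M.bar_conj hh hu (by omega) e⟩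

theorem bar_inv {P : List Nat} (hP : M.Pat P) : Loc.Inv M.bar P := by
  intro x a ha b hb e
  have hsq : ∀ c < 16, mulS c c = 0 := fun c hc => by rw [(fact_base c hc c hc).1]; exact Nat.xor_self c
  obtain ⟨h, -, he⟩ := M.lift_conj (by omega) (by omega) (hsq a ha) (hsq b hb) e
  have hc : IsConj (M.ι a) (M.ι b) := isConj_iff.2 ⟨h, he⟩
  rw [← hP a ha, ← hP b hb]
  exact ⟨fun f => f.trans hc, fun f => f.trans hc.symm⟩

/-- The centraliser is `O(H)` times the normaliser of `Q`. -/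
theorem frat_of_ctx (C : Loc.Ctx M.bar) :
    ∀ h ∈ M.H, ∃ o ∈ M.OH, ∃ n ∈ M.H, (∀ g, n * g * n⁻¹ ∈ M.Q ↔ g ∈ M.Q) ∧ h = o * n := by
  haveI : Fact (Nat.Prime 2) := ⟨Nat.prime_two⟩
  have hQS : M.Q ≤ (M.S : Subgroup G) := by
    rw [Mdl.Q, Subgroup.closure_le]
    rintro _ ⟨x, ⟨hx, -⟩, rfl⟩
    exact M.ι_mem hx
  set Qs : Subgroup ↥M.H := M.Q.subgroupOf M.H with hQs
  set O : Subgroup ↥M.H := oddCore ↥M.H with hO
  have hgen : ∀ x < 64, rad (x % 16) = true → M.inH x ∈ Qs := fun x hx hr => by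
    rw [hQs, Subgroup.mem_subgroupOf, M.inH_val hx, Mdl.Q]
    exact Subgroup.subset_closure ⟨x, ⟨hx, hr⟩, rfl⟩
  set R : Subgroup ↥M.H := Qs ⊔ O with hR
  have hstep : ∀ k : ↥M.H, ∀ q ∈ Qs, k * q * k⁻¹ ∈ R := by
    intro k
    have : M.Q ≤ (R.comap (MulAut.conj k).toMonoidHom).map M.H.subtype := by
      rw [Mdl.Q, Subgroup.closure_le]
      rintro _ ⟨x, ⟨hx, hr⟩, rfl⟩
      refine ⟨M.inH x, ?_, M.inH_val hx⟩
      show k * M.inH x * k⁻¹ ∈ R
      obtain ⟨b, hb, hbr, he⟩ := Loc.conj_mem_Q C (M.toBar k) hx hr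
      rw [bar_ι, bar_ι, ← _root_.map_inv, ← _root_.map_mul, ← _root_.map_mul,
        QuotientGroup.mk'_apply, QuotientGroup.mk'_apply, QuotientGroup.eq] at he
      rw [show k * M.inH x * k⁻¹ = M.inH b * ((k * M.inH x * k⁻¹)⁻¹ * M.inH b)⁻¹ by group]
      exact mul_mem (mem_sup_left (hgen b hb hbr)) (mem_sup_right (inv_mem he))
    intro q hq
    obtain ⟨q', hq', e⟩ := this hq
    rw [show q = q' from Subtype.ext e.symm]
    exact hq'
  haveI hRn : R.Normal := by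
    refine ⟨fun r hr k => ?_⟩
    have hle : R ≤ R.comap (MulAut.conj k).toMonoidHom :=
      sup_le (fun q hq => hstep k q hq) (fun o ho => mem_sup_right (Subgroup.Normal.conj_mem inferInstance o ho k))
    exact hle hr
  have hQ2 : IsPGroup 2 ↥(Qs.subgroupOf R) := ((M.S.2.to_le hQS).comap_subtype).comap_subtype
  have hidx : ¬ 2 ∣ (Qs.subgroupOf R).index := by
    intro h2
    have hd : Nat.card ↥R ∣ Nat.card ↥Qs * Nat.card ↥O := Cores.card_sup_dvd_mul Qs O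
    rw [← Subgroup.card_mul_index (Qs.subgroupOf R),
      Nat.card_congr (Subgroup.subgroupOfEquivOfLe (le_sup_left : Qs ≤ R)).toEquiv] at hd
    exact Nat.Prime.not_coprime_iff_dvd.2 ⟨2, Nat.prime_two,
      h2.trans (Nat.dvd_of_mul_dvd_mul_left Nat.card_pos hd), dvd_rfl⟩ (Cores.pPrimeCore_coprime 2)
  let T : Sylow 2 ↥R := hQ2.toSylow hidx
  have hfr := Sylow.normalizer_sup_eq_top T
  have hT : (T : Subgroup ↥R).map R.subtype = Qs := by
    rw [IsPGroup.toSylow_coe]; exact Subgroup.map_subgroupOf_eq_of_le le_sup_left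
  intro h hh
  have hk : (⟨h, hh⟩ : ↥M.H) ∈ O ⊔ normalizer (Qs : Set ↥M.H) := by
    have htop : normalizer (Qs : Set ↥M.H) ⊔ R = ⊤ := by rw [← hT]; exact hfr
    have hle : R ≤ O ⊔ normalizer (Qs : Set ↥M.H) :=
      sup_le (Subgroup.le_normalizer.trans le_sup_right) le_sup_left
    exact (htop ▸ sup_le le_sup_right hle : (⊤ : Subgroup ↥M.H) ≤ _) (Subgroup.mem_top _)
  obtain ⟨o, ho, n, hn, e⟩ := Subgroup.mem_sup_of_normal_left.1 hk
  refine ⟨o, ⟨o, ho, rfl⟩, n, n.2, fun g => ?_, (congrArg Subtype.val e).symm⟩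
  have hQH : M.Q ≤ M.H := hQS.trans M.S_le_H
  constructor
  · intro hg
    have hgH : g ∈ M.H := by
      have := mul_mem (mul_mem (inv_mem n.2) (hQH hg)) n.2
      rwa [show (n : G)⁻¹ * ((n : G) * g * (n : G)⁻¹) * n = g by group] at this
    exact (Subgroup.mem_normalizer_iff.1 hn ⟨g, hgH⟩).2 hg
  · intro hg
    exact (Subgroup.mem_normalizer_iff.1 hn ⟨g, hQH hg⟩).1 hg

end Mdl

end Cfsg.Agent.Lib.A8Type36
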