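import Cfsg.Agent.Lib.A8Type36.Interface
import Cfsg.Agent.Lib.A8Type36.Facts
import Cfsg.Agent.Lib.Involutions.StronglyEmbedded

/-!
# Two classes of involutions exclude a proper subgroup containing their centralisers

helper56 (S2918, for helper36).  `A` is the only elementary abelian subgroup of order 16 of the Sylow
subgroup, so its normaliser controls fusion in it; a subgroup containing this normaliser and the
centralisers of the involutions of `A` would be strongly embedded, which allows one class only.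
-/

set_option autoImplicit false
set_option linter.style.haveILetI false

open Subgroup Cfsg
open Cfsg.Agent.Lib.Involutions

namespace Cfsg.Agent.Lib.A8Type36

universe u

variable {G : Type u} [Group G]

/-- A subgroup controlling the fusion of the involutions of a subgroup which meets all its classes,
and containing their centralisers, is everything unless all involutions are conjugate. -/
theorem eq_top_of_two_classes [Finite G] {T A : Subgroup G} (hAT : A ≤ T)
    (hC : ∀ a ∈ A, orderOf a = 2 → centralizer ({a} : Set G) ≤ T)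
    (hmove : ∀ t ∈ T, orderOf t = 2 → ∃ k ∈ T, k * t * k⁻¹ ∈ A)
    (hfus : ∀ a ∈ A, ∀ b ∈ A, orderOf a = 2 → IsConj a b → ∃ k ∈ T, k * a * k⁻¹ = b)
    {s t : G} (hsA : s ∈ A) (hs : orderOf s = 2) (ht : orderOf t = 2) (hst : ¬ IsConj s t) :
    T = ⊤ := by
  by_contra hT
  have heven : Even (Nat.card T) := by
    refine even_iff_two_dvd.2 ?_
    have := T.orderOf_dvd_natCard (hAT hsA)
    rwa [hs] at this
  refine hst (StronglyEmbedded.isConj_involutions
    ((StronglyEmbedded.isStronglyEmbedded_iff_fusion hT heven).2 ⟨fun a haT ha => ?_, ?_⟩) hs ht)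
  · obtain ⟨k, hk, hka⟩ := hmove a haT ha
    intro x hx
    have h1 : k * x * k⁻¹ ∈ centralizer ({k * a * k⁻¹} : Set G) := by
      rw [mem_centralizer_singleton_iff] at hx ⊢
      calc k * x * k⁻¹ * (k * a * k⁻¹) = k * (x * a) * k⁻¹ := by group
        _ = k * (a * x) * k⁻¹ := by rw [hx]
        _ = _ := by group
    have h2 := hC _ hka ((Basic.orderOf_conj_eq k a).trans ha) h1
    have := mul_mem (mul_mem (inv_mem hk) h2) hk
    simpa [mul_assoc] using this
  · intro a haT b hbT ha hb hab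
    obtain ⟨k, hk, hka⟩ := hmove a haT ha
    obtain ⟨l, hl, hlb⟩ := hmove b hbT hb
    obtain ⟨m, hm, he⟩ := hfus _ hka _ hlb ((Basic.orderOf_conj_eq k a).trans ha)
      (((isConj_iff.2 ⟨k, rfl⟩).symm.trans hab).trans (isConj_iff.2 ⟨l, rfl⟩))
    refine ⟨l⁻¹ * m * k, mul_mem (mul_mem (inv_mem hl) hm) hk, ?_⟩
    calc l⁻¹ * m * k * a * (l⁻¹ * m * k)⁻¹ = l⁻¹ * (m * (k * a * k⁻¹) * m⁻¹) * l := by group
      _ = b := by rw [he]; group

namespace Mdl

variable (M : Mdl G)

theorem code_zero : M.ι 0 = 1 := by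
  have h := M.map_mul 0 (by norm_num) 0 (by norm_num)
  rw [show mulS 0 0 = 0 from by decide +kernel] at h
  exact mul_eq_left.1 h.symm

theorem code_base_mul {a b : ℕ} (ha : a < 16) (hb : b < 16) : M.ι a * M.ι b = M.ι (Nat.xor a b) := by
  rw [← M.map_mul a (by omega) b (by omega), (fact_base a ha b hb).1]

theorem code_eq_one {a : ℕ} (ha : a < 64) : M.ι a = 1 ↔ a = 0 :=
  ⟨fun h => M.inj a ha 0 (by norm_num) (h.trans M.code_zero.symm), fun h => h ▸ M.code_zero⟩

theorem mem_base_iff {g : G} : g ∈ M.A ↔ ∃ a < 16, M.ι a = g := by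
  refine ⟨fun hg => ?_, fun ⟨a, ha, e⟩ => subset_closure ⟨a, ha, e⟩⟩
  rw [Mdl.A] at hg
  induction hg using closure_induction with
  | mem x hx => obtain ⟨a, ha, e⟩ := hx; exact ⟨a, ha, e⟩
  | one => exact ⟨0, by norm_num, M.code_zero⟩
  | mul x y _ _ hx hy =>
    obtain ⟨a, ha, rfl⟩ := hx
    obtain ⟨b, hb, rfl⟩ := hy
    exact ⟨_, (fact_base a ha b hb).2, (M.code_base_mul ha hb).symm⟩
  | inv x _ hx =>
    obtain ⟨a, ha, rfl⟩ := hx
    refine ⟨a, ha, eq_inv_of_mul_eq_one_right ?_⟩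
    rw [M.code_base_mul ha ha, show Nat.xor a a = 0 from Nat.xor_self a, M.code_zero]

theorem code_mem_base {a : ℕ} (ha : a < 16) : M.ι a ∈ M.A := M.mem_base_iff.2 ⟨a, ha, rfl⟩

theorem code_mem_sylow {a : ℕ} (ha : a < 64) : M.ι a ∈ (M.S : Subgroup G) :=
  (M.mem _).2 ⟨a, ha, rfl⟩

theorem base_le_sylow : M.A ≤ (M.S : Subgroup G) := fun g hg => by
  obtain ⟨a, ha, rfl⟩ := M.mem_base_iff.1 hg
  exact M.code_mem_sylow (by omega)

theorem base_elementary : IsElementaryAbelian 2 M.A := by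
  refine ⟨⟨⟨fun x y => ?_⟩⟩, fun x hx => ?_⟩
  · obtain ⟨a, ha, e⟩ := M.mem_base_iff.1 x.2
    obtain ⟨b, hb, e'⟩ := M.mem_base_iff.1 y.2
    apply Subtype.ext
    rw [Subgroup.coe_mul, Subgroup.coe_mul, ← e, ← e', M.code_base_mul ha hb, M.code_base_mul hb ha]
    exact congrArg M.ι (Nat.xor_comm a b)
  · obtain ⟨a, ha, rfl⟩ := M.mem_base_iff.1 hx
    rw [pow_two, M.code_base_mul ha ha, show Nat.xor a a = 0 from Nat.xor_self a, M.code_zero]

theorem base_card : Nat.card ↥M.A = 16 := by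
  have : Function.Bijective (fun i : Fin 16 => (⟨M.ι i, M.code_mem_base i.2⟩ : ↥M.A)) := by
    refine ⟨fun i j e => Fin.ext (M.inj i (by omega) j (by omega) (congrArg Subtype.val e)), ?_⟩
    rintro ⟨g, hg⟩
    obtain ⟨a, ha, rfl⟩ := M.mem_base_iff.1 hg
    exact ⟨⟨a, ha⟩, rfl⟩
  rw [← Nat.card_congr (Equiv.ofBijective _ this), Nat.card_fin]

theorem orderOf_code {a : ℕ} (ha : a < 16) (ha0 : a ≠ 0) : orderOf (M.ι a) = 2 :=
  orderOf_eq_prime (M.base_elementary.2 _ (M.code_mem_base ha))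
    fun h => ha0 ((M.code_eq_one (by omega)).1 h)

/-- The base is the only elementary abelian subgroup of order 16 of the Sylow subgroup. -/
theorem eq_base {X : Subgroup G} (hX : IsElementaryAbelian 2 X) (hc : Nat.card ↥X = 16)
    (hle : X ≤ (M.S : Subgroup G)) : X = M.A := by
  classical
  have hXA : X ≤ M.A := by
    intro g hg
    obtain ⟨x, hx, rfl⟩ := (M.mem g).1 (hle hg)
    rcases Nat.lt_or_ge x 16 with h | h
    · exact M.code_mem_base h
    exfalso
    set L := (List.range 64).filter fun y => Nat.beq (mulS y y) 0 && comS x y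
    have hsub : (X : Set G) ⊆ M.ι '' {y | y ∈ L} := by
      intro k hk
      obtain ⟨y, hy, rfl⟩ := (M.mem k).1 (hle hk)
      refine ⟨y, List.mem_filter.2 ⟨List.mem_range.2 hy, ?_⟩, rfl⟩
      rw [Bool.and_eq_true]
      refine ⟨?_, ?_⟩
      · rw [M.inj _ (mulS_lt hy hy) 0 (by norm_num) (by
          rw [M.map_mul y hy y hy, M.code_zero, ← pow_two]; exact hX.2 _ hk)]
        rfl
      · rw [comS, M.inj _ (mulS_lt hx hy) _ (mulS_lt hy hx) (by
          rw [M.map_mul x hx y hy, M.map_mul y hy x hx]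
          exact congrArg Subtype.val (hX.1.is_comm.comm ⟨_, hg⟩ ⟨_, hk⟩))]
        exact Nat.beq_refl _
    have h1 := Set.ncard_le_ncard hsub ((L.finite_toSet).image _)
    have h2 := Set.ncard_image_le (f := M.ι) L.finite_toSet
    have h3 : ({y | y ∈ L} : Set ℕ).ncard ≤ L.length := by
      rw [← List.coe_toFinset L, Set.ncard_coe_finset]
      exact L.toFinset_card_le
    have h4 : L.length < 16 := fact_few x hx h
    have h5 : (X : Set G).ncard = 16 := hc
    omega
  have : Finite ↥M.A := Nat.finite_of_card_ne_zero (by rw [M.base_card]; norm_num)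
  exact eq_of_le_of_card_ge hXA (by rw [hc, M.base_card])

/-- The Sylow subgroup normalises the base. -/
theorem sylow_le_normalizer : (M.S : Subgroup G) ≤ normalizer (M.A : Set G) := by
  intro g hg
  obtain ⟨x, hx, rfl⟩ := (M.mem g).1 hg
  have key : ∀ x < 64, ∀ a ∈ M.A, M.ι x * a * (M.ι x)⁻¹ ∈ M.A := by
    intro x hx a ha
    obtain ⟨b, hb, rfl⟩ := M.mem_base_iff.1 ha
    obtain ⟨hlt, -⟩ := fact_normal x hx b hb
    refine M.mem_base_iff.2 ⟨cjS x b, hlt, ?_⟩
    have h1 : M.ι (invS x) = (M.ι x)⁻¹ := by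
      refine eq_inv_of_mul_eq_one_right ?_
      rw [← M.map_mul x hx _ (invS_lt hx), (show ∀ y < 64, mulS y (invS y) = 0 by decide +kernel) x hx,
        M.code_zero]
    rw [cjS, M.map_mul _ (mulS_lt hx (by omega)) _ (invS_lt hx), M.map_mul x hx b (by omega), h1]
  refine mem_normalizer_iff.2 fun a => ⟨key x hx a, fun h => ?_⟩
  obtain ⟨y, hy, hy'⟩ := (M.mem (M.ι x)⁻¹).1 (inv_mem (M.code_mem_sylow hx))
  have := key y hy _ h
  rw [hy'] at this
  simpa [mul_assoc] using this

theorem map_elementary (g : G) {X : Subgroup G} (hX : IsElementaryAbelian 2 X) :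
    IsElementaryAbelian 2 (X.map (MulAut.conj g).toMonoidHom) := by
  refine ⟨⟨⟨?_⟩⟩, ?_⟩
  · rintro ⟨_, a, ha, rfl⟩ ⟨_, b, hb, rfl⟩
    apply Subtype.ext
    show (MulAut.conj g).toMonoidHom a * (MulAut.conj g).toMonoidHom b = (MulAut.conj g).toMonoidHom b * (MulAut.conj g).toMonoidHom a
    rw [← _root_.map_mul, ← _root_.map_mul]
    exact congrArg (MulAut.conj g).toMonoidHom (congrArg Subtype.val (hX.1.is_comm.comm ⟨a, ha⟩ ⟨b, hb⟩))
  · rintro _ ⟨a, ha, rfl⟩
    rw [← map_pow, hX.2 a ha, _root_.map_one]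

/-- The normaliser of the base controls its fusion. -/
theorem fusion_base [Finite G] {a b : G} (ha : a ∈ M.A) (hb : b ∈ M.A) (hab : IsConj a b) :
    ∃ n ∈ normalizer (M.A : Set G), n * a * n⁻¹ = b := by
  haveI : Fact (Nat.Prime 2) := ⟨Nat.prime_two⟩
  obtain ⟨g, rfl⟩ := isConj_iff.1 hab
  set C := centralizer ({g * a * g⁻¹} : Set G)
  set A' := M.A.map (MulAut.conj g).toMonoidHom
  have hA' := map_elementary g M.base_elementary
  have hAC : M.A ≤ C := fun x hx => mem_centralizer_singleton_iff.2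
    (congrArg Subtype.val (M.base_elementary.1.is_comm.comm ⟨x, hx⟩ ⟨_, hb⟩))
  have hA'C : A' ≤ C := fun x hx => mem_centralizer_singleton_iff.2
    (congrArg Subtype.val (hA'.1.is_comm.comm ⟨x, hx⟩ ⟨_, a, ha, rfl⟩))
  have hp : IsPGroup 2 ↥M.A := IsPGroup.of_card (n := 4) (by rw [M.base_card]; norm_num)
  have hp' : IsPGroup 2 ↥A' := hp.map _
  obtain ⟨P₁, hP₁⟩ := (hp.comap_subtype (K := C)).exists_le_sylow
  obtain ⟨P₂, hP₂⟩ := (hp'.comap_subtype (K := C)).exists_le_sylow
  obtain ⟨c, hc⟩ := MulAction.exists_smul_eq ↥C P₂ P₁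
  -- both lie in one conjugate of the Sylow subgroup
  set R := (P₁ : Subgroup ↥C).map C.subtype with hR
  have h1 : M.A ≤ R := fun x hx => ⟨⟨x, hAC hx⟩, hP₁ hx, rfl⟩
  have h2 : M.A.map (MulAut.conj ((c : G) * g)).toMonoidHom ≤ R := by
    rintro _ ⟨x, hx, rfl⟩
    have hx' : g * x * g⁻¹ ∈ A' := ⟨x, hx, rfl⟩
    refine ⟨c * ⟨_, hA'C hx'⟩ * c⁻¹, ?_, ?_⟩
    · rw [← hc, Sylow.coe_subgroup_smul]
      exact smul_mem_pointwise_smul _ (MulAut.conj c) _ (hP₂ (show (⟨_, hA'C hx'⟩ : ↥C) ∈ A'.subgroupOf C from hx'))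
    · simp [mul_assoc]
  obtain ⟨Q, hQ⟩ := (P₁.2.map C.subtype).exists_le_sylow
  obtain ⟨k, hk⟩ := MulAction.exists_smul_eq G Q M.S
  have hinto : ∀ X : Subgroup G, IsElementaryAbelian 2 X → Nat.card ↥X = 16 → X ≤ R →
      X.map (MulAut.conj k).toMonoidHom = M.A := by
    intro X hX hXc hXR
    refine M.eq_base (map_elementary k hX) ?_ ?_
    · rw [card_map_of_injective (MulAut.conj k).injective, hXc]
    · rw [← hk, Sylow.coe_subgroup_smul]
      rintro _ ⟨x, hx, rfl⟩
      exact smul_mem_pointwise_smul _ (MulAut.conj k) _ (hQ (hXR hx))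
  have hcard : Nat.card ↥(M.A.map (MulAut.conj ((c : G) * g)).toMonoidHom) = 16 := by
    rw [card_map_of_injective (MulAut.conj _).injective, M.base_card]
  have e := (hinto _ (map_elementary _ M.base_elementary) hcard h2).trans
    (hinto _ M.base_elementary M.base_card h1).symm
  have e' := Subgroup.map_injective (MulAut.conj k).injective e
  refine ⟨(c : G) * g, mem_normalizer_iff_map_conj_eq.2 e', ?_⟩
  have hcc := mem_centralizer_singleton_iff.1 c.2
  calc (c : G) * g * a * ((c : G) * g)⁻¹ = (c : G) * (g * a * g⁻¹) * (c : G)⁻¹ := by group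
    _ = g * a * g⁻¹ := by rw [hcc]; group

end Mdl

/-- A subgroup containing `N(A)` and the centralisers of the involutions of `A` is the whole group,
when two involutions of the base are not conjugate. -/
theorem Base.eq_top_of_centralizers [Finite G] {M : Mdl G} (h : Base M) {T : Subgroup G}
    (hN : normalizer (M.A : Set G) ≤ T)
    (hC : ∀ a < 16, a ≠ 0 → centralizer ({M.ι a} : Set G) ≤ T)
    {a b : ℕ} (ha : a < 16) (ha0 : a ≠ 0) (hb : b < 16) (hb0 : b ≠ 0)
    (hab : ¬ IsConj (M.ι a) (M.ι b)) : T = ⊤ := by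
  haveI : Fact (Nat.Prime 2) := ⟨Nat.prime_two⟩
  have hH : M.H ≤ T := hC 15 (by norm_num) (by norm_num)
  have hS : (M.S : Subgroup G) ≤ T := M.sylow_le_normalizer.trans hN
  refine eq_top_of_two_classes (le_normalizer.trans hN) ?_ ?_ ?_ (M.code_mem_base ha)
    (M.orderOf_code ha ha0) (M.orderOf_code hb hb0) hab
  · intro g hg hg2
    obtain ⟨c, hc, rfl⟩ := M.mem_base_iff.1 hg
    refine hC c hc fun hc0 => ?_
    rw [hc0, M.code_zero, orderOf_one] at hg2
    omega
  · intro t ht ht2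
    have hp : IsPGroup 2 ↥(zpowers t) :=
      IsPGroup.of_card (n := 1) (by rw [Nat.card_zpowers, ht2, pow_one])
    obtain ⟨P, hP⟩ := (hp.comap_subtype (K := T)).exists_le_sylow
    obtain ⟨k, hk⟩ := MulAction.exists_smul_eq ↥T P (M.S.subtype hS)
    have hmem : (k * ⟨t, ht⟩ * k⁻¹ : ↥T) ∈ ((M.S.subtype hS : Sylow 2 ↥T) : Subgroup ↥T) := by
      rw [← hk, Sylow.coe_subgroup_smul]
      exact smul_mem_pointwise_smul _ (MulAut.conj k) _ (hP (mem_zpowers t))
    obtain ⟨x, hx, hxe⟩ := (M.mem _).1 (show (k : G) * t * (k : G)⁻¹ ∈ (M.S : Subgroup G) from hmem)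
    have hsq : mulS x x = 0 := M.inj _ (mulS_lt hx hx) 0 (by norm_num) (by
      rw [M.map_mul x hx x hx, hxe, M.code_zero]
      have ht' : t * t = 1 := by rw [← pow_two, ← ht2, pow_orderOf_eq_one]
      calc (k : G) * t * (k : G)⁻¹ * ((k : G) * t * (k : G)⁻¹) = (k : G) * (t * t) * (k : G)⁻¹ := by group
        _ = 1 := by rw [ht']; group)
    rcases fact_invol x hx hsq with hlt | hout
    · exact ⟨k, k.2, hxe ▸ M.code_mem_base hlt⟩
    · obtain ⟨m, hm, c, hc, hce⟩ := h.moves x hx hout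
      refine ⟨m * k, mul_mem (hH hm) k.2, ?_⟩
      have : m * (k : G) * t * (m * (k : G))⁻¹ = M.ι c := by
        rw [← hce, hxe]; group
      exact this ▸ M.code_mem_base hc
  · intro x hx y hy _ hxy
    obtain ⟨n, hn, e⟩ := M.fusion_base hx hy hxy
    exact ⟨n, hN hn, e⟩

end Cfsg.Agent.Lib.A8Type36
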