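import Cfsg.Agent.Lib.A8Type36.Interface
import Cfsg.Agent.Lib.A8Type36.Strong
import Cfsg.Agent.Lib.A8Type36.Lin
import Cfsg.Agent.Lib.Balance.Functor
import Cfsg.Agent.Lib.Coprime.Generation
import Cfsg.Agent.Lib.Involutions.StronglyEmbedded
import Cfsg.Agent.Lib.PGroups.ElemAb

/-!
# Common part of the signalizer arguments

helper34 (S2918).  Odd cores of centralisers: balance at
the fused involutions, generation by a four group.
-/

set_option autoImplicit false
set_option maxRecDepth 100000
set_option linter.style.haveILetI false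
set_option linter.unusedSectionVars false

open Subgroup Cfsg

namespace Cfsg.Agent.Lib.A8Type36.Sig

open Cfsg.Agent.Lib.Involutions

universe u

variable {G : Type u} [Group G] {M : Mdl G} [Finite G]

/-! ### Odd cores of centralisers -/

/-- The odd core of the centraliser, as a subgroup of the group. -/
abbrev cc (g : G) : Subgroup G := centralizerPPrimeCore 2 g

theorem OH_eq (M : Mdl G) : M.OH = cc (M.ι 15) := rfl

theorem not_two_dvd_cc (g : G) : ¬ 2 ∣ Nat.card ↥(cc g) :=
  haveI : Fact (Nat.Prime 2) := ⟨Nat.prime_two⟩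
  Balance.not_dvd_card_centralizerPPrimeCore g

theorem eq_one_of_mem {K R : Subgroup G} (hK : ¬ 2 ∣ Nat.card ↥K) (hR : IsPGroup 2 R) {x : G}
    (hxK : x ∈ K) (hxR : x ∈ R) : x = 1 := by
  haveI : Fact (Nat.Prime 2) := ⟨Nat.prime_two⟩
  obtain ⟨j, hj⟩ := IsPGroup.iff_orderOf.1 hR ⟨x, hxR⟩
  rw [Subgroup.orderOf_mk] at hj
  rcases Nat.eq_zero_or_pos j with rfl | h0
  · exact orderOf_eq_one_iff.1 (by simpa using hj)
  · exact absurd ((dvd_pow_self 2 h0.ne').trans (hj ▸ Subgroup.orderOf_dvd_natCard K hxK)) hK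

theorem isSolvable_centralizer (hB : Base M) {g : G} (h : IsConj M.z g) :
    Group.IsSolvable ↥(centralizer ({g} : Set G)) := by
  obtain ⟨c, rfl⟩ := isConj_iff.1 h
  haveI : Group.IsSolvable ↥(centralizer ({M.z} : Set G)) := hB.solv
  rw [← MulAut.conj_apply, ← Balance.map_centralizer_singleton (MulAut.conj c)]
  exact Group.isSolvable_of_surjective
    ((MulAut.conj c).toMonoidHom.subgroupMap_surjective (centralizer ({M.z} : Set G)))

/-- Balance at the fused involutions. -/
theorem balance (hB : Base M) {a b : G} (ha : orderOf a = 2) (hb : IsConj M.z b)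
    (hab : a * b = b * a) : cc a ⊓ centralizer ({b} : Set G) ≤ cc b := by
  haveI : Fact (Nat.Prime 2) := ⟨Nat.prime_two⟩
  haveI := isSolvable_centralizer hB hb
  exact Balance.balance_of_pLayer_eq_bot ha hab Balance.pLayer_eq_bot_of_isSolvable

/-- An element commuting with `x` normalises the odd core at `x`. -/
theorem mem_normalizer_cc {g x : G} (h : g * x = x * g) : g ∈ normalizer (cc x : Set G) :=
  Balance.centralizer_le_normalizer_centralizerPPrimeCore x (mem_centralizer_singleton_iff.2 h)

/-- A subgroup of odd order acted on by a four group. -/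
theorem le_of_four {a b : G} (ha : orderOf a = 2) (hb : orderOf b = 2) (hab : a * b = b * a)
    (hne : a ≠ b) {K D : Subgroup G} (hK : ¬ 2 ∣ Nat.card ↥K)
    (hna : a ∈ normalizer (K : Set G)) (hnb : b ∈ normalizer (K : Set G))
    (h : ∀ f, f = a ∨ f = b ∨ f = a * b → K ⊓ centralizer ({f} : Set G) ≤ D) : K ≤ D := by
  haveI : Fact (Nat.Prime 2) := ⟨Nat.prime_two⟩
  have haa := Basic.invol_mul_self ha
  have hbb := Basic.invol_mul_self hb
  set V := closure ({a, b} : Set G) with hV
  have hVe : IsElementaryAbelian 2 V := PGroups.elemAb_closure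
    (by rintro x (rfl | rfl) y (rfl | rfl) <;> first | rfl | exact hab | exact hab.symm)
    (by rintro x (rfl | rfl) <;> rw [pow_two] <;> assumption)
  haveI := hVe.1
  have e1 : a * (a * b) = b := by rw [← mul_assoc, haa, one_mul]
  have e2 : a * b * a = b := by rw [hab, mul_assoc, haa, mul_one]
  have e3 : b * (a * b) = a := by rw [hab, ← mul_assoc, hbb, one_mul]
  have e4 : a * b * b = a := by rw [mul_assoc, hbb, mul_one]
  have e5 : a * b * (a * b) = 1 := by rw [← mul_assoc, e2, hbb]
  have hVmem : ∀ x ∈ V, x = 1 ∨ x = a ∨ x = b ∨ x = a * b := by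
    intro x hx
    induction hx using Subgroup.closure_induction with
    | mem y hy => rcases hy with rfl | rfl <;> simp
    | one => simp
    | mul y z _ _ hy hz =>
      rcases hy with rfl | rfl | rfl | rfl <;> rcases hz with rfl | rfl | rfl | rfl <;>
        simp only [one_mul, mul_one, haa, hbb, hab.symm, e1, e2, e3, e4, e5, true_or, or_true]
    | inv y _ hy =>
      rcases hy with rfl | rfl | rfl | rfl <;>
        simp [Basic.invol_inv ha, Basic.invol_inv hb, mul_inv_rev, hab.symm]
  have hcyc : ¬ IsCyclic ↥V := by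
    rintro ⟨g, hg⟩
    obtain ⟨i, hi⟩ := mem_zpowers_iff.1 (hg ⟨a, subset_closure (Or.inl rfl)⟩)
    obtain ⟨j, hj⟩ := mem_zpowers_iff.1 (hg ⟨b, subset_closure (Or.inr rfl)⟩)
    have hg2 : g * g = 1 := Subtype.ext (by have := hVe.2 _ g.2; rwa [pow_two] at this)
    have key : ∀ k : ℤ, g ^ k = 1 ∨ g ^ k = g := by
      intro k
      rcases Int.even_or_odd k with ⟨m, rfl⟩ | ⟨m, rfl⟩
      · exact Or.inl (by rw [← two_mul, zpow_mul, zpow_two, hg2, one_zpow])
      · exact Or.inr (by rw [zpow_add, zpow_mul, zpow_two, hg2, one_zpow, one_mul, zpow_one])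
    rcases key i with e | e
    · exact Basic.invol_ne_one ha (congrArg Subtype.val (hi.symm.trans e))
    rcases key j with e' | e'
    · exact Basic.invol_ne_one hb (congrArg Subtype.val (hj.symm.trans e'))
    exact hne (congrArg Subtype.val ((hi.symm.trans e).trans (hj.symm.trans e').symm))
  have hVK : V ≤ normalizer (K : Set G) := by
    rw [hV, closure_le]
    rintro x (rfl | rfl) <;> assumption
  have hcop : (Nat.card ↥V).Coprime (Nat.card ↥K) := by
    obtain ⟨m, hm⟩ := IsPGroup.iff_card.1 (PGroups.elemAb_isPGroup hVe)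
    rw [hm]
    exact (Nat.prime_two.coprime_iff_not_dvd.2 hK).pow_left m
  calc K = ⨆ x ∈ {x : G | x ∈ V ∧ x ≠ 1}, K ⊓ centralizer {x} :=
        (Coprime.iSup_centralizer_eq hcyc hVK hcop).symm
    _ ≤ D := iSup₂_le fun x hx => h x ((hVmem x hx.1).resolve_left hx.2)

end Cfsg.Agent.Lib.A8Type36.Sig
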