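import Cfsg.Agent.Lib.A8Type36.Strong
import Cfsg.Agent.Lib.FTDeps.Row3110
import Cfsg.Agent.Lib.OddOrder.FeitThompson
import Cfsg.Agent.Lib.ZStar.UniqueCase
import Cfsg.Agent.Lib.Cores.Pi

/-!
# The odd core of the central centraliser in the configuration of five

helper56 (S2918).  In `C(ι 3)` the pair `ι 1, ι 2` is isolated modulo `⟨ι 3⟩`, so `C(ι 3)` is its odd
core times the stabiliser of the pair and all centralisers of involutions are solvable.  Their odd
cores generate an odd subgroup whose normaliser contains all centralisers of involutions of `A`,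
hence is everything.
-/

set_option autoImplicit false
set_option linter.style.haveILetI false

open Subgroup Cfsg
open scoped Pointwise

namespace Cfsg.Agent.Lib.A8Type36

universe u

section pair

variable {C : Type u} [Group C] [Finite C]

/-- An involution isolated modulo a central involution splits the group as the odd core times the
stabiliser of its coset. -/
theorem decomp_of_pair {t d : C} (htc : ∀ g, g * t = t * g) (ht : orderOf t = 2) (hd2 : d * d = 1)
    (hdt : d ∉ zpowers t) (T : Sylow 2 C) (htT : t ∈ (T : Subgroup C)) (hdT : d ∈ (T : Subgroup C))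
    (hiso : ∀ h, h * d * h⁻¹ ∈ (T : Subgroup C) → h * d * h⁻¹ = d ∨ h * d * h⁻¹ = d * t) (g : C) :
    ∃ k ∈ oddCore C, ∃ p, (p * d * p⁻¹ = d ∨ p * d * p⁻¹ = d * t) ∧ g = k * p := by
  classical
  haveI : Fact (Nat.Prime 2) := ⟨Nat.prime_two⟩
  haveI hZn : (zpowers t).Normal := ⟨fun x hx c => by
    obtain ⟨i, rfl⟩ := mem_zpowers_iff.1 hx
    rw [((show Commute c t from htc c).zpow_right i).eq, mul_inv_cancel_right]
    exact zpow_mem_zpowers t i⟩
  have hZ2 : Nat.card ↥(zpowers t) = 2 := by rw [Nat.card_zpowers, ht]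
  have hZ : ∀ x ∈ zpowers t, x = 1 ∨ x = t := by
    intro x hx
    obtain ⟨i, rfl⟩ := mem_zpowers_iff.1 hx
    rw [← zpow_mod_orderOf, ht]
    rcases Int.emod_two_eq_zero_or_one i with h | h <;> simp [h]
  set π := QuotientGroup.mk' (zpowers t) with hπ
  have hπs : Function.Surjective π := QuotientGroup.mk'_surjective _
  have hker : ∀ x, π x = 1 ↔ x ∈ zpowers t := fun x => QuotientGroup.eq_one_iff x
  have hZT : zpowers t ≤ (T : Subgroup C) := zpowers_le.2 htT
  have hdd : π d * π d = 1 := by rw [← map_mul, hd2, map_one]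
  have hd' : orderOf (π d) = 2 :=
    orderOf_eq_prime (by rw [pow_two, hdd]) fun h => hdt ((hker d).1 h)
  obtain ⟨N, hN, hodd, hmem⟩ := ZStar.UniqueCase.zstar (T.mapSurjective hπs) (π d) hd'
    (by show π d ∈ ((T.mapSurjective hπs : Sylow 2 _) : Subgroup (C ⧸ zpowers t))
        rw [Sylow.coe_mapSurjective]; exact ⟨d, hdT, rfl⟩)
    (by
      intro k hk
      obtain ⟨h, rfl⟩ := hπs k
      have hk' : π (h * d * h⁻¹) ∈ (T : Subgroup C).map π := by
        rw [← Sylow.coe_mapSurjective hπs T, map_mul, map_mul, map_inv]; exact hk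
      obtain ⟨x, hx, e⟩ := hk'
      have hin : h * d * h⁻¹ ∈ (T : Subgroup C) := by
        have h1 : x⁻¹ * (h * d * h⁻¹) ∈ zpowers t := (hker _).1 (by rw [map_mul, map_inv, e, inv_mul_cancel])
        simpa using mul_mem hx (hZT h1)
      rcases hiso h hin with h2 | h2
      · rw [← map_inv, ← map_mul, ← map_mul, h2]
      · rw [← map_inv, ← map_mul, ← map_mul, h2, map_mul, (hker t).2 (mem_zpowers t), mul_one])
  haveI := hN
  -- the square of a preimage of an element of `N` is in the odd core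
  have hsq : ∀ x : C, π x ∈ N → x * x ∈ oddCore C := by
    intro x hx
    set L := N.comap π with hL
    haveI : L.Normal := hN.comap π
    set ZL := (zpowers t).subgroupOf L with hZL
    have hle : zpowers t ≤ L := fun y hy => by
      rw [hL, mem_comap, (hker y).2 hy]; exact one_mem _
    have hcard : Nat.card ↥ZL = 2 := by
      rw [hZL, Nat.card_congr (subgroupOfEquivOfLe hle).toEquiv, hZ2]
    have hidx : ZL.index = Nat.card ↥N := by
      have h1 := relIndex_comap (⊥ : Subgroup (C ⧸ zpowers t)) π L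
      rw [show (⊥ : Subgroup (C ⧸ zpowers t)).comap π = zpowers t from by
        ext y; rw [mem_comap, mem_bot, hker], hL,
        map_comap_eq_self_of_surjective hπs] at h1
      rw [hZL]
      show (zpowers t).relIndex L = _
      rw [hL, h1, relIndex_bot_left]
    obtain ⟨K, hK⟩ := exists_left_complement'_of_coprime (N := ZL) (by
      rw [hcard, hidx]; exact Nat.coprime_two_left.2 hodd)
    have hKc : Nat.card ↥K * 2 = Nat.card ↥L := by rw [← hcard]; exact hK.card_mul
    have hKi : K.index = 2 := by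
      have h1 := K.card_mul_index
      rw [← hKc] at h1
      exact Nat.eq_of_mul_eq_mul_left Nat.card_pos h1
    haveI : K.Normal := normal_of_index_eq_two hKi
    have hKo : Odd (Nat.card ↥K) := by
      have h1 := ZL.card_mul_index
      rw [hcard, hidx, ← hKc, mul_comm 2] at h1
      rw [← Nat.eq_of_mul_eq_mul_right two_pos h1]
      exact hodd
    have h2 : (⟨x, hx⟩ * ⟨x, hx⟩ : ↥L) ∈ oddCore ↥L :=
      Cores.le_oddCore hKo (mul_self_mem_of_index_two hKi _)
    haveI : ((oddCore ↥L).map L.subtype).Normal := Cores.normal_map_subtype L _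
    refine Cores.le_oddCore (N := (oddCore ↥L).map L.subtype) ?_ ⟨_, h2, rfl⟩
    rw [card_map_of_injective L.subtype_injective]
    exact Cores.oddCore_odd
  -- the commutator of `g` with `d`, its root and the root of that
  set a := π g with ha
  set m := a * π d * a⁻¹ * (π d)⁻¹ with hm
  have hmN : m ∈ N := by
    have := inv_mem (hmem a)
    simpa [hm, mul_assoc] using this
  have hdi : (π d)⁻¹ = π d := inv_eq_of_mul_eq_one_right hdd
  have hinv : π d * m * (π d)⁻¹ = m⁻¹ := by
    have e1 : (π d * m * (π d)⁻¹) * m = 1 := by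
      rw [hm, hdi]
      calc π d * (a * π d * a⁻¹ * π d) * π d * (a * π d * a⁻¹ * π d)
          = π d * (a * π d * a⁻¹) * (π d * π d) * (a * π d * a⁻¹) * π d := by group
        _ = π d * (a * π d * a⁻¹) * (a * π d * a⁻¹) * π d := by rw [hdd, mul_one]
        _ = π d * a * (π d * π d) * a⁻¹ * π d := by group
        _ = 1 := by rw [hdd, mul_one, mul_inv_cancel_right, hdd]
    exact eq_inv_of_mul_eq_one_left e1
  obtain ⟨r, hr⟩ : Odd (orderOf m) :=
    hodd.of_dvd_nat (orderOf_dvd_natCard N hmN)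
  set n := m ^ (r + 1) with hn
  have hn2 : n * n = m := by
    rw [hn, ← pow_add, show r + 1 + (r + 1) = orderOf m + 1 by omega, pow_succ, pow_orderOf_eq_one,
      one_mul]
  have hdn : π d * n * (π d)⁻¹ = n⁻¹ := by rw [hn, ← conj_pow, hinv, inv_pow]
  set n₀ := n ^ (r + 1) with hn₀
  have hn₀2 : n₀ * n₀ = n := by
    rw [hn₀, hn, ← pow_mul, ← pow_add, show (r + 1) * (r + 1) + (r + 1) * (r + 1) =
      orderOf m * (r + 1) + (r + 1) by rw [hr]; ring, pow_add, pow_mul, pow_orderOf_eq_one, one_pow,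
      one_mul]
  obtain ⟨x, hx⟩ := hπs n₀
  refine ⟨x * x, hsq x (hx ▸ pow_mem (pow_mem hmN _) _), (x * x)⁻¹ * g, ?_, (mul_inv_cancel_left _ _).symm⟩
  set p := (x * x)⁻¹ * g
  have hp : π (p * d * p⁻¹) = π d := by
    have e1 : π p = n⁻¹ * a := by rw [map_mul, map_inv, map_mul, hx, hn₀2]
    rw [map_mul, map_mul, map_inv, e1, mul_inv_rev, inv_inv]
    calc n⁻¹ * a * π d * (a⁻¹ * n) = n⁻¹ * m * (π d * n * (π d)⁻¹) * π d := by rw [hm]; group
      _ = n⁻¹ * (n * n) * n⁻¹ * π d := by rw [hdn, hn2]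
      _ = π d := by group
  rcases hZ (d⁻¹ * (p * d * p⁻¹)) ((hker _).1 (by rw [map_mul, map_inv, hp, inv_mul_cancel])) with h | h
  · exact Or.inl (inv_mul_eq_one.1 h).symm
  · exact Or.inr (eq_mul_of_inv_mul_eq h)

/-- A group so split is solvable when the centraliser of the involution is. -/
theorem solvable_of_pair {t d : C} (htc : ∀ g, g * t = t * g) (ht : orderOf t = 2)
    (hdt : d ∉ zpowers t)
    (hsolv : Group.IsSolvable ↥(centralizer ({d} : Set C)))
    (hdec : ∀ g : C, ∃ k ∈ oddCore C, ∃ p, (p * d * p⁻¹ = d ∨ p * d * p⁻¹ = d * t) ∧ g = k * p) :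
    Group.IsSolvable C := by
  classical
  have htt : t * t = 1 := by rw [← pow_two, ← ht, pow_orderOf_eq_one]
  have hne : d * t ≠ d := fun h => hdt (by
    have : t = 1 := mul_eq_left.1 h
    rw [this, orderOf_one] at ht; omega)
  let P : Subgroup C :=
    { carrier := {p | p * d * p⁻¹ = d ∨ p * d * p⁻¹ = d * t}
      one_mem' := Or.inl (by group)
      mul_mem' := by
        rintro p q hp hq
        have e : p * q * d * (p * q)⁻¹ = p * (q * d * q⁻¹) * p⁻¹ := by group
        have e' : p * (d * t) * p⁻¹ = p * d * p⁻¹ * t := by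
          calc p * (d * t) * p⁻¹ = p * d * (t * p⁻¹) := by group
            _ = p * d * (p⁻¹ * t) := by rw [htc p⁻¹]
            _ = _ := by group
        rcases hq with hq | hq <;> rcases hp with hp | hp
        · exact Or.inl (by rw [e, hq, hp])
        · exact Or.inr (by rw [e, hq, hp])
        · exact Or.inr (by rw [e, hq, e', hp])
        · exact Or.inl (by rw [e, hq, e', hp, mul_assoc, htt, mul_one])
      inv_mem' := by
        rintro p hp
        rcases hp with hp | hp
        · left
          calc p⁻¹ * d * p⁻¹⁻¹ = p⁻¹ * (p * d * p⁻¹) * p := by rw [hp]; group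
            _ = d := by group
        · right
          have e : p⁻¹ * (d * t) * p = d := by rw [← hp]; group
          calc p⁻¹ * d * p⁻¹⁻¹ = p⁻¹ * d * p * (t * t) := by rw [htt]; group
            _ = p⁻¹ * d * (p * t) * t := by group
            _ = p⁻¹ * d * (t * p) * t := by rw [htc p]
            _ = p⁻¹ * (d * t) * p * t := by group
            _ = d * t := by rw [e] }
  let φ : ↥P →* ℤˣ :=
    { toFun := fun p => if (p : C) * d * (p : C)⁻¹ = d then 1 else -1
      map_one' := by simp
      map_mul' := fun p q => by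
        have e : ((p * q : ↥P) : C) * d * ((p * q : ↥P) : C)⁻¹ = p * (q * d * (q : C)⁻¹) * (p : C)⁻¹ := by
          rw [Subgroup.coe_mul]; group
        have e' : (p : C) * (d * t) * (p : C)⁻¹ = p * d * (p : C)⁻¹ * t := by
          calc (p : C) * (d * t) * (p : C)⁻¹ = p * d * (t * (p : C)⁻¹) := by group
            _ = p * d * ((p : C)⁻¹ * t) := by rw [htc]
            _ = _ := by group
        rcases p.2 with hp | hp <;> rcases q.2 with hq | hq
        · rw [if_pos (by rw [e, hq, hp]), if_pos hp, if_pos hq]; rfl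
        · rw [if_neg (by rw [e, hq, e', hp]; exact hne), if_pos hp, if_neg (by rw [hq]; exact hne)]; rfl
        · rw [if_neg (by rw [e, hq, hp]; exact hne), if_neg (by rw [hp]; exact hne), if_pos hq]; rfl
        · rw [if_pos (by rw [e, hq, e', hp, mul_assoc, htt, mul_one]), if_neg (by rw [hp]; exact hne),
            if_neg (by rw [hq]; exact hne)]
          rfl }
  haveI := hsolv
  haveI : Group.IsSolvable ↥φ.ker := by
    refine Group.isSolvable_of_isSolvable_injective
      (f := (P.subtype.comp φ.ker.subtype).codRestrict (centralizer ({d} : Set C)) fun x => ?_) ?_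
    · have h := x.2
      rw [MonoidHom.mem_ker] at h
      by_cases hx : ((x : ↥P) : C) * d * ((x : ↥P) : C)⁻¹ = d
      · exact mem_centralizer_singleton_iff.2 (mul_inv_eq_iff_eq_mul.1 hx)
      · exact absurd h (by simp [φ, hx])
    · intro x y e
      exact Subtype.ext (Subtype.ext (congrArg (fun z : ↥(centralizer ({d} : Set C)) => (z : C)) e))
  haveI : Group.IsSolvable ↥P := Group.isSolvable_of_ker_le_range φ.ker.subtype φ (by simp)
  haveI : Group.IsSolvable ↥(oddCore C) :=
    OddOrder.FeitThompson.isSolvable_of_odd_card Cores.oddCore_odd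
  haveI : Group.IsSolvable (C ⧸ oddCore C) := by
    refine Group.isSolvable_of_surjective (f := (QuotientGroup.mk' (oddCore C)).comp P.subtype) fun y => ?_
    obtain ⟨g, rfl⟩ := QuotientGroup.mk'_surjective _ y
    obtain ⟨k, hk, p, hp, rfl⟩ := hdec g
    refine ⟨⟨p, hp⟩, ?_⟩
    show QuotientGroup.mk' (oddCore C) p = QuotientGroup.mk' (oddCore C) (k * p)
    rw [map_mul, show QuotientGroup.mk' (oddCore C) k = 1 from (QuotientGroup.eq_one_iff k).2 hk, one_mul]
  exact Group.isSolvable_of_ker_le_range (oddCore C).subtype (QuotientGroup.mk' (oddCore C)) (by simp)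

end pair

variable {G : Type u} [Group G] [Finite G] {M : Mdl G}

omit [Finite G] in
/-- Conjugate elements have isomorphic centralisers. -/
theorem solvable_centralizer_of_isConj {a b : G} (h : IsConj a b)
    (ha : Group.IsSolvable ↥(centralizer ({a} : Set G))) :
    Group.IsSolvable ↥(centralizer ({b} : Set G)) := by
  obtain ⟨g, rfl⟩ := isConj_iff.1 h
  have e : centralizer ({g * a * g⁻¹} : Set G) =
      (centralizer ({a} : Set G)).map (MulAut.conj g).toMonoidHom := by
    rw [Balance.map_centralizer_singleton]; rfl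
  haveI := ha
  rw [e]
  exact Group.isSolvable_of_surjective
    ((MulAut.conj g).toMonoidHom.subgroupMap_surjective (centralizer ({a} : Set G)))

namespace FiveCase

/-- In the configuration of five a 2-subgroup meeting the orbit of the centre in five elements meets
it exactly in those. -/
theorem mem_five (h : FiveCase M) {R : Subgroup G} (hR : IsPGroup 2 ↥R)
    (hmem : ∀ x ∈ fiveL, M.ι x ∈ R) {y : G} (hy : y ∈ R) (hzy : IsConj M.z y) :
    ∃ x ∈ fiveL, M.ι x = y := by
  classical
  haveI : Fact (Nat.Prime 2) := ⟨Nat.prime_two⟩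
  obtain ⟨Q, hQ⟩ := hR.exists_le_sylow
  obtain ⟨k, hk⟩ := MulAction.exists_smul_eq G Q M.S
  set F : Set G := {y | y ∈ R ∧ IsConj M.z y} with hF
  set V : Set G := M.ι '' {x | x ∈ fiveL} with hV
  have hlt : ∀ x ∈ fiveL, x < 64 := by decide
  have hVF : V ⊆ F := by
    rintro _ ⟨x, hx, rfl⟩
    exact ⟨hmem x hx, (h.fused x (hlt x hx)).2 hx⟩
  have hFV : (fun y => k * y * k⁻¹) '' F ⊆ V := by
    rintro _ ⟨y, ⟨hyR, hyz⟩, rfl⟩
    have hyS : k * y * k⁻¹ ∈ (M.S : Subgroup G) := by
      rw [← hk, Sylow.coe_subgroup_smul]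
      exact smul_mem_pointwise_smul _ (MulAut.conj k) _ (hQ hyR)
    obtain ⟨x, hx, e⟩ := (M.mem _).1 hyS
    refine ⟨x, (h.fused x hx).1 ?_, e⟩
    show IsConj M.z (M.ι x)
    rw [e]; exact hyz.trans (isConj_iff.2 ⟨k, rfl⟩)
  have hinj : Function.Injective (fun y => k * y * k⁻¹) := fun a b e =>
    mul_left_cancel (mul_right_cancel e)
  have hle : F.ncard ≤ V.ncard := by
    rw [← Set.ncard_image_of_injective F hinj]
    exact Set.ncard_le_ncard hFV (Set.toFinite _)
  have := Set.eq_of_subset_of_ncard_le hVF hle (Set.toFinite _)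
  have hyV : y ∈ V := this ▸ (⟨hy, hzy⟩ : y ∈ F)
  exact hyV

/-- The centraliser of the other class is its odd core times the stabiliser of the pair. -/
theorem decomp_three (h : FiveCase M) {g : G} (hg : g ∈ centralizer ({M.ι 3} : Set G)) :
    ∃ k ∈ centralizerPPrimeCore 2 (M.ι 3), ∃ p ∈ centralizer ({M.ι 3} : Set G),
      (p * M.ι 1 * p⁻¹ = M.ι 1 ∨ p * M.ι 1 * p⁻¹ = M.ι 2) ∧ g = k * p ∧
      Group.IsSolvable ↥(centralizer ({M.ι 3} : Set G)) := by
  classical
  haveI : Fact (Nat.Prime 2) := ⟨Nat.prime_two⟩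
  set C := centralizer ({M.ι 3} : Set G) with hC
  have hAC : ∀ a < 16, M.ι a ∈ C := fun a ha => mem_centralizer_singleton_iff.2 (by
    rw [M.code_base_mul ha (by norm_num), M.code_base_mul (by norm_num) ha]
    exact congrArg M.ι (Nat.xor_comm a 3))
  have hAp : IsPGroup 2 ↥(M.A.subgroupOf C) :=
    (IsPGroup.of_card (n := 4) (by rw [M.base_card]; norm_num) : IsPGroup 2 ↥M.A).comap_subtype
  obtain ⟨T, hT⟩ := hAp.exists_le_sylow
  set t : ↥C := ⟨M.ι 3, hAC 3 (by norm_num)⟩ with ht
  set d : ↥C := ⟨M.ι 1, hAC 1 (by norm_num)⟩ with hd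
  have htc : ∀ x : ↥C, x * t = t * x := fun x => Subtype.ext (mem_centralizer_singleton_iff.1 x.2)
  have ht2 : orderOf t = 2 := by
    rw [← Subgroup.orderOf_coe]; exact M.orderOf_code (by norm_num) (by norm_num)
  have h12 : M.ι 1 * M.ι 3 = M.ι 2 := by rw [M.code_base_mul (by norm_num) (by norm_num)]; rfl
  have hdt : d ∉ zpowers t := by
    intro hd'
    obtain ⟨i, hi⟩ := mem_zpowers_iff.1 hd'
    rw [← zpow_mod_orderOf, ht2] at hi
    rcases Int.emod_two_eq_zero_or_one i with h0 | h0 <;> simp [h0] at hi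
    · exact absurd (congrArg Subtype.val hi).symm fun e =>
        absurd ((M.code_eq_one (a := 1) (by norm_num)).1 e) (by norm_num)
    · exact absurd (M.inj 3 (by norm_num) 1 (by norm_num) (congrArg Subtype.val hi)) (by norm_num)
  have htT : t ∈ (T : Subgroup ↥C) := hT (show t ∈ M.A.subgroupOf C from M.code_mem_base (by norm_num))
  have hiso : ∀ x : ↥C, x * d * x⁻¹ ∈ (T : Subgroup ↥C) →
      x * d * x⁻¹ = d ∨ x * d * x⁻¹ = d * t := by
    intro x hx
    have hmem : ∀ c ∈ fiveL, M.ι c ∈ (T : Subgroup ↥C).map C.subtype := fun c hc => by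
      have hc16 : c < 16 := (show ∀ c ∈ fiveL, c < 16 by decide) c hc
      exact ⟨⟨M.ι c, hAC c hc16⟩,
        hT (show (⟨M.ι c, hAC c hc16⟩ : ↥C) ∈ M.A.subgroupOf C from M.code_mem_base hc16), rfl⟩
    have hy : IsConj M.z ((x * d * x⁻¹ : ↥C) : G) :=
      ((h.fused 1 (by norm_num)).2 (by decide)).trans (isConj_iff.2 ⟨(x : G), rfl⟩)
    have hyt : IsConj M.z ((x * d * x⁻¹ * t : ↥C) : G) := by
      have e : x * d * x⁻¹ * t = x * (d * t) * x⁻¹ := by
        calc x * d * x⁻¹ * t = x * d * (x⁻¹ * t) := by group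
          _ = x * d * (t * x⁻¹) := by rw [htc]
          _ = _ := by group
      rw [e]
      refine ((h.fused 2 (by norm_num)).2 (by decide)).trans (isConj_iff.2 ⟨(x : G), ?_⟩)
      show (x : G) * M.ι 2 * (x : G)⁻¹ = (x : G) * (M.ι 1 * M.ι 3) * (x : G)⁻¹
      rw [h12]
    obtain ⟨c, hc, hce⟩ := h.mem_five (T.2.map C.subtype) hmem ⟨_, hx, rfl⟩ hy
    obtain ⟨c', hc', hce'⟩ := h.mem_five (T.2.map C.subtype) hmem ⟨_, mul_mem hx htT, rfl⟩ hyt
    have hc16 : c < 16 := (show ∀ c ∈ fiveL, c < 16 by decide) c hc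
    have hc'16 : c' < 16 := (show ∀ c ∈ fiveL, c < 16 by decide) c' hc'
    have e : c' = Nat.xor c 3 := M.inj c' (by omega) _
      (lt_trans (fact_base c hc16 3 (by norm_num)).2 (by norm_num)) (by
        rw [hce', ← M.code_base_mul hc16 (by norm_num), hce]; rfl)
    rcases (show ∀ c ∈ fiveL, Nat.xor c 3 ∈ fiveL → c = 1 ∨ c = 2 by decide) c hc (e ▸ hc') with rfl | rfl
    · exact Or.inl (Subtype.ext hce.symm)
    · exact Or.inr (Subtype.ext (hce.symm.trans h12.symm))
  have hd2 : d * d = 1 := Subtype.ext (by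
    show M.ι 1 * M.ι 1 = 1
    rw [M.code_base_mul (by norm_num) (by norm_num)]; exact M.code_zero)
  have hdec := decomp_of_pair htc ht2 hd2 hdt T htT
    (hT (show d ∈ M.A.subgroupOf C from M.code_mem_base (by norm_num))) hiso
  have hC1 : Group.IsSolvable ↥(centralizer ({M.ι 1} : Set G)) :=
    solvable_centralizer_of_isConj ((h.fused 1 (by norm_num)).2 (by decide)) h.solv
  have hsol : Group.IsSolvable ↥C := by
    refine solvable_of_pair htc ht2 hdt ?_ hdec
    haveI := hC1
    refine Group.isSolvable_of_isSolvable_injective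
      (f := (C.subtype.comp (centralizer ({d} : Set ↥C)).subtype).codRestrict
        (centralizer ({M.ι 1} : Set G)) fun x => ?_) ?_
    · exact mem_centralizer_singleton_iff.2
        (congrArg Subtype.val (mem_centralizer_singleton_iff.1 x.2))
    · intro x y e
      exact Subtype.ext (Subtype.ext (congrArg (fun z : ↥(centralizer ({M.ι 1} : Set G)) => (z : G)) e))
  obtain ⟨k, hk, p, hp, e⟩ := hdec ⟨g, hg⟩
  refine ⟨k, ⟨k, hk, rfl⟩, p, p.2, ?_, congrArg Subtype.val e, hsol⟩
  rcases hp with hp | hp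
  · exact Or.inl (congrArg Subtype.val hp)
  · exact Or.inr ((congrArg Subtype.val hp).trans h12)

omit [Finite G] in
/-- Every involution of the base is conjugate to one of the two representatives. -/
theorem conj_rep (h : FiveCase M) {a : ℕ} (ha : a < 16) (ha0 : a ≠ 0) :
    IsConj M.z (M.ι a) ∨ IsConj (M.ι 3) (M.ι a) :=
  (em (a ∈ fiveL)).imp (fun hm => (h.fused a (by omega)).2 hm) (h.other a ha ha0)

/-- All centralisers of involutions are solvable. -/
theorem solvable_centralizer (h : FiveCase M) {b : G} (hb : orderOf b = 2) :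
    Group.IsSolvable ↥(centralizer ({b} : Set G)) := by
  haveI : Fact (Nat.Prime 2) := ⟨Nat.prime_two⟩
  have h3 : Group.IsSolvable ↥(centralizer ({M.ι 3} : Set G)) :=
    (h.decomp_three (one_mem _)).choose_spec.2.choose_spec.2.2.2
  have hp : IsPGroup 2 ↥(zpowers b) :=
    IsPGroup.of_card (n := 1) (by rw [Nat.card_zpowers, hb, pow_one])
  obtain ⟨P, hP⟩ := hp.exists_le_sylow
  obtain ⟨k, hk⟩ := MulAction.exists_smul_eq G P M.S
  have hbS : k * b * k⁻¹ ∈ (M.S : Subgroup G) := by
    rw [← hk, Sylow.coe_subgroup_smul]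
    exact smul_mem_pointwise_smul _ (MulAut.conj k) _ (hP (mem_zpowers b))
  obtain ⟨x, hx, e⟩ := (M.mem _).1 hbS
  have hsq : mulS x x = 0 := M.inj _ (mulS_lt hx hx) 0 (by norm_num) (by
    rw [M.map_mul x hx x hx, e, M.code_zero]
    have hb' : b * b = 1 := by rw [← pow_two, ← hb, pow_orderOf_eq_one]
    calc k * b * k⁻¹ * (k * b * k⁻¹) = k * (b * b) * k⁻¹ := by group
      _ = 1 := by rw [hb']; group)
  obtain ⟨g, a, ha, hga⟩ : ∃ g, ∃ a < 16, g * b * g⁻¹ = M.ι a := by
    rcases fact_invol x hx hsq with hlt | hout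
    · exact ⟨k, x, hlt, e.symm⟩
    · obtain ⟨m, -, c, hc, hce⟩ := h.moves x hx hout
      exact ⟨m * k, c, hc, by rw [← hce, e]; group⟩
  have ha0 : a ≠ 0 := by
    intro h0
    rw [h0, M.code_zero, conj_eq_one_iff] at hga
    rw [hga, orderOf_one] at hb; omega
  refine solvable_centralizer_of_isConj (isConj_iff.2 ⟨g, hga⟩).symm ?_
  rcases h.conj_rep ha ha0 with hc | hc
  · exact solvable_centralizer_of_isConj hc h.solv
  · exact solvable_centralizer_of_isConj hc h3

/-- In the configuration of five the centraliser of the central involution has trivial odd core. -/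
theorem OH_eq_bot {G : Type u} [Group G] [Finite G] {M : Mdl G} (h : FiveCase M) : M.OH = ⊥ := by
  classical
  haveI : Fact (Nat.Prime 2) := ⟨Nat.prime_two⟩
  have hL : ∀ b : G, orderOf b = 2 → pLayer 2 ↥(centralizer ({b} : Set G)) = ⊥ := fun b hb =>
    haveI := h.solvable_centralizer hb
    Balance.pLayer_eq_bot_of_isSolvable
  haveI : (M.A.subgroupOf (M.S : Subgroup G)).Normal :=
    (normal_subgroupOf_iff_le_normalizer M.base_le_sylow).2 M.sylow_le_normalizer
  have hAel := PGroups.elemAb_subgroupOf M.base_elementary (M.S : Subgroup G)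
  obtain ⟨W, hWo, hW⟩ := FTDeps.Row3110.cores_generate_of_pLayer
    (fun G _ _ hodd => OddOrder.FeitThompson.isSolvable_of_odd_card hodd) hL M.S
    (M.A.subgroupOf (M.S : Subgroup G)) inferInstance hAel.1 (fun hr => by
      have := hr ⊤ ⟨⟨fun x y => Subtype.ext (hAel.1.is_comm.comm x.1 y.1)⟩⟩
        (fun x _ => Subtype.ext (hAel.2 _ x.2))
      rw [card_top, Nat.card_congr (subgroupOfEquivOfLe M.base_le_sylow).toEquiv, M.base_card] at this
      norm_num at this) M.S
  have hQS : M.Q ≤ (M.S : Subgroup G) := by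
    rw [Mdl.Q, closure_le]
    rintro _ ⟨x, ⟨hx, -⟩, rfl⟩
    exact M.code_mem_sylow hx
  have hnr : ∀ B : Subgroup G, M.ι 3 ∈ B → M.ι 15 ∈ B → ¬ PRankLE 2 1 ↥B := by
    intro B h3 h15
    refine Balance.not_pRankLE_of_elemAb (PGroups.elemAb_mono M.base_elementary inf_le_left)
      (inf_le_right : M.A ⊓ B ≤ B) ?_
    have hsub : ({1, M.ι 3, M.ι 15} : Set G) ⊆ (M.A ⊓ B : Subgroup G) := by
      rintro y (rfl | rfl | rfl)
      exacts [one_mem _, ⟨M.code_mem_base (by norm_num), h3⟩, ⟨M.code_mem_base (by norm_num), h15⟩]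
    have hne : ∀ a < 16, a ≠ 0 → (1 : G) ≠ M.ι a := fun a ha ha0 e =>
      ha0 ((M.code_eq_one (by omega)).1 e.symm)
    have hcard : ({1, M.ι 3, M.ι 15} : Set G).ncard = 3 := by
      rw [Set.ncard_insert_of_notMem (by simp [hne 3, hne 15]),
        Set.ncard_insert_of_notMem (by
          simp only [Set.mem_singleton_iff]
          exact fun e => absurd (M.inj 3 (by norm_num) 15 (by norm_num) e) (by norm_num)),
        Set.ncard_singleton]
    have := Set.ncard_le_ncard hsub (Set.toFinite _)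
    rw [hcard] at this
    exact lt_of_lt_of_le (by norm_num : 2 ^ 1 < 3) this
  obtain ⟨hWA, hNA⟩ := hW M.A M.base_le_sylow
    (hnr _ (M.code_mem_base (by norm_num)) (M.code_mem_base (by norm_num)))
  obtain ⟨-, hNQ⟩ := hW M.Q hQS (hnr _
    (subset_closure ⟨3, ⟨by norm_num, by decide⟩, rfl⟩)
    (subset_closure ⟨15, ⟨by norm_num, by decide⟩, rfl⟩))
  set T := normalizer (W : Set G) with hT
  have hval : ∀ a < 16, a ≠ 0 → centralizerPPrimeCore 2 (M.ι a) ≤ W := fun a ha ha0 => by
    rw [hWA]
    exact le_iSup (fun b : {b : G // b ∈ M.A ∧ b ≠ 1} => centralizerPPrimeCore 2 (b : G))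
      ⟨M.ι a, M.code_mem_base ha, fun e => ha0 ((M.code_eq_one (by omega)).1 e)⟩
  have hOH : M.OH ≤ W := hval 15 (by norm_num) (by norm_num)
  have hH : M.H ≤ T := fun x hx => by
    obtain ⟨o, ho, n, -, hn, rfl⟩ := h.frat x hx
    exact mul_mem (le_normalizer (hOH ho)) (hNQ (mem_normalizer_iff.2 fun y => (hn y).symm))
  -- centralisers of the conjugates in the base
  have hmove : ∀ a ∈ M.A, ∀ b ∈ M.A, IsConj a b → centralizer ({a} : Set G) ≤ T →
      centralizer ({b} : Set G) ≤ T := by
    intro a ha b hb hab hle x hx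
    obtain ⟨n, hn, rfl⟩ := M.fusion_base ha hb hab
    have h1 : n⁻¹ * x * n ∈ centralizer ({a} : Set G) := by
      rw [mem_centralizer_singleton_iff] at hx ⊢
      calc n⁻¹ * x * n * a = n⁻¹ * (x * (n * a * n⁻¹)) * n := by group
        _ = n⁻¹ * (n * a * n⁻¹ * x) * n := by rw [hx]
        _ = _ := by group
    have := mul_mem (mul_mem (hNA hn) (hle h1)) (inv_mem (hNA hn))
    simpa [mul_assoc] using this
  have hone : centralizer ({M.ι 1} : Set G) ≤ T :=
    hmove _ (M.code_mem_base (by norm_num)) _ (M.code_mem_base (by norm_num))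
      ((h.fused 1 (by norm_num)).2 (by decide)) hH
  have hthree : centralizer ({M.ι 3} : Set G) ≤ T := by
    intro x hx
    obtain ⟨k, hk, p, -, hp, rfl, -⟩ := h.decomp_three hx
    refine mul_mem (le_normalizer (hval 3 (by norm_num) (by norm_num) hk)) ?_
    have h16 : M.ι 16 ∈ T := hNA (M.sylow_le_normalizer (M.code_mem_sylow (by norm_num)))
    rcases hp with hp | hp
    · exact hone (mem_centralizer_singleton_iff.2 (mul_inv_eq_iff_eq_mul.1 hp))
    · have he : M.ι 16 * M.ι 1 * (M.ι 16)⁻¹ = M.ι 2 := by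
        rw [mul_inv_eq_iff_eq_mul, ← M.map_mul 16 (by norm_num) 1 (by norm_num),
          ← M.map_mul 2 (by norm_num) 16 (by norm_num)]
        exact congrArg M.ι (by decide)
      have h1 : (M.ι 16)⁻¹ * p ∈ centralizer ({M.ι 1} : Set G) := by
        rw [mem_centralizer_singleton_iff]
        calc (M.ι 16)⁻¹ * p * M.ι 1 = (M.ι 16)⁻¹ * (p * M.ι 1 * p⁻¹) * p := by group
          _ = (M.ι 16)⁻¹ * (M.ι 16 * M.ι 1 * (M.ι 16)⁻¹) * p := by rw [hp, he]
          _ = _ := by group
      have := mul_mem h16 (hone h1)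
      simpa using this
  have hTtop : T = ⊤ := by
    refine h.toBase.eq_top_of_centralizers hNA ?_ (a := 15) (b := 3) (by norm_num) (by norm_num)
      (by norm_num) (by norm_num)
      (fun hc => absurd ((h.fused 3 (by norm_num)).1 hc) (by decide))
    intro a ha ha0
    rcases h.conj_rep ha ha0 with hc | hc
    · exact hmove _ (M.code_mem_base (show 15 < 16 by norm_num)) _ (M.code_mem_base ha) hc hH
    · exact hmove _ (M.code_mem_base (show 3 < 16 by norm_num)) _ (M.code_mem_base ha) hc hthree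
  haveI : W.Normal := normalizer_eq_top_iff.1 hTtop
  exact le_bot_iff.1 (hOH.trans ((Cores.le_oddCore hWo).trans h.core.le))

end FiveCase

end Cfsg.Agent.Lib.A8Type36
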