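import Cfsg.Agent.Lib.A8Type36.SigNineTheta
import Cfsg.Agent.Lib.ZStar.UniqueCase
import Cfsg.Agent.Lib.ZJ.Stable
import Cfsg.Agent.Lib.Cores.Normalizer

/-!
# The case of nine: the centraliser of the unfused involution `9`

helper34 (S2918).  Modulo `⟨9⟩` the involution `7` is isolated in the centraliser of `9`: a rival
`48, 54, 57, 63` is excluded by the centraliser of `9` in `C(z)`.  By Glauberman's theorem and the
Frattini argument `C(9) = O(C(9)) N(⟨9, 7⟩)`.
-/

set_option autoImplicit false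
set_option maxRecDepth 100000
set_option synthInstance.maxSize 4096
set_option synthInstance.maxHeartbeats 400000
set_option linter.style.haveILetI false

open Subgroup Cfsg

namespace Cfsg.Agent.Lib.A8Type36.Sig

open Cfsg.Agent.Lib.Involutions

universe u

/-- The four group of `9` and `7`. -/
def fourL : List Nat := [0, 9, 14, 7]

/-- The centraliser of a rival in the Sylow subgroup. -/
def rivL : List Nat := [0, 6, 9, 15, 48, 54, 57, 63]

theorem fact_fourL : ∀ x ∈ fourL, x < 64 ∧ invS x ∈ fourL ∧ mulS x x = 0 ∧ comS x 9 = true ∧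
    ∀ y ∈ fourL, mulS x y ∈ fourL := by decide +kernel

theorem fact_rivL : ∀ x ∈ rivL, x < 64 ∧ invS x ∈ rivL ∧ comS 9 x = true ∧
    (∀ w ∈ [48, 54, 57, 63], comS w x = true) ∧ (x ∈ nineL → x = 15) ∧
    ∀ y ∈ rivL, mulS x y ∈ rivL := by decide +kernel

theorem fact_rival : ∀ w ∈ [48, 54, 57, 63], ∀ x < 64, comS x 9 = true → comS x w = true →
    x ∈ rivL := by decide +kernel

theorem fact_cand : ∀ w < 64, comS w 9 = true → mulS w w = 0 → w ∉ nineL → mulS w 9 ∉ nineL →
    w ≠ 0 → w ≠ 9 → w = 7 ∨ w = 14 ∨ w ∈ [48, 54, 57, 63] := by decide +kernel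

theorem fact_small : ∀ x < 64, x ≠ 0 → x ≠ 15 →
    ((List.range 64).filter fun y => comS y x).length ≤ 32 := by decide +kernel

theorem fact_nine : (((List.range 64).filter fun y => comS y 9).length = 32) ∧ mulS 7 9 = 14 ∧
    7 ∉ nineL ∧ 14 ∉ nineL ∧ 9 ∉ nineL ∧ comS 9 7 = true ∧ comS 9 14 = true := by decide +kernel

/-- Central 2-subgroups: a normal subgroup of odd order of the quotient lifts into `O(X) Z`. -/
theorem comap_le_sup {X : Type u} [Group X] [Finite X] (Z : Subgroup X) [Z.Normal]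
    (hZ : IsPGroup 2 Z) (hcen : Z ≤ center X) (N : Subgroup (X ⧸ Z)) [N.Normal]
    (hN : Odd (Nat.card N)) : N.comap (QuotientGroup.mk' Z) ≤ oddCore X ⊔ Z := by
  haveI : Fact (Nat.Prime 2) := ⟨Nat.prime_two⟩
  set K := N.comap (QuotientGroup.mk' Z) with hK
  haveI : K.Normal := inferInstanceAs (N.comap (QuotientGroup.mk' Z)).Normal
  set Z' := Z.subgroupOf K with hZ'
  have hidx : Z'.index = Nat.card N := by
    have h1 := relIndex_comap (⊥ : Subgroup (X ⧸ Z)) (QuotientGroup.mk' Z) K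
    rw [MonoidHom.comap_bot, QuotientGroup.ker_mk', hK,
      map_comap_eq_self_of_surjective (QuotientGroup.mk'_surjective Z), relIndex_bot_left] at h1
    exact h1
  have hcop : Nat.Coprime (Nat.card Z') Z'.index := by
    obtain ⟨a, ha⟩ := IsPGroup.iff_card.1 (hZ.comap_subtype (K := K))
    rw [show Nat.card Z' = 2 ^ a from ha, hidx]
    exact (Nat.coprime_two_left.2 hN).pow_left a
  obtain ⟨D, hD⟩ := exists_right_complement'_of_coprime hcop
  haveI : D.Normal := ⟨fun o ho g => by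
    obtain ⟨⟨⟨z, hz⟩, ⟨o', ho'⟩⟩, rfl⟩ := hD.2 g
    have hc : ∀ x : K, z * x = x * z := fun x => Subtype.ext
      (mem_center_iff.1 (hcen (mem_subgroupOf.1 hz)) (x : X)).symm
    show z * o' * o * (z * o')⁻¹ ∈ D
    rw [show z * o' * o * (z * o')⁻¹ = z * (o' * o * o'⁻¹) * z⁻¹ by group, hc,
      mul_inv_cancel_right]
    exact mul_mem (mul_mem ho' ho) (inv_mem ho')⟩
  have hDc : (Nat.card D).Coprime 2 := by
    rw [← hD.symm.index_eq_card, hidx]
    exact Nat.coprime_two_right.2 hN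
  haveI : ((pPrimeCore 2 K).map K.subtype).Normal := Cores.normal_map_subtype K _
  have hle : D.map K.subtype ≤ oddCore X :=
    (Subgroup.map_mono (Cores.le_pPrimeCore hDc)).trans (Cores.le_pPrimeCore (by
      rw [card_map_of_injective K.subtype_injective]
      exact Cores.pPrimeCore_coprime 2))
  intro x hx
  obtain ⟨⟨⟨z, hz⟩, ⟨d, hd⟩⟩, he⟩ := hD.2 ⟨x, hx⟩
  have he' : (z : X) * (d : X) = x := congrArg Subtype.val he
  exact he' ▸ mul_mem (mem_sup_right (mem_subgroupOf.1 hz)) (mem_sup_left (hle ⟨d, hd, rfl⟩))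

variable {G : Type u} [Group G] {M : Mdl G}

/-- The four group in `G`. -/
def fourSub (M : Mdl G) : Subgroup G :=
  listSub M fourL (by decide) fun x hx =>
    ⟨(fact_fourL x hx).1, (fact_fourL x hx).2.1, (fact_fourL x hx).2.2.2.2⟩

theorem mem_fourSub {g : G} : g ∈ fourSub M ↔ ∃ x ∈ fourL, M.ι x = g := Iff.rfl

theorem nine_mul_seven : M.ι 7 * M.ι 9 = M.ι 14 := by
  rw [← M.map_mul 7 (by norm_num) 9 (by norm_num), fact_nine.2.1]

variable [Finite G]

/-- Two elements of `C(z)` commuting, the first with a code in front. -/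
theorem code_comm_of_mul {o : G} (ho : o ∈ M.OH) {x y : ℕ} (hx : x < 64) (hy : y < 64)
    (h : o * M.ι x * M.ι y = M.ι y * (o * M.ι x)) : comS x y = true := by
  have hyn : M.ι y ∈ normalizer (cc (M.ι 15) : Set G) :=
    mem_normalizer_cc (by
      rw [← M.map_mul y hy 15 (by norm_num), ← M.map_mul 15 (by norm_num) y hy, fact_z.2 y hy])
  set o' := o⁻¹ * (M.ι y * o * (M.ι y)⁻¹) with ho'
  have ho'1 : o' = 1 := by
    refine eq_one_of_mem (not_two_dvd_cc (M.ι 15)) M.S.2 (mul_mem (inv_mem ho)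
      ((mem_normalizer_iff.1 hyn o).1 ho)) ?_
    have e : o' = M.ι x * M.ι y * (M.ι y * M.ι x)⁻¹ := by
      calc o' = o⁻¹ * (M.ι y * (o * M.ι x)) * (M.ι x)⁻¹ * (M.ι y)⁻¹ := by rw [ho']; group
        _ = o⁻¹ * (o * M.ι x * M.ι y) * (M.ι x)⁻¹ * (M.ι y)⁻¹ := by rw [h]
        _ = _ := by group
    rw [e]
    exact mul_mem (mul_mem (M.ι_mem hx) (M.ι_mem hy))
      (inv_mem (mul_mem (M.ι_mem hy) (M.ι_mem hx)))
  refine (M.commute_iff hx hy).2 ?_
  have h2 : M.ι y * o * (M.ι y)⁻¹ = o := (inv_mul_eq_one.1 ho'1).symm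
  calc M.ι x * M.ι y = o⁻¹ * (o * M.ι x * M.ι y) := by group
    _ = o⁻¹ * (M.ι y * o * (M.ι y)⁻¹) * (M.ι y * M.ι x) := by rw [h]; group
    _ = M.ι y * M.ι x := by rw [h2, inv_mul_cancel, one_mul]

/-- A rival of `7` in the centraliser of `9`. -/
theorem not_rival (h : NineCase M) {w : ℕ} (hw : w ∈ [48, 54, 57, 63]) {g : G}
    (hg : g * M.ι 9 = M.ι 9 * g) : g * M.ι 7 * g⁻¹ ≠ M.ι w := by
  classical
  intro he
  haveI : Fact (Nat.Prime 2) := ⟨Nat.prime_two⟩
  have hw64 : w < 64 := by simp only [List.mem_cons, List.not_mem_nil, or_false] at hw; omega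
  set T := centralizer ({M.ι 9, M.ι w} : Set G) with hT
  set R : Subgroup G := listSub M rivL (by decide) (fun x hx =>
    ⟨(fact_rivL x hx).1, (fact_rivL x hx).2.1, (fact_rivL x hx).2.2.2.2.2⟩) with hR
  have hRS : R ≤ (M.S : Subgroup G) := by
    rintro _ ⟨x, hx, rfl⟩
    exact M.ι_mem (fact_rivL x hx).1
  have hRT : R ≤ T := by
    rintro _ ⟨x, hx, rfl⟩
    rw [hT, mem_centralizer_iff]
    rintro y (rfl | rfl)
    · exact comm_of_code (by norm_num) (fact_rivL x hx).1 (fact_rivL x hx).2.2.1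
    · exact comm_of_code hw64 (fact_rivL x hx).1 ((fact_rivL x hx).2.2.2.1 w hw)
  set A' := M.A.map (MulAut.conj g).toMonoidHom with hA'
  have hA'T : A' ≤ T := by
    rintro _ ⟨a, ha, rfl⟩
    obtain ⟨c, hc, rfl⟩ := M.mem_base_iff.1 ha
    rw [hT, mem_centralizer_iff]
    have hg' : g * M.ι 9 * g⁻¹ = M.ι 9 := by rw [hg, mul_inv_cancel_right]
    rintro y (rfl | rfl)
    · show M.ι 9 * (g * M.ι c * g⁻¹) = g * M.ι c * g⁻¹ * M.ι 9
      conv_lhs => rw [← hg']
      conv_rhs => rw [← hg']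
      calc g * M.ι 9 * g⁻¹ * (g * M.ι c * g⁻¹) = g * (M.ι 9 * M.ι c) * g⁻¹ := by group
        _ = g * (M.ι c * M.ι 9) * g⁻¹ := by rw [M.w_comm (by norm_num) hc]
        _ = _ := by group
    · show M.ι w * (g * M.ι c * g⁻¹) = g * M.ι c * g⁻¹ * M.ι w
      rw [← he]
      calc g * M.ι 7 * g⁻¹ * (g * M.ι c * g⁻¹) = g * (M.ι 7 * M.ι c) * g⁻¹ := by group
        _ = g * (M.ι c * M.ι 7) * g⁻¹ := by rw [M.w_comm (by norm_num) hc]
        _ = _ := by group
  have hA'p : IsPGroup 2 A' := ((PGroups.elemAb_isPGroup M.base_elementary).map _)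
  obtain ⟨P, hP⟩ := (show IsPGroup 2 (R.subgroupOf T) from
    (M.S.2.to_le hRS).comap_subtype (K := T)).exists_le_sylow
  obtain ⟨P₂, hP₂⟩ := (show IsPGroup 2 (A'.subgroupOf T) from
    hA'p.comap_subtype (K := T)).exists_le_sylow
  set P' := (P : Subgroup T).map T.subtype with hP'
  have hP'p : IsPGroup 2 P' := P.2.map _
  have hcardP : 16 ≤ Nat.card ↥P' := by
    rw [hP', Subgroup.card_map_of_injective T.subtype_injective, P.card_eq_multiplicity,
      ← P₂.card_eq_multiplicity]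
    refine le_trans ?_ (Subgroup.card_le_of_le hP₂)
    rw [Nat.card_congr (subgroupOfEquivOfLe hA'T).toEquiv, hA',
      card_map_of_injective (MulAut.conj g).injective, M.base_card]
  have hRP : R ≤ P' := fun r hr => ⟨⟨r, hRT hr⟩, hP (mem_subgroupOf.2 hr), rfl⟩
  have hne : R ≠ P' := by
    intro e
    have hsub : (R : Set G) ⊆ ↑(rivL.toFinset.image M.ι) := by
      rintro _ ⟨x, hx, rfl⟩
      rw [Finset.coe_image]
      exact ⟨x, List.mem_toFinset.2 hx, rfl⟩
    have h1 : Nat.card ↥R ≤ (rivL.toFinset.image M.ι).card := by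
      rw [← Set.ncard_coe_finset]
      exact Set.ncard_le_ncard hsub (Finset.finite_toSet _)
    have h2 : (rivL.toFinset.image M.ι).card ≤ 8 := Finset.card_image_le.trans (by decide)
    rw [e] at h1
    omega
  obtain ⟨r, ⟨hrN, hrP⟩, hrR⟩ := SetLike.exists_of_lt
    (Cores.Normalizer.lt_normalizer_inf hP'p.isNilpotent (lt_of_le_of_ne hRP hne))
  refine hrR ?_
  have hz : M.ι 15 ∈ R := ⟨15, by decide, rfl⟩
  obtain ⟨y, hy, hye⟩ := (mem_normalizer_iff.1 hrN _).1 hz
  have hy15 : y = 15 := (fact_rivL y hy).2.2.2.2.1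
    (nine_of h (fact_rivL y hy).1 (hye ▸ isConj_iff.2 ⟨r, rfl⟩))
  have hrH : r ∈ M.H := mem_centralizer_singleton_iff.2 (by
    rw [hy15] at hye
    exact (mul_inv_eq_iff_eq_mul.1 hye.symm))
  obtain ⟨rT, hrTP, hrT⟩ := hrP
  have hrc := mem_centralizer_iff.1 (hrT ▸ rT.2 : r ∈ T)
  obtain ⟨o, ho, x, hx, rfl⟩ := h.cent r hrH (hrc _ (Or.inl rfl)).symm
  have h9 : comS x 9 = true := code_comm_of_mul ho hx (by norm_num) (hrc _ (Or.inl rfl)).symm
  have hwx : comS x w = true := code_comm_of_mul ho hx hw64 (hrc _ (Or.inr rfl)).symm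
  have hxR : M.ι x ∈ R := ⟨x, fact_rival w hw x hx h9 hwx, rfl⟩
  have hrP' : o * M.ι x ∈ P' := ⟨rT, hrTP, hrT⟩
  have ho1 : o = 1 := eq_one_of_mem (not_two_dvd_cc (M.ι 15)) hP'p ho
    (by simpa using mul_mem hrP' (inv_mem (hRP hxR)))
  rw [ho1, one_mul]
  exact hxR

/-- The centraliser of `9`. -/
abbrev centT (M : Mdl G) : Subgroup G := centralizer ({M.ι 9} : Set G)

theorem exists_sylow_centT (h : NineCase M) :
    ∃ P : Sylow 2 ↥(centT M), (P : Subgroup ↥(centT M)) = (M.S : Subgroup G).subgroupOf (centT M) := by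
  classical
  haveI : Fact (Nat.Prime 2) := ⟨Nat.prime_two⟩
  obtain ⟨P, hP⟩ := (show IsPGroup 2 ((M.S : Subgroup G).subgroupOf (centT M)) from
    M.S.2.comap_subtype (K := centT M)).exists_le_sylow
  refine ⟨P, (Subgroup.eq_of_le_of_card_ge hP ?_).symm⟩
  set St := (M.S : Subgroup G) ⊓ centT M with hSt
  have hle : St.subgroupOf (centT M) = (M.S : Subgroup G).subgroupOf (centT M) := by
    rw [hSt, Subgroup.inf_subgroupOf_right]
  rw [← hle, Nat.card_congr (subgroupOfEquivOfLe (inf_le_right : St ≤ centT M)).toEquiv,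
    ← card_map_of_injective (centT M).subtype_injective]
  set P' := (P : Subgroup ↥(centT M)).map (centT M).subtype with hP'
  obtain ⟨Q, hQ⟩ := (P.2.map (centT M).subtype).exists_le_sylow
  obtain ⟨k, hk⟩ := MulAction.exists_smul_eq G Q M.S
  have hinto : ∀ r ∈ P', k * r * k⁻¹ ∈ (M.S : Subgroup G) := fun r hr => by
    rw [← hk, Sylow.coe_subgroup_smul]
    exact Subgroup.smul_mem_pointwise_smul r (MulAut.conj k) _ (hQ hr)
  have h9P : M.ι 9 ∈ P' := ⟨⟨M.ι 9, mem_centralizer_singleton_iff.2 rfl⟩,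
    hP (mem_subgroupOf.2 (M.ι_mem (by norm_num))), rfl⟩
  obtain ⟨x, hx, hxe⟩ := (M.mem _).1 (hinto _ h9P)
  have hx0 : x ≠ 0 := by
    rintro rfl
    rw [M.map_zero, eq_comm, mul_inv_eq_one, mul_eq_left] at hxe
    exact M.ι_ne_one (by norm_num : (9 : ℕ) < 64) (by norm_num) hxe
  have hx15 : x ≠ 15 := by
    rintro rfl
    refine fact_nine.2.2.2.2.1 (nine_of h (by norm_num) (isConj_iff.2 ⟨k⁻¹, ?_⟩))
    show k⁻¹ * M.ι 15 * (k⁻¹)⁻¹ = M.ι 9
    rw [hxe]; group
  have h1 : Nat.card ↥P' ≤ 32 := by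
    refine le_trans ?_ (fact_small x hx hx0 hx15)
    set L := (List.range 64).filter fun y => comS y x with hL
    have hsub : ((P'.map (MulAut.conj k).toMonoidHom : Subgroup G) : Set G) ⊆
        ↑(L.toFinset.image M.ι) := by
      rintro _ ⟨r, hr, rfl⟩
      obtain ⟨y, hy, hye⟩ := (M.mem _).1 (hinto r hr)
      rw [Finset.coe_image]
      refine ⟨y, List.mem_toFinset.2 (List.mem_filter.2 ⟨List.mem_range.2 hy, ?_⟩), hye⟩
      refine (M.commute_iff hy hx).2 ?_
      rw [hye, hxe]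
      obtain ⟨⟨r', hr'⟩, -, rfl⟩ := hr
      have hc := mem_centralizer_singleton_iff.1 hr'
      calc k * r' * k⁻¹ * (k * M.ι 9 * k⁻¹) = k * (r' * M.ι 9) * k⁻¹ := by group
        _ = k * (M.ι 9 * r') * k⁻¹ := by rw [hc]
        _ = k * M.ι 9 * k⁻¹ * (k * r' * k⁻¹) := by group
    have hcm : Nat.card ↥(P'.map (MulAut.conj k).toMonoidHom) = Nat.card ↥P' :=
      card_map_of_injective (MulAut.conj k).injective
    rw [← hcm]
    refine le_trans ?_ ((Finset.card_image_le (f := M.ι) (s := L.toFinset)).trans L.toFinset_card_le)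
    rw [← Set.ncard_coe_finset]
    exact Set.ncard_le_ncard hsub (Finset.finite_toSet _)
  refine h1.trans ?_
  set L := (List.range 64).filter fun y => comS y 9 with hL
  have hsub : (↑(L.toFinset.image M.ι) : Set G) ⊆ (St : Set G) := by
    intro g hg
    rw [Finset.coe_image] at hg
    obtain ⟨y, hy, rfl⟩ := hg
    obtain ⟨hy64, hyc⟩ := List.mem_filter.1 (List.mem_toFinset.1 hy)
    exact ⟨M.ι_mem (List.mem_range.1 hy64), mem_centralizer_singleton_iff.2
      (comm_of_code (List.mem_range.1 hy64) (by norm_num) hyc)⟩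
  have h2 := Set.ncard_le_ncard hsub (Set.toFinite _)
  rw [Set.ncard_coe_finset, Finset.card_image_of_injOn,
    List.toFinset_card_of_nodup (List.nodup_range.filter _), fact_nine.1] at h2
  · exact h2
  · intro a ha b hb e
    exact M.inj a (List.mem_range.1 (List.mem_filter.1 (List.mem_toFinset.1 ha)).1) b
      (List.mem_range.1 (List.mem_filter.1 (List.mem_toFinset.1 hb)).1) e

/-- Conjugates of `7` inside the Sylow subgroup of the centraliser of `9`. -/
theorem conj_seven (h : NineCase M) {g : G} (hg : g * M.ι 9 = M.ι 9 * g)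
    (hS : g * M.ι 7 * g⁻¹ ∈ (M.S : Subgroup G)) :
    g * M.ι 7 * g⁻¹ = M.ι 7 ∨ g * M.ι 7 * g⁻¹ = M.ι 14 := by
  obtain ⟨w, hw, he⟩ := (M.mem _).1 hS
  have hg9 : g * M.ι 9 * g⁻¹ = M.ι 9 := by rw [hg, mul_inv_cancel_right]
  have hc9 : comS w 9 = true := (M.commute_iff hw (by norm_num)).2 (by
    rw [he]
    conv_lhs => rw [← hg9]
    conv_rhs => rw [← hg9]
    calc g * M.ι 7 * g⁻¹ * (g * M.ι 9 * g⁻¹) = g * (M.ι 7 * M.ι 9) * g⁻¹ := by group
      _ = g * (M.ι 9 * M.ι 7) * g⁻¹ := by rw [M.w_comm (a := 7) (by norm_num) (by norm_num)]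
      _ = _ := by group)
  have ho := (Basic.orderOf_conj_eq g (M.ι 7)).trans (M.orderOf_code (by norm_num) (by norm_num))
  rw [← he] at ho
  have hww : mulS w w = 0 := M.inj _ (mulS_lt hw hw) 0 (by norm_num)
    (by rw [M.map_mul w hw w hw, M.map_zero, Basic.invol_mul_self ho])
  have hw0 : w ≠ 0 := fun e => Basic.invol_ne_one ho (by rw [e, M.map_zero])
  have hw9 : w ≠ 9 := by
    rintro rfl
    have e := he.trans rfl
    rw [← hg9, mul_left_inj, mul_right_inj] at he
    exact absurd (M.inj 9 (by norm_num) 7 (by norm_num) he) (by norm_num)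
  have hwn : w ∉ nineL := fun hm => fact_nine.2.2.1
    (nine_of h (by norm_num) ((fu_of h hm).trans (isConj_iff.2 ⟨g⁻¹, by rw [he]; group⟩)))
  have hwn' : mulS w 9 ∉ nineL := fun hm => fact_nine.2.2.2.1
    (nine_of h (by norm_num) ((fu_of h hm).trans (isConj_iff.2 ⟨g⁻¹, by
      rw [M.map_mul w hw 9 (by norm_num), he, ← nine_mul_seven]
      conv_lhs => rw [← hg9]
      group⟩)))
  rcases fact_cand w hw hc9 hww hwn hwn' hw0 hw9 with rfl | rfl | hr
  · exact Or.inl he.symm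
  · exact Or.inr he.symm
  · exact absurd he.symm (not_rival h hr hg)

/-- `C(9) = O(C(9)) N(⟨9, 7⟩)`. -/
theorem exists_mul (h : NineCase M) {g : G} (hg : g ∈ centT M) :
    ∃ o ∈ cc (M.ι 9), ∃ n ∈ centT M,
      (n * M.ι 7 * n⁻¹ = M.ι 7 ∨ n * M.ι 7 * n⁻¹ = M.ι 14) ∧ g = o * n := by
  classical
  haveI : Fact (Nat.Prime 2) := ⟨Nat.prime_two⟩
  set C := centT M with hC
  obtain ⟨P, hP⟩ : ∃ P : Sylow 2 ↥C, (P : Subgroup ↥C) = (M.S : Subgroup G).subgroupOf C :=
    exists_sylow_centT h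
  have hm : ∀ x ∈ fourL, M.ι x ∈ C := fun x hx => mem_centralizer_singleton_iff.2
    (comm_of_code (fact_fourL x hx).1 (by norm_num) (fact_fourL x hx).2.2.2.1)
  set t : C := ⟨M.ι 9, hm 9 (by decide)⟩ with ht
  set l : C := ⟨M.ι 7, hm 7 (by decide)⟩ with hl
  have hot : orderOf t = 2 := by
    rw [ht, Subgroup.orderOf_mk]; exact M.orderOf_code (by norm_num) (by norm_num)
  set Z := zpowers t with hZ
  have hcen : Z ≤ center C := zpowers_le.2 (mem_center_iff.2 fun x => Subtype.ext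
    (mem_centralizer_singleton_iff.1 x.2))
  haveI : Z.Normal := ⟨fun a ha x => by
    rw [mem_center_iff.1 (hcen ha) x, mul_inv_cancel_right]; exact ha⟩
  have hZcard : Nat.card Z = 2 := by rw [hZ, Nat.card_zpowers, hot]
  have hZP : Z ≤ (P : Subgroup C) := zpowers_le.2 (by
    rw [hP, mem_subgroupOf]; exact M.ι_mem (by norm_num))
  have hlP : l ∈ (P : Subgroup C) := by rw [hP, mem_subgroupOf]; exact M.ι_mem (by norm_num)
  set π := QuotientGroup.mk' Z with hπ
  have hmemZ : ∀ a ∈ Z, a = 1 ∨ a = t := by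
    intro a ha
    obtain ⟨i, rfl⟩ := mem_zpowers_iff.1 ha
    have htt : t ^ (2 : ℤ) = 1 := by rw [zpow_two]; exact Basic.invol_mul_self hot
    rcases Int.even_or_odd i with ⟨m, rfl⟩ | ⟨m, rfl⟩
    · exact Or.inl (by rw [← two_mul, zpow_mul, htt, one_zpow])
    · exact Or.inr (by rw [zpow_add, zpow_mul, htt, one_zpow, one_mul, zpow_one])
  have hlo : orderOf (π l) = 2 := by
    refine orderOf_eq_prime ?_ fun e => ?_
    · rw [← map_pow, show l ^ 2 = 1 from Subtype.ext (by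
        rw [pow_two]; exact M.w_sq (by norm_num)), map_one]
    · rcases hmemZ l ((QuotientGroup.eq_one_iff l).1 e) with e' | e'
      · exact M.ι_ne_one (x := 7) (by norm_num) (by norm_num) (congrArg Subtype.val e')
      · exact absurd (M.inj 7 (by norm_num) 9 (by norm_num) (congrArg Subtype.val e')) (by norm_num)
  obtain ⟨N, hN, hNodd, hcomm⟩ := ZStar.UniqueCase.zstar
    (P.mapSurjective (QuotientGroup.mk'_surjective Z)) (π l) hlo ⟨l, hlP, rfl⟩ (by
      intro q hq
      obtain ⟨x, rfl⟩ := QuotientGroup.mk'_surjective Z q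
      obtain ⟨s, hs, hse⟩ := hq
      rw [← map_inv, ← map_mul, ← map_mul] at hse
      have hz : s⁻¹ * (x * l * x⁻¹) ∈ Z := QuotientGroup.eq.1 hse
      have hxP : x * l * x⁻¹ ∈ (P : Subgroup C) := by
        simpa using mul_mem (show s ∈ (P : Subgroup C) from hs) (hZP hz)
      rw [← map_inv, ← map_mul, ← map_mul]
      rw [hP, mem_subgroupOf] at hxP
      rcases conj_seven h (mem_centralizer_singleton_iff.1 x.2) hxP with e | e
      · exact congrArg π (Subtype.ext e)
      · refine (QuotientGroup.eq).2 ?_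
        have e' : x * l * x⁻¹ = l * t := Subtype.ext (e.trans nine_mul_seven.symm)
        rw [e', show (l * t)⁻¹ * l = t⁻¹ by group]
        exact inv_mem (mem_zpowers t))
  set O := oddCore C with hO
  have hcomm' : ∀ x : C, l * x * l⁻¹ * x⁻¹ ∈ O ⊔ Z := fun x =>
    comap_le_sup Z (IsPGroup.of_card (n := 1) (by rw [hZcard, pow_one])) hcen N hNodd
      (show π (l * x * l⁻¹ * x⁻¹) ∈ N by simpa only [map_mul, map_inv] using hcomm (π x))
  set V := (fourSub M).subgroupOf C with hV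
  have htV : t ∈ V := mem_subgroupOf.2 ⟨9, by decide, rfl⟩
  have hlV : l ∈ V := mem_subgroupOf.2 ⟨7, by decide, rfl⟩
  have hZV : Z ≤ V := zpowers_le.2 htV
  have hVmem : ∀ v ∈ V, v = 1 ∨ v = t ∨ v = l ∨ v = l * t := by
    intro v hv
    obtain ⟨x, hx, hxe⟩ := mem_subgroupOf.1 hv
    simp only [fourL, List.mem_cons, List.not_mem_nil, or_false] at hx
    rcases hx with rfl | rfl | rfl | rfl
    · exact Or.inl (Subtype.ext (by rw [← hxe, M.map_zero]; rfl))
    · exact Or.inr (Or.inl (Subtype.ext hxe.symm))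
    · exact Or.inr (Or.inr (Or.inr (Subtype.ext (hxe.symm.trans nine_mul_seven.symm))))
    · exact Or.inr (Or.inr (Or.inl (Subtype.ext hxe.symm)))
  set M0 := O ⊔ V with hM0
  haveI : O.Normal := inferInstanceAs (pPrimeCore 2 C).Normal
  have hOZ : O ⊔ Z ≤ M0 := sup_le_sup_left hZV O
  haveI : M0.Normal := ⟨fun a ha x => by
    obtain ⟨o, ho, v, hv, rfl⟩ := mem_sup_of_normal_left.1 ha
    rw [show x * (o * v) * x⁻¹ = x * o * x⁻¹ * (x * v * x⁻¹) by group]
    refine mul_mem (mem_sup_left (Normal.conj_mem inferInstance o ho x)) ?_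
    have htx : ∀ y : C, x * t * x⁻¹ = t := fun y => by
      rw [mem_center_iff.1 (hcen (mem_zpowers t)) x, mul_inv_cancel_right]
    have hlx : x * l * x⁻¹ ∈ M0 := by
      rw [show x * l * x⁻¹ = (l * x * l⁻¹ * x⁻¹)⁻¹ * l by group]
      exact mul_mem (inv_mem (hOZ (hcomm' x))) (mem_sup_right hlV)
    rcases hVmem v hv with rfl | rfl | rfl | rfl
    · simpa using one_mem M0
    · rw [htx 1]; exact mem_sup_right htV
    · exact hlx
    · rw [show x * (l * t) * x⁻¹ = x * l * x⁻¹ * (x * t * x⁻¹) by group, htx 1]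
      exact mul_mem hlx (mem_sup_right htV)⟩
  have hsq : ∀ m ∈ M0, ∃ j : ℕ, m ^ (2 ^ j) ∈ O := by
    intro m hm
    obtain ⟨o, ho, v, hv, rfl⟩ := mem_sup_of_normal_left.1 hm
    refine ⟨1, ?_⟩
    have hvv : v * v = 1 := by
      obtain ⟨x, hx, hxe⟩ := mem_subgroupOf.1 hv
      apply Subtype.ext
      show (v : G) * (v : G) = 1
      rw [← hxe, ← M.map_mul x (fact_fourL x hx).1 x (fact_fourL x hx).1, (fact_fourL x hx).2.2.1,
        M.map_zero]
    rw [pow_one, pow_two, show o * v * (o * v) = o * (v * o * v⁻¹) * (v * v) by group, hvv, mul_one]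
    exact mul_mem ho (Normal.conj_mem inferInstance o ho v)
  obtain ⟨c, hc, n, hn, he⟩ := ZJ.exists_frattini P (le_sup_left : O ≤ M0) hsq ⟨g, hg⟩
  have hinf : ∀ x ∈ (P : Subgroup C) ⊓ M0, x ∈ V := by
    intro x hx
    obtain ⟨hxP, hxM⟩ := mem_inf.1 hx
    obtain ⟨o, ho, v, hv, rfl⟩ := mem_sup_of_normal_left.1 hxM
    have hvP : v ∈ (P : Subgroup C) := by
      rcases hVmem v hv with rfl | rfl | rfl | rfl
      · exact one_mem _
      · exact hZP (mem_zpowers t)
      · exact hlP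
      · exact mul_mem hlP (hZP (mem_zpowers t))
    have ho1 : o = 1 := eq_one_of_mem (Cores.not_dvd_card_pPrimeCore 2) P.2 ho
      (by simpa using mul_mem hxP (inv_mem hvP))
    simpa [ho1] using hv
  have hn7 := hinf _ ((mem_normalizer_iff.1 hn l).1 ⟨hlP, mem_sup_right hlV⟩)
  refine ⟨c, ⟨c, hc, rfl⟩, n, n.2, ?_, congrArg Subtype.val he⟩
  rcases hVmem _ hn7 with e | e | e | e
  · exfalso
    exact M.ι_ne_one (x := 7) (by norm_num) (by norm_num) (congrArg Subtype.val
      (show l = 1 by rw [mul_inv_eq_one, mul_eq_left] at e; exact e))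
  · exfalso
    have : l = t := by
      rw [mul_inv_eq_iff_eq_mul, ← mem_center_iff.1 (hcen (mem_zpowers t)) n, mul_right_inj] at e
      exact e
    exact absurd (M.inj 7 (by norm_num) 9 (by norm_num) (congrArg Subtype.val this)) (by norm_num)
  · exact Or.inl (congrArg Subtype.val e)
  · exact Or.inr ((congrArg Subtype.val e).trans nine_mul_seven)

end Cfsg.Agent.Lib.A8Type36.Sig
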