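import Cfsg.Agent.Lib.A8Type36.SigBase
import Cfsg.Agent.Lib.Signalizer.Complete

/-!
# The case of nine: the signalizer of the pure elementary subgroup of order 8

helper34 (S2918).  The seven involutions `3, 12, 15, 16, 19, 28, 31` are all fused, so the odd cores
of their centralisers form a solvable signalizer functor; `Th`, generated by three of them, has odd
order and its normaliser `loc` contains `N(A)` and `C(z)`.
-/

set_option autoImplicit false
set_option maxRecDepth 100000
set_option linter.style.haveILetI false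

open Subgroup Cfsg

namespace Cfsg.Agent.Lib.A8Type36.Sig

open Cfsg.Agent.Lib.Involutions

universe u

/-- The pure elementary subgroup of order eight. -/
def pureL : List Nat := [0, 3, 12, 15, 16, 19, 28, 31]

theorem fact_pure : ∀ x ∈ pureL, x < 64 ∧ invS x = x ∧ mulS x x = 0 ∧ (x = 0 ∨ x ∈ nineL) ∧
    ∀ y ∈ pureL, mulS x y ∈ pureL ∧ mulS x y = mulS y x := by decide +kernel

theorem fact_nine_pairs : ∀ x ∈ nineL, x < 64 ∧ mulS x x = 0 ∧ x ≠ 0 ∧
    ((comS 3 x = true ∧ comS 12 x = true) ∨ (comS 5 x = true ∧ comS 10 x = true)) := by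
  decide +kernel

theorem fact_five_ten : (comS 5 10 = true ∧ comS 3 5 = true ∧ comS 12 5 = true ∧
    comS 3 10 = true ∧ comS 12 10 = true) ∧ (Nat.xor 5 10 = 15 ∧ Nat.xor 3 12 = 15) := by
  decide +kernel

variable {G : Type u} [Group G] {M : Mdl G}

/-- A set of codes closed under the multiplication gives a subgroup. -/
def listSub (M : Mdl G) (L : List Nat) (h0 : 0 ∈ L)
    (hm : ∀ x ∈ L, x < 64 ∧ invS x ∈ L ∧ ∀ y ∈ L, mulS x y ∈ L) : Subgroup G where
  carrier := {g | ∃ x ∈ L, M.ι x = g}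
  one_mem' := ⟨0, h0, M.map_zero⟩
  mul_mem' := by
    rintro _ _ ⟨a, ha, rfl⟩ ⟨b, hb, rfl⟩
    exact ⟨_, (hm a ha).2.2 b hb, M.map_mul a (hm a ha).1 b (hm b hb).1⟩
  inv_mem' := by
    rintro _ ⟨a, ha, rfl⟩
    exact ⟨_, (hm a ha).2.1, M.map_inv (hm a ha).1⟩

theorem mem_listSub {L : List Nat} {h0 : 0 ∈ L}
    {hm : ∀ x ∈ L, x < 64 ∧ invS x ∈ L ∧ ∀ y ∈ L, mulS x y ∈ L} {g : G} :
    g ∈ listSub M L h0 hm ↔ ∃ x ∈ L, M.ι x = g := Iff.rfl

/-- The pure subgroup. -/
def pureSub (M : Mdl G) : Subgroup G :=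
  listSub M pureL (by decide) fun x hx =>
    ⟨(fact_pure x hx).1, (fact_pure x hx).2.1.symm ▸ hx,
      fun y hy => ((fact_pure x hx).2.2.2.2 y hy).1⟩

theorem comm_of_code {x y : ℕ} (hx : x < 64) (hy : y < 64) (h : comS x y = true) :
    M.ι x * M.ι y = M.ι y * M.ι x := (M.commute_iff hx hy).1 h

theorem orderOf_inv64 {x : ℕ} (hx : x < 64) (h0 : x ≠ 0) (h : mulS x x = 0) :
    orderOf (M.ι x) = 2 :=
  Basic.invol_iff.2 ⟨by rw [← M.map_mul x hx x hx, h, M.map_zero], M.ι_ne_one hx h0⟩

/-- The join of the three odd cores. -/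
def Th (M : Mdl G) : Subgroup G := cc (M.ι 3) ⊔ cc (M.ι 12) ⊔ cc (M.ι 15)

/-- Its normaliser. -/
def loc (M : Mdl G) : Subgroup G := normalizer (Th M : Set G)

variable [Finite G]

theorem fu_of (h : NineCase M) {x : ℕ} (hx : x ∈ nineL) : IsConj M.z (M.ι x) :=
  (h.fused x (fact_nine_pairs x hx).1).2 hx

theorem nine_of (h : NineCase M) {x : ℕ} (hx : x < 64) (hz : IsConj M.z (M.ι x)) : x ∈ nineL :=
  (h.fused x hx).1 hz

theorem odd_Th (h : NineCase M) : ¬ 2 ∣ Nat.card ↥(Th M) := by
  classical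
  have hB := h.toBase
  have hE : IsElementaryAbelian 2 (pureSub M) := by
    refine PGroups.elemAb_mk ?_ ?_
    · rintro _ ⟨a, ha, rfl⟩ _ ⟨b, hb, rfl⟩
      rw [← M.map_mul a (fact_pure a ha).1 b (fact_pure b hb).1,
        ← M.map_mul b (fact_pure b hb).1 a (fact_pure a ha).1, ((fact_pure a ha).2.2.2.2 b hb).2]
    · rintro _ ⟨a, ha, rfl⟩
      rw [pow_two, ← M.map_mul a (fact_pure a ha).1 a (fact_pure a ha).1, (fact_pure a ha).2.2.1,
        M.map_zero]
  have hfu : ∀ e ∈ pureSub M, e ≠ 1 → IsConj M.z e ∧ orderOf e = 2 := by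
    rintro _ ⟨a, ha, rfl⟩ h1
    have ha0 : a ≠ 0 := fun e => h1 (e.symm ▸ M.map_zero)
    exact ⟨fu_of h ((fact_pure a ha).2.2.2.1.resolve_left ha0),
      orderOf_inv64 (fact_pure a ha).1 ha0 (fact_pure a ha).2.2.1⟩
  have hθ : IsSolvableSignalizerFunctor 2 (pureSub M) (fun e => cc e) := by
    refine ⟨⟨fun a _ _ => Balance.centralizerPPrimeCore_le a, fun a _ _ => not_two_dvd_cc a, ?_, ?_⟩, ?_⟩
    · intro a ha _ b hb x hx
      exact (mem_normalizer_iff.1 (mem_normalizer_cc (PGroups.elemAb_comm hE hb ha)) x).1 hx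
    · intro a ha ha1 b hb hb1
      exact balance hB (hfu a ha ha1).2 (hfu b hb hb1).1 (PGroups.elemAb_comm hE ha hb)
    · intro a ha ha1
      haveI := isSolvable_centralizer hB (hfu a ha ha1).1
      exact Group.isSolvable_of_isSolvable_injective
        (Subgroup.inclusion_injective (Balance.centralizerPPrimeCore_le (p := 2) a))
  have hcard : 2 ^ 3 ≤ Nat.card ↥(pureSub M) := by
    have hsub : (↑(pureL.toFinset.image M.ι) : Set G) ⊆ (pureSub M : Set G) := by
      intro g hg
      rw [Finset.coe_image] at hg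
      obtain ⟨x, hx, rfl⟩ := hg
      exact ⟨x, List.mem_toFinset.1 hx, rfl⟩
    have h2 := Set.ncard_le_ncard hsub (Set.toFinite _)
    rw [Set.ncard_coe_finset, Finset.card_image_of_injOn] at h2
    · exact le_trans (by decide) h2
    · intro a ha b hb e
      exact M.inj a (fact_pure a (List.mem_toFinset.1 ha)).1 b (fact_pure b (List.mem_toFinset.1 hb)).1 e
  obtain ⟨U, hU, hle⟩ := Signalizer.completes_two hE hcard hθ
  have hm : ∀ x ∈ pureL, x ≠ 0 → cc (M.ι x) ≤ U := fun x hx h0 =>
    hle _ ⟨x, hx, rfl⟩ (M.ι_ne_one (fact_pure x hx).1 h0)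
  exact fun hd => hU.2.1 (hd.trans (Subgroup.card_dvd_of_le (sup_le (sup_le
    (hm 3 (by decide) (by decide)) (hm 12 (by decide) (by decide)))
    (hm 15 (by decide) (by decide)))))

theorem cc_le_Th_of (h : NineCase M) {g : G} (hg : orderOf g = 2) (h3 : M.ι 3 * g = g * M.ι 3)
    (h12 : M.ι 12 * g = g * M.ι 12) : cc g ≤ Th M := by
  refine le_of_four (M.orderOf_code (a := 3) (by norm_num) (by norm_num))
    (M.orderOf_code (a := 12) (by norm_num) (by norm_num))
    (M.w_comm (by norm_num) (by norm_num)) (fun e => absurd (M.inj 3 (by norm_num) 12 (by norm_num) e)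
      (by norm_num)) (not_two_dvd_cc g) (mem_normalizer_cc h3) (mem_normalizer_cc h12) ?_
  rintro f (rfl | rfl | rfl)
  · exact (balance h.toBase hg (fu_of h (by decide)) h3.symm).trans (le_sup_left.trans le_sup_left)
  · exact (balance h.toBase hg (fu_of h (by decide)) h12.symm).trans (le_sup_right.trans le_sup_left)
  · have e : M.ι 3 * M.ι 12 = M.ι 15 := by rw [M.w_mul (by norm_num) (by norm_num)]; rfl
    rw [e]
    refine (balance h.toBase hg (fu_of h (by decide)) ?_).trans le_sup_right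
    rw [← e]
    exact ((show Commute g (M.ι 3) from h3.symm).mul_right h12.symm).eq

/-- The odd core at every fused involution of the Sylow subgroup lies in `Th`. -/
theorem cc_fused_le_Th (h : NineCase M) {x : ℕ} (hx : x ∈ nineL) : cc (M.ι x) ≤ Th M := by
  obtain ⟨hx64, hxx, hx0, hc | hc⟩ := fact_nine_pairs x hx
  · exact cc_le_Th_of h (orderOf_inv64 hx64 hx0 hxx) (comm_of_code (by norm_num) hx64 hc.1)
      (comm_of_code (by norm_num) hx64 hc.2)
  have h5 : cc (M.ι 5) ≤ Th M := cc_le_Th_of h (M.orderOf_code (by norm_num) (by norm_num))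
    (M.w_comm (by norm_num) (by norm_num)) (M.w_comm (by norm_num) (by norm_num))
  have h10 : cc (M.ι 10) ≤ Th M := cc_le_Th_of h (M.orderOf_code (by norm_num) (by norm_num))
    (M.w_comm (by norm_num) (by norm_num)) (M.w_comm (by norm_num) (by norm_num))
  have hg := orderOf_inv64 (M := M) hx64 hx0 hxx
  have c5 := comm_of_code (M := M) (by norm_num : 5 < 64) hx64 hc.1
  have c10 := comm_of_code (M := M) (by norm_num : 10 < 64) hx64 hc.2
  refine le_of_four (M.orderOf_code (a := 5) (by norm_num) (by norm_num))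
    (M.orderOf_code (a := 10) (by norm_num) (by norm_num))
    (M.w_comm (by norm_num) (by norm_num)) (fun e => absurd (M.inj 5 (by norm_num) 10 (by norm_num) e)
      (by norm_num)) (not_two_dvd_cc _) (mem_normalizer_cc c5) (mem_normalizer_cc c10) ?_
  rintro f (rfl | rfl | rfl)
  · exact (balance h.toBase hg (fu_of h (by decide)) c5.symm).trans h5
  · exact (balance h.toBase hg (fu_of h (by decide)) c10.symm).trans h10
  · have e : M.ι 5 * M.ι 10 = M.ι 15 := by rw [M.w_mul (by norm_num) (by norm_num)]; rfl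
    rw [e]
    refine (balance h.toBase hg (fu_of h (by decide)) ?_).trans le_sup_right
    rw [← e]
    exact ((show Commute (M.ι x) (M.ι 5) from c5.symm).mul_right c10.symm).eq

theorem mem_loc_of (h : NineCase M) {n : G}
    (hn : ∀ x ∈ [3, 12, 15], n * M.ι x * n⁻¹ ∈ (M.S : Subgroup G)) : n ∈ loc M := by
  have key : ∀ x ∈ [3, 12, 15], x ∈ nineL →
      (cc (M.ι x)).map (MulAut.conj n).toMonoidHom ≤ Th M := by
    intro x hx hx9
    obtain ⟨y, hy, e⟩ := (M.mem _).1 (hn x hx)
    rw [← Balance.centralizerPPrimeCore_conj (p := 2), ← e]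
    refine cc_fused_le_Th h (nine_of h hy ?_)
    rw [e]
    exact (fu_of h hx9).trans (isConj_iff.2 ⟨n, rfl⟩)
  rw [loc, mem_normalizer_iff_map_conj_eq]
  refine Subgroup.eq_of_le_of_card_ge ?_
    (le_of_eq (Subgroup.card_map_of_injective (MulAut.conj n).injective).symm)
  rw [Th, Subgroup.map_sup, Subgroup.map_sup]
  exact sup_le (sup_le (key 3 (by simp) (by decide)) (key 12 (by simp) (by decide)))
    (key 15 (by simp) (by decide))

theorem normalizer_le_loc (h : NineCase M) : normalizer (M.A : Set G) ≤ loc M := fun n hn =>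
  mem_loc_of h fun x hx => M.base_le_sylow ((mem_normalizer_iff.1 hn _).1
    (M.code_mem_base (by simp at hx; omega)))

theorem S_le_loc (h : NineCase M) : (M.S : Subgroup G) ≤ loc M :=
  M.sylow_le_normalizer.trans (normalizer_le_loc h)

theorem Th_le_loc : Th M ≤ loc M := Subgroup.le_normalizer

theorem Q_le_S : M.Q ≤ (M.S : Subgroup G) := by
  rw [Mdl.Q, closure_le]
  rintro _ ⟨x, ⟨hx, -⟩, rfl⟩
  exact M.ι_mem hx

theorem H_le_loc (h : NineCase M) : M.H ≤ loc M := by
  intro g hg
  obtain ⟨o, ho, n, -, hnQ, rfl⟩ := h.frat g hg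
  refine mul_mem (Th_le_loc ((le_sup_right : cc (M.ι 15) ≤ Th M) ho)) (mem_loc_of h fun x hx => ?_)
  refine Q_le_S ((hnQ _).2 (subset_closure ⟨x, ?_, rfl⟩))
  simp only [List.mem_cons, List.not_mem_nil, or_false] at hx
  rcases hx with rfl | rfl | rfl <;> exact ⟨by norm_num, by decide⟩

/-- The centralisers of the fused involutions of `A`. -/
theorem centralizer_fused_le (h : NineCase M) {a : ℕ} (ha : a < 16) (ha9 : a ∈ nineL) :
    centralizer ({M.ι a} : Set G) ≤ loc M := by
  obtain ⟨n, hn, e⟩ := M.fusion_base (M.code_mem_base (show 15 < 16 by norm_num))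
    (M.code_mem_base ha) (fu_of h ha9)
  intro g hg
  have hg' : n⁻¹ * g * n ∈ M.H := by
    refine mem_centralizer_singleton_iff.2 ?_
    have hc := mem_centralizer_singleton_iff.1 hg
    rw [← e] at hc
    show n⁻¹ * g * n * M.ι 15 = M.ι 15 * (n⁻¹ * g * n)
    calc n⁻¹ * g * n * M.ι 15 = n⁻¹ * (g * (n * M.ι 15 * n⁻¹)) * n := by group
      _ = M.ι 15 * (n⁻¹ * g * n) := by rw [hc]; group
  have hnl := normalizer_le_loc h hn
  simpa [mul_assoc] using mul_mem (mul_mem hnl (H_le_loc h hg')) (inv_mem hnl)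

/-- A subgroup of odd order normalised by `3` and `12`. -/
theorem le_loc_of_odd (h : NineCase M) {K : Subgroup G} (hK : ¬ 2 ∣ Nat.card ↥K)
    (h3 : M.ι 3 ∈ normalizer (K : Set G)) (h12 : M.ι 12 ∈ normalizer (K : Set G)) : K ≤ loc M := by
  refine le_of_four (M.orderOf_code (a := 3) (by norm_num) (by norm_num))
    (M.orderOf_code (a := 12) (by norm_num) (by norm_num))
    (M.w_comm (by norm_num) (by norm_num)) (fun e => absurd (M.inj 3 (by norm_num) 12 (by norm_num) e)
      (by norm_num)) hK h3 h12 ?_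
  rintro f (rfl | rfl | rfl)
  · exact inf_le_right.trans (centralizer_fused_le h (by norm_num) (by decide))
  · exact inf_le_right.trans (centralizer_fused_le h (by norm_num) (by decide))
  · rw [M.w_mul (by norm_num) (by norm_num)]
    exact inf_le_right.trans (centralizer_fused_le h (by decide) (by decide))

/-- The normaliser is proper unless `Th` is trivial. -/
theorem Th_eq_bot_of_loc (h : NineCase M) (hl : loc M = ⊤) : Th M = ⊥ := by
  haveI : (Th M).Normal := Subgroup.normalizer_eq_top_iff.1 hl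
  exact le_bot_iff.1 (h.core ▸ Cores.le_pPrimeCore_of_not_dvd (odd_Th h))

end Cfsg.Agent.Lib.A8Type36.Sig
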