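import Cfsg.Agent.Lib.A8Type36.Code

/-!
# Computed facts for the configuration of three

helper56 (S2918).  `E₁` has the codes `e1C i`, additive in `i < 8`; a linear map of it is the number
`a + 8 b + 64 c` of the images of `1, 2, 4`.
-/

set_option autoImplicit false
set_option maxRecDepth 100000
set_option Elab.async false

namespace Cfsg.Agent.Lib.A8Type36

/-- The codes of `E₁`. -/
def e1C (i : Nat) : Nat := [0, 15, 3, 12, 16, 31, 19, 28].getD i 0

/-- The index of a code of `E₁`, `8` otherwise. -/
def e1I (x : Nat) : Nat := ([0, 15, 3, 12, 16, 31, 19, 28].findIdx fun y => Nat.beq y x)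

/-- Value of a linear map of `E₁`. -/
def appF (f i : Nat) : Nat :=
  Nat.xor (Nat.xor (pick i 0 (f % 8)) (pick i 1 (f / 8 % 8))) (pick i 2 (f / 64))

/-- The linear map with given values on `1, 2, 4`. -/
def mkF (a b c : Nat) : Nat := a + 8 * b + 64 * c

/-- Composition. -/
def compF (f g : Nat) : Nat := mkF (appF f (appF g 1)) (appF f (appF g 2)) (appF f (appF g 4))

/-- The conjugation by a code. -/
def cjF (g : Nat) : Nat := mkF (e1I (cjS g (e1C 1))) (e1I (cjS g (e1C 2))) (e1I (cjS g (e1C 4)))

/-- The map is the identity. -/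
def oneF (f : Nat) : Bool := (List.range 8).all fun i => Nat.beq (appF f i) i

/-- The map is injective. -/
def injF (f : Nat) : Bool := (List.range 8).all fun i => Nat.beq i 0 || !Nat.beq (appF f i) 0

/-- The fourth power. -/
def pow4F (f : Nat) : Nat := (fun f2 => compF f2 f2) (compF f f)

/-- The twentieth power. -/
def pow20F (f : Nat) : Nat := (fun f4 => compF (pow4F f4) f4) (pow4F f)

/-- The twenty-first power. -/
def pow21F (f : Nat) : Nat := compF f (pow20F f)

theorem fact_e1 : ∀ i < 8, e1C i < 64 ∧ e1I (e1C i) = i ∧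
    ∀ j < 8, mulS (e1C i) (e1C j) = e1C (Nat.xor i j) ∧ Nat.xor i j < 8 := by decide +kernel

theorem fact_cjF : ∀ g < 64, cjF g < 512 ∧
    ∀ i < 8, appF (cjF g) i < 8 ∧ cjS g (e1C i) = e1C (appF (cjF g) i) := by decide +kernel

theorem fact_order : ((List.range 512).all fun f => !injF f || oneF (pow21F f) || oneF (pow4F f)) = true := by
  decide +kernel

theorem fact_dense : ((List.range 512).all fun f => !injF f || !oneF (pow21F f) || oneF f ||
    (List.range 64).any fun g =>
      !oneF (pow21F (compF f (compF (cjF g) (compF (pow20F f) (cjF (invS g))))))) = true := by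
  decide +kernel

theorem fact_climb : ((List.range 64).all fun x => Nat.blt (e1I x) 8 ||
    (List.range 8).any fun i => Nat.beq (mulS x (e1C i)) 5 ||
      (List.range 64).any fun g => Nat.beq (mulS (cmS g x) (e1C i)) 5) = true := by decide +kernel

theorem fact_e1I : ∀ x < 64, e1I x < 8 → e1C (e1I x) = x := by decide +kernel

theorem fact_five : mulS 5 5 = 0 ∧ ¬ e1I 5 < 8 := by decide +kernel

theorem fact_fused_e1 : ∀ x < 64, (x = 0 ∨ x ∈ [15, 3, 12, 16, 19, 28, 31]) ↔ e1I x < 8 := by decide +kernel

theorem fact_appF : ((List.range 512).all fun f => (List.range 8).all fun i => Nat.blt (appF f i) 8 &&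
    (List.range 8).all fun j => Nat.beq (appF f (Nat.xor i j)) (Nat.xor (appF f i) (appF f j))) = true := by
  decide +kernel

theorem fact_mkF : ((List.range 8).all fun a => (List.range 8).all fun b => (List.range 8).all fun c =>
    Nat.beq (appF (mkF a b c) 1) a && Nat.beq (appF (mkF a b c) 2) b && Nat.beq (appF (mkF a b c) 4) c) = true := by
  decide +kernel

theorem fact_invS : ∀ y < 64, mulS y (invS y) = 0 := by decide +kernel

end Cfsg.Agent.Lib.A8Type36
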