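import Cfsg.Agent.Lib.A8Type36.Strong
import Cfsg.Agent.Lib.A8Type36.ThreeFacts
import Cfsg.Agent.Lib.Cores.Pi
import Cfsg.Agent.S2775

/-!
# The configuration of three does not occur

helper56 (S2918, step 4).  The fused involutions and `1` form the strongly closed subgroup `E₁` of
order 8.  By Goldschmidt all involutions of `S ∩ K`, `K = ⟨E₁^G⟩`, lie in it, which forces
`S ∩ K = E₁`.  No non-trivial odd group of automorphisms of `E₁` is normalised by the image of `S`,
so Burnside's transfer theorem makes `K` a normal 2-subgroup.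
-/

set_option autoImplicit false
set_option linter.style.haveILetI false

open Subgroup Cfsg
open scoped Pointwise

namespace Cfsg.Agent.Lib.A8Type36

universe u

variable {G : Type u} [Group G]

theorem mkF_lt {a b c : ℕ} (ha : a < 8) (hb : b < 8) (hc : c < 8) : mkF a b c < 512 := by
  unfold mkF; omega

theorem appF_lt : ∀ f < 512, ∀ i < 8, appF f i < 8 := fun f hf i hi => by
  have := List.all_eq_true.1 (List.all_eq_true.1 fact_appF f (List.mem_range.2 hf)) i (List.mem_range.2 hi)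
  rw [Bool.and_eq_true] at this
  exact Nat.le_of_ble_eq_true this.1

theorem compF_lt {f g : ℕ} (hf : f < 512) (hg : g < 512) : compF f g < 512 :=
  mkF_lt (appF_lt f hf _ (appF_lt g hg _ (by norm_num))) (appF_lt f hf _ (appF_lt g hg _ (by norm_num)))
    (appF_lt f hf _ (appF_lt g hg _ (by norm_num)))

theorem appF_linear : ∀ f < 512, ∀ i < 8, ∀ j < 8, appF f (Nat.xor i j) = Nat.xor (appF f i) (appF f j) :=
  fun f hf i hi j hj => by
  have := List.all_eq_true.1 (List.all_eq_true.1 fact_appF f (List.mem_range.2 hf)) i (List.mem_range.2 hi)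
  rw [Bool.and_eq_true] at this
  exact Nat.eq_of_beq_eq_true (List.all_eq_true.1 this.2 j (List.mem_range.2 hj))

theorem appF_mkF : ∀ a < 8, ∀ b < 8, ∀ c < 8,
    appF (mkF a b c) 1 = a ∧ appF (mkF a b c) 2 = b ∧ appF (mkF a b c) 4 = c := fun a ha b hb c hc => by
  have := List.all_eq_true.1 (List.all_eq_true.1 (List.all_eq_true.1 fact_mkF a (List.mem_range.2 ha)) b
    (List.mem_range.2 hb)) c (List.mem_range.2 hc)
  rw [Bool.and_eq_true, Bool.and_eq_true] at this
  exact ⟨Nat.eq_of_beq_eq_true this.1.1, Nat.eq_of_beq_eq_true this.1.2, Nat.eq_of_beq_eq_true this.2⟩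

namespace Mdl

variable (M : Mdl G)

/-- The elements of `E₁`. -/
def e1 (i : ℕ) : G := M.ι (e1C i)

/-- Conjugation by `m` induces the map `f` on `E₁`. -/
def ActsE (m : G) (f : ℕ) : Prop := ∀ i < 8, m * M.e1 i * m⁻¹ = M.e1 (appF f i)

theorem e1_mul {i j : ℕ} (hi : i < 8) (hj : j < 8) : M.e1 i * M.e1 j = M.e1 (Nat.xor i j) := by
  rw [e1, e1, e1, ← M.map_mul _ (fact_e1 i hi).1 _ (fact_e1 j hj).1, ((fact_e1 i hi).2.2 j hj).1]

theorem e1_inj {i j : ℕ} (hi : i < 8) (hj : j < 8) (h : M.e1 i = M.e1 j) : i = j := by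
  have := M.inj _ (fact_e1 i hi).1 _ (fact_e1 j hj).1 h
  rw [← (fact_e1 i hi).2.1, this, (fact_e1 j hj).2.1]

/-- A homomorphism is determined by the generators. -/
theorem actsE_of_gens {m : G} {f : ℕ} (hf : f < 512) (h1 : m * M.e1 1 * m⁻¹ = M.e1 (appF f 1))
    (h2 : m * M.e1 2 * m⁻¹ = M.e1 (appF f 2)) (h4 : m * M.e1 4 * m⁻¹ = M.e1 (appF f 4)) :
    M.ActsE m f := by
  have hmul : ∀ i < 8, ∀ j < 8, m * M.e1 i * m⁻¹ = M.e1 (appF f i) →
      m * M.e1 j * m⁻¹ = M.e1 (appF f j) →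
      m * M.e1 (Nat.xor i j) * m⁻¹ = M.e1 (appF f (Nat.xor i j)) := by
    intro i hi j hj ei ej
    rw [appF_linear f hf i hi j hj, ← M.e1_mul (appF_lt f hf i hi) (appF_lt f hf j hj), ← ei, ← ej,
      ← M.e1_mul hi hj]
    group
  intro i hi
  have h0 := hmul 1 (by norm_num) 1 (by norm_num) h1 h1
  have h3 := hmul 1 (by norm_num) 2 (by norm_num) h1 h2
  have h5 := hmul 1 (by norm_num) 4 (by norm_num) h1 h4
  have h6 := hmul 2 (by norm_num) 4 (by norm_num) h2 h4
  have h7 := hmul 3 (by norm_num) 4 (by norm_num) h3 h4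
  interval_cases i
  exacts [h0, h1, h2, h3, h4, h5, h6, h7]

theorem ActsE.comp {m m' : G} {f f' : ℕ} (hf : f < 512) (hf' : f' < 512) (h : M.ActsE m f)
    (h' : M.ActsE m' f') : M.ActsE (m * m') (compF f f') := by
  have key : ∀ i < 8, m * m' * M.e1 i * (m * m')⁻¹ = M.e1 (appF f (appF f' i)) := by
    intro i hi
    calc m * m' * M.e1 i * (m * m')⁻¹ = m * (m' * M.e1 i * m'⁻¹) * m⁻¹ := by group
      _ = _ := by rw [h' i hi, h _ (appF_lt f' hf' i hi)]
  obtain ⟨e1', e2', e4'⟩ := appF_mkF _ (appF_lt f hf _ (appF_lt f' hf' 1 (by norm_num)))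
    _ (appF_lt f hf _ (appF_lt f' hf' 2 (by norm_num))) _ (appF_lt f hf _ (appF_lt f' hf' 4 (by norm_num)))
  refine M.actsE_of_gens (compF_lt hf hf') ?_ ?_ ?_ <;> rw [key _ (by norm_num)]
  · exact congrArg M.e1 e1'.symm
  · exact congrArg M.e1 e2'.symm
  · exact congrArg M.e1 e4'.symm

theorem ActsE.pow4 {m : G} {f : ℕ} (hf : f < 512) (h : M.ActsE m f) :
    M.ActsE (m ^ 4) (pow4F f) ∧ pow4F f < 512 := by
  have h2 := ActsE.comp M hf hf h h
  refine ⟨?_, compF_lt (compF_lt hf hf) (compF_lt hf hf)⟩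
  rw [show m ^ 4 = m * m * (m * m) by simp [pow_succ, mul_assoc]]
  exact ActsE.comp M (compF_lt hf hf) (compF_lt hf hf) h2 h2

theorem ActsE.pow20 {m : G} {f : ℕ} (hf : f < 512) (h : M.ActsE m f) :
    M.ActsE (m ^ 20) (pow20F f) ∧ pow20F f < 512 := by
  obtain ⟨h4, hl⟩ := ActsE.pow4 M hf h
  obtain ⟨h16, hl'⟩ := ActsE.pow4 M hl h4
  refine ⟨?_, compF_lt hl' hl⟩
  rw [show m ^ 20 = (m ^ 4) ^ 4 * m ^ 4 by group]
  exact ActsE.comp M hl' hl h16 h4

theorem ActsE.pow21 {m : G} {f : ℕ} (hf : f < 512) (h : M.ActsE m f) :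
    M.ActsE (m ^ 21) (pow21F f) ∧ pow21F f < 512 := by
  obtain ⟨h20, hl⟩ := ActsE.pow20 M hf h
  refine ⟨?_, compF_lt hf hl⟩
  rw [show m ^ 21 = m * m ^ 20 by group]
  exact ActsE.comp M hf hl h h20

theorem ActsE.injF {m : G} {f : ℕ} (_hf : f < 512) (h : M.ActsE m f) :
    A8Type36.injF f = true := by
  refine List.all_eq_true.2 fun i hi => ?_
  have hi' := List.mem_range.1 hi
  rw [Bool.or_eq_true]
  by_cases h0 : appF f i = 0
  · left
    have h1 := h i hi'
    have hz : M.e1 0 = 1 := M.code_zero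
    rw [h0, hz, conj_eq_one_iff, ← hz] at h1
    rw [M.e1_inj hi' (by norm_num) h1]; rfl
  · right
    cases hb : Nat.beq (appF f i) 0
    · rfl
    · exact absurd (Nat.eq_of_beq_eq_true hb) h0

/-- The identity map is induced by centralising elements only. -/
theorem ActsE.oneF_iff {m : G} {f : ℕ} (hf : f < 512) (h : M.ActsE m f) :
    oneF f = true ↔ ∀ i < 8, m * M.e1 i = M.e1 i * m := by
  rw [oneF, List.all_eq_true]
  constructor
  · intro h1 i hi
    have := h i hi
    rw [Nat.eq_of_beq_eq_true (h1 i (List.mem_range.2 hi))] at this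
    exact mul_inv_eq_iff_eq_mul.1 this
  · intro h1 i hi
    have hi' := List.mem_range.1 hi
    rw [M.e1_inj (appF_lt f hf i hi') hi' ((h i hi').symm.trans (mul_inv_eq_iff_eq_mul.2 (h1 i hi')))]
    exact Nat.beq_refl _

/-- The subgroup `E₁`. -/
def e1Sub : Subgroup G where
  carrier := {g | ∃ i < 8, M.e1 i = g}
  one_mem' := ⟨0, by norm_num, M.code_zero⟩
  mul_mem' := by
    rintro _ _ ⟨i, hi, rfl⟩ ⟨j, hj, rfl⟩
    exact ⟨Nat.xor i j, ((fact_e1 i hi).2.2 j hj).2, (M.e1_mul hi hj).symm⟩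
  inv_mem' := by
    rintro _ ⟨i, hi, rfl⟩
    refine ⟨i, hi, eq_inv_of_mul_eq_one_right ?_⟩
    rw [M.e1_mul hi hi, show Nat.xor i i = 0 from Nat.xor_self i]
    exact M.code_zero

/-- In the configuration of three there is no group. -/
theorem false_of_three [Finite G] (hcore : oddCore G = ⊥) (hcore2 : pCore 2 G = ⊥)
    (hfused : ∀ x < 64, (M.Fu x ↔ x ∈ [15, 3, 12, 16, 19, 28, 31])) : False := by
  classical
  haveI : Fact (Nat.Prime 2) := ⟨Nat.prime_two⟩
  set E := M.e1Sub with hEdef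
  have hEmem : ∀ i < 8, M.e1 i ∈ E := fun i hi => ⟨i, hi, rfl⟩
  have hES : E ≤ (M.S : Subgroup G) := by
    rintro _ ⟨i, hi, rfl⟩; exact M.code_mem_sylow (fact_e1 i hi).1
  have hcode : ∀ x < 64, M.ι x ∈ E → e1I x < 8 := by
    rintro x hx ⟨i, hi, e⟩
    rw [← M.inj _ (fact_e1 i hi).1 _ hx e, (fact_e1 i hi).2.1]; exact hi
  have hcode' : ∀ x < 64, e1I x < 8 → M.ι x ∈ E := fun x hx h => ⟨e1I x, h, by
    show M.ι (e1C (e1I x)) = M.ι x
    rw [fact_e1I x hx h]⟩
  have hab : IsMulCommutative ↥E := by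
    refine ⟨⟨fun a b => ?_⟩⟩
    obtain ⟨i, hi, ei⟩ := a.2
    obtain ⟨j, hj, ej⟩ := b.2
    apply Subtype.ext
    rw [Subgroup.coe_mul, Subgroup.coe_mul, ← ei, ← ej, M.e1_mul hi hj, M.e1_mul hj hi]
    exact congrArg M.e1 (Nat.xor_comm i j)
  have hsc : IsStronglyClosed E (M.S : Subgroup G) := by
    refine ⟨hES, ?_⟩
    intro y hy g hg
    rcases eq_or_ne y 1 with rfl | hy1
    · simp
    obtain ⟨i, hi, rfl⟩ := hy
    obtain ⟨x, hx, ex⟩ := (M.mem _).1 hg
    have hfi : M.Fu (e1C i) := by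
      refine (hfused _ (fact_e1 i hi).1).2 ?_
      rcases (fact_fused_e1 _ (fact_e1 i hi).1).2 (by rw [(fact_e1 i hi).2.1]; exact hi) with h | h
      · exact absurd ((congrArg M.ι h).trans M.code_zero) hy1
      · exact h
    rw [← ex]
    refine hcode' x hx ((fact_fused_e1 x hx).1 (Or.inr ((hfused x hx).1 ?_)))
    show IsConj M.z (M.ι x)
    rw [ex]
    exact hfi.trans (isConj_iff.2 ⟨g, rfl⟩)
  set K := normalClosure (E : Set G) with hK
  have hEK : E ≤ K := fun x hx => subset_normalClosure hx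
  haveI : K.Normal := normalClosure_normal
  have hKodd : pPrimeCore 2 ↥K = ⊥ := by
    haveI : ((oddCore ↥K).map K.subtype).Normal := Cores.normal_map_subtype K _
    refine (map_eq_bot_iff_of_injective (f := K.subtype) _ K.subtype_injective).1
      (le_bot_iff.1 (hcore ▸ Cores.le_oddCore (N := (oddCore ↥K).map K.subtype) ?_))
    rw [card_map_of_injective K.subtype_injective]
    exact Cores.oddCore_odd
  -- Goldschmidt: the involutions of `S ∩ K` lie in `E₁`
  obtain ⟨-, -, ⟨T, hET, hEom⟩, -⟩ := S2775.result M.S E hab hsc K hK ↥K (MonoidHom.id ↥K)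
    Function.surjective_id (by rw [hKodd]; exact MonoidHom.ker_id)
  rw [Subgroup.map_id] at hET hEom
  have hinv : ∀ y ∈ K, y ∈ (M.S : Subgroup G) → y * y = 1 → y ∈ E := by
    intro y hyK hyS hy2
    rcases eq_or_ne y 1 with rfl | hy1
    · exact one_mem _
    have hord : orderOf (⟨y, hyK⟩ : ↥K) = 2 :=
      orderOf_eq_prime (Subtype.ext (by simpa [pow_two] using hy2)) fun h => hy1 (congrArg Subtype.val h)
    obtain ⟨P, hP⟩ := (show IsPGroup 2 ↥(zpowers (⟨y, hyK⟩ : ↥K)) from
      IsPGroup.of_card (n := 1) (by rw [Nat.card_zpowers, hord, pow_one])).exists_le_sylow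
    obtain ⟨k, hk⟩ := MulAction.exists_smul_eq ↥K P T
    have hmem : k * ⟨y, hyK⟩ * k⁻¹ ∈ (T : Subgroup ↥K) := by
      rw [← hk, Sylow.coe_subgroup_smul]
      exact smul_mem_pointwise_smul _ (MulAut.conj k) _ (hP (mem_zpowers _))
    set y' : ↥(T : Subgroup ↥K) := ⟨_, hmem⟩
    have hy'E : k * ⟨y, hyK⟩ * k⁻¹ ∈ E.subgroupOf K := by
      rw [hEom]
      refine mem_sup_right ?_
      rw [omegaOne]
      refine subset_closure ?_
      refine ⟨hmem, ?_⟩
      rw [conj_pow, ← hord, pow_orderOf_eq_one, mul_one, mul_inv_cancel]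
    have h1 : (k : G) * y * (k : G)⁻¹ ∈ E := hy'E
    have h2 := hsc.2 _ h1 (k : G)⁻¹ (by simpa [mul_assoc] using hyS)
    simpa [mul_assoc] using h2
  -- hence `S ∩ K = E₁`
  have hSK : ∀ x < 64, M.ι x ∈ K → e1I x < 8 := by
    intro x hx hxK
    by_contra hx8
    have h5 : M.ι 5 ∈ K := by
      have c := List.all_eq_true.1 fact_climb x (List.mem_range.2 hx)
      rw [Bool.or_eq_true] at c
      rcases c with c | c
      · exact absurd (Nat.le_of_ble_eq_true c) hx8
      obtain ⟨i, hi, c⟩ := List.any_eq_true.1 c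
      rw [Bool.or_eq_true] at c
      have hi' := List.mem_range.1 hi
      rcases c with hi5 | c
      · rw [← Nat.eq_of_beq_eq_true hi5, M.map_mul x hx _ (fact_e1 i hi').1]
        exact mul_mem hxK (hEK (hEmem i hi'))
      · obtain ⟨g, hg, hg5⟩ := List.any_eq_true.1 c
        have hg' := List.mem_range.1 hg
        have hi5 := hg5
        have hinvc : ∀ v < 64, M.ι (invS v) = (M.ι v)⁻¹ := fun v hv => eq_inv_of_mul_eq_one_right (by
          rw [← M.map_mul v hv _ (invS_lt hv), fact_invS v hv,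
            M.code_zero])
        rw [← Nat.eq_of_beq_eq_true hi5, M.map_mul _ (cmS_lt hg' hx) _ (fact_e1 i hi').1, cmS,
          M.map_mul _ (mulS_lt (mulS_lt hg' hx) (invS_lt hg')) _ (invS_lt hx),
          M.map_mul _ (mulS_lt hg' hx) _ (invS_lt hg'), M.map_mul g hg' x hx, hinvc g hg', hinvc x hx]
        exact mul_mem (mul_mem ((inferInstance : K.Normal).conj_mem _ hxK _) (inv_mem hxK)) (hEK (hEmem i hi'))
    have h5' := hinv _ h5 (M.code_mem_sylow (by norm_num))
      (by rw [← M.map_mul 5 (by norm_num) 5 (by norm_num), fact_five.1, M.code_zero])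
    exact fact_five.2 (hcode 5 (by norm_num) h5')
  -- `E₁` is a Sylow subgroup of `K`
  set EK := E.subgroupOf K with hEKdef
  obtain ⟨P, hP⟩ := ((M.S.2.to_le hES).comap_subtype (K := K)).exists_le_sylow
  have hPE : (P : Subgroup ↥K) = EK := by
    refine le_antisymm ?_ hP
    obtain ⟨Q, hQ⟩ := (P.2.map K.subtype).exists_le_sylow
    obtain ⟨c, hc⟩ := MulAction.exists_smul_eq G Q M.S
    have himg : ((P : Subgroup ↥K).map K.subtype).map (MulAut.conj c).toMonoidHom ≤ E := by
      rintro _ ⟨y, hy, rfl⟩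
      have hS' : c * y * c⁻¹ ∈ (M.S : Subgroup G) := by
        rw [← hc, Sylow.coe_subgroup_smul]
        exact smul_mem_pointwise_smul _ (MulAut.conj c) _ (hQ hy)
      have hK' : c * y * c⁻¹ ∈ K := (inferInstance : K.Normal).conj_mem _ (map_subtype_le _ hy) c
      obtain ⟨x, hx, ex⟩ := (M.mem _).1 hS'
      show c * y * c⁻¹ ∈ E
      rw [← ex] at hK' ⊢
      exact hcode' x hx (hSK x hx hK')
    have hcard : Nat.card ↥(P : Subgroup ↥K) ≤ Nat.card ↥EK := by
      rw [hEKdef, Nat.card_congr (subgroupOfEquivOfLe hEK).toEquiv,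
        ← card_map_of_injective (K := (P : Subgroup ↥K)) K.subtype_injective,
        ← card_map_of_injective (K := (P : Subgroup ↥K).map K.subtype) (f := (MulAut.conj c).toMonoidHom)
          (MulAut.conj c).injective]
      exact card_le_of_le himg
    exact (eq_of_le_of_card_ge hP hcard).ge
  -- its normaliser in `K` centralises it
  have hcent : normalizer ((P : Subgroup ↥K) : Set ↥K) ≤ centralizer ((P : Subgroup ↥K) : Set ↥K) := by
    rw [hPE]
    set N := normalizer (EK : Set ↥K) with hN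
    obtain ⟨r, hr⟩ : ∃ r, EK.relIndex N = 2 * r + 1 := by
      have h1 : ¬ 2 ∣ EK.index := hPE ▸ P.not_dvd_index
      have h2 : EK.relIndex N ∣ EK.index := relIndex_dvd_index_of_le le_normalizer
      exact Nat.odd_iff.2 (by
        have : ¬ 2 ∣ EK.relIndex N := fun h => h1 (h.trans h2)
        omega)
    -- every element of `N` acts as an element of odd order
    have hacts : ∀ m ∈ N, ∃ f < 512, M.ActsE (m : G) f ∧ oneF (pow21F f) = true := by
      intro m hm
      have himg : ∀ i < 8, ∃ j < 8, (m : G) * M.e1 i * (m : G)⁻¹ = M.e1 j := by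
        intro i hi
        have : (⟨M.e1 i, hEK (hEmem i hi)⟩ : ↥K) ∈ EK := hEmem i hi
        obtain ⟨j, hj, e⟩ := (mem_normalizer_iff.1 hm _).1 this
        exact ⟨j, hj, e.symm⟩
      obtain ⟨a, ha, ea⟩ := himg 1 (by norm_num)
      obtain ⟨b, hb, eb⟩ := himg 2 (by norm_num)
      obtain ⟨c, hc, ec⟩ := himg 4 (by norm_num)
      obtain ⟨k1, k2, k4⟩ := appF_mkF a ha b hb c hc
      have hf := mkF_lt ha hb hc
      have hA : M.ActsE (m : G) (mkF a b c) :=
        M.actsE_of_gens hf (by rw [k1]; exact ea) (by rw [k2]; exact eb) (by rw [k4]; exact ec)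
      refine ⟨_, hf, hA, ?_⟩
      have c0 := List.all_eq_true.1 fact_order _ (List.mem_range.2 hf)
      rw [Bool.or_eq_true, Bool.or_eq_true, Bool.not_eq_true', ActsE.injF M hf hA] at c0
      rcases c0 with (c0 | c0) | c0
      · simp at c0
      · exact c0
      -- order dividing four and an odd number
      obtain ⟨h4, hl4⟩ := ActsE.pow4 M hf hA
      have hc4 := (ActsE.oneF_iff M hl4 h4).1 c0
      obtain ⟨h21, hl21⟩ := ActsE.pow21 M hf hA
      refine (ActsE.oneF_iff M hl21 h21).2 fun i hi => ?_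
      haveI : (EK.subgroupOf N).Normal := normal_in_normalizer
      have hmr : m ^ (2 * r + 1) ∈ EK := by
        rw [← hr]
        have := Subgroup.pow_index_mem (EK.subgroupOf N) (⟨m, hm⟩ : ↥N)
        exact this
      have hcr : ((m : G) ^ (2 * r + 1)) * M.e1 i = M.e1 i * (m : G) ^ (2 * r + 1) := by
        have h1 : ((m ^ (2 * r + 1) : ↥K) : G) ∈ E := hmr
        rw [Subgroup.coe_pow] at h1
        exact congrArg Subtype.val (hab.is_comm.comm ⟨_, h1⟩ ⟨_, hEmem i hi⟩)
      have hco : Nat.Coprime (2 * r + 1) 4 := by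
        rw [show (4 : ℕ) = 2 ^ 2 from rfl]
        exact Nat.Coprime.pow_right 2 (Nat.coprime_two_right.2 ⟨r, rfl⟩)
      have hc1 : Commute (m : G) (M.e1 i) := by
        have e : (m : G) = ((m : G) ^ (2 * r + 1)) ^ Nat.gcdA (2 * r + 1) 4 * ((m : G) ^ 4) ^ Nat.gcdB (2 * r + 1) 4 := by
          rw [← zpow_natCast, ← zpow_natCast, ← zpow_mul, ← zpow_mul, ← zpow_add,
            ← Nat.gcd_eq_gcd_ab, hco.gcd_eq_one, Nat.cast_one, zpow_one]
        rw [e]
        exact ((show Commute _ _ from hcr).zpow_left _).mul_left ((show Commute _ _ from hc4 i hi).zpow_left _)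
      exact hc1.pow_left 21
    intro m hm
    obtain ⟨f, hf, hA, h21⟩ := hacts m hm
    suffices hone : oneF f = true by
      rw [mem_centralizer_iff]
      intro y hy
      obtain ⟨i, hi, e⟩ := (hy : (y : G) ∈ E)
      exact Subtype.ext (by
        show (y : G) * (m : G) = (m : G) * (y : G)
        rw [show (y : G) = M.e1 i from e.symm, (ActsE.oneF_iff M hf hA).1 hone i hi])
    by_contra hne
    have c0 := List.all_eq_true.1 fact_dense _ (List.mem_range.2 hf)
    rw [Bool.or_eq_true, Bool.or_eq_true, Bool.or_eq_true, Bool.not_eq_true', Bool.not_eq_true',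
      ActsE.injF M hf hA, h21] at c0
    rcases c0 with ((c0 | c0) | c0) | c0
    · simp at c0
    · simp at c0
    · exact hne c0
    obtain ⟨g, hg, hg'⟩ := List.any_eq_true.1 c0
    have hg64 := List.mem_range.1 hg
    have hcj : ∀ v < 64, M.ActsE (M.ι v) (cjF v) := fun v hv i hi => by
      have hinvc : M.ι (invS v) = (M.ι v)⁻¹ := eq_inv_of_mul_eq_one_right (by
        rw [← M.map_mul v hv _ (invS_lt hv), fact_invS v hv,
          M.code_zero])
      show M.ι v * M.ι (e1C i) * (M.ι v)⁻¹ = M.ι _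
      rw [← hinvc, ← M.map_mul v hv _ (fact_e1 i hi).1,
        ← M.map_mul _ (mulS_lt hv (fact_e1 i hi).1) _ (invS_lt hv)]
      exact congrArg M.ι ((fact_cjF v hv).2 i hi).2
    have hginv : M.ι (invS g) = (M.ι g)⁻¹ := eq_inv_of_mul_eq_one_right (by
      rw [← M.map_mul g hg64 _ (invS_lt hg64), fact_invS g hg64,
        M.code_zero])
    -- the commutator-like element
    set s := M.ι g
    have hmK : (m : G) * (s * (m : G) ^ 20 * s⁻¹) ∈ K :=
      mul_mem m.2 ((inferInstance : K.Normal).conj_mem _ (pow_mem m.2 20) s)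
    obtain ⟨hA20, hl20⟩ := ActsE.pow20 M hf hA
    have hlg := (fact_cjF g hg64).1
    have hlgi := (fact_cjF (invS g) (invS_lt hg64)).1
    have hA' : M.ActsE ((m : G) * (s * (m : G) ^ 20 * s⁻¹))
        (compF f (compF (cjF g) (compF (pow20F f) (cjF (invS g))))) := by
      rw [mul_assoc s]
      refine ActsE.comp M hf (compF_lt hlg (compF_lt hl20 hlgi)) hA
        (ActsE.comp M hlg (compF_lt hl20 hlgi) (hcj g hg64) (ActsE.comp M hl20 hlgi hA20 ?_))
      show M.ActsE (M.ι g)⁻¹ _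
      rw [← hginv]; exact hcj _ (invS_lt hg64)
    have hl' := compF_lt hf (compF_lt hlg (compF_lt hl20 hlgi))
    have hnorm : (⟨_, hmK⟩ : ↥K) ∈ N := by
      refine Subgroup.mem_normalizer_fintype ?_
      intro y hy
      obtain ⟨i, hi, e⟩ := (hy : (y : G) ∈ E)
      refine ⟨_, appF_lt _ hl' i hi, (hA' i hi).symm.trans ?_⟩
      simp [e]
    obtain ⟨f', hf', hA'', h21'⟩ := hacts _ hnorm
    obtain ⟨hp, hpl⟩ := ActsE.pow21 M hl' hA'
    obtain ⟨hp', hpl'⟩ := ActsE.pow21 M hf' hA''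
    have hfix := (ActsE.oneF_iff M hpl hp).2 ((ActsE.oneF_iff M hpl' hp').1 h21')
    rw [hfix] at hg'
    simp at hg'
  -- Burnside
  set L := (MonoidHom.transferSylow P hcent).ker with hL
  have hcompl := MonoidHom.ker_transferSylow_isComplement' P hcent
  have hLodd : Odd (Nat.card ↥L) := by
    have := MonoidHom.not_dvd_card_ker_transferSylow P hcent
    exact Nat.odd_iff.2 (by rw [hL]; omega)
  have hLbot : L = ⊥ := le_bot_iff.1 (hKodd ▸ Cores.le_oddCore (N := L) hLodd)
  rw [← hL, hLbot, isComplement'_bot_left] at hcompl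
  have hKp : IsPGroup 2 ↥K := by
    have h := P.2
    rw [hcompl] at h
    exact h.of_equiv Subgroup.topEquiv
  have hKle := (le_sSup (s := {N : Subgroup G | N.Normal ∧ IsPGroup 2 ↥N}) ⟨inferInstance, hKp⟩).trans
    (le_of_eq hcore2)
  have := hKle (hEK (hEmem 1 (by norm_num)))
  rw [mem_bot] at this
  exact absurd (M.e1_inj (by norm_num) (by norm_num) (this.trans M.code_zero.symm) : (1 : ℕ) = 0) (by norm_num)

end Mdl

end Cfsg.Agent.Lib.A8Type36
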